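import Cfsg.Agent.Lib.AbTwo.NoGalois
import Cfsg.Agent.Lib.Perm.SharpThreeOdd
import Cfsg.Agent.Lib.Perm.ZasAbelian.Main

/-!
The group is a Zassenhaus group with an abelian kernel, hence `PSL(2, 2 ^ k)`.
-/

set_option autoImplicit false
set_option linter.style.haveILetI false
set_option linter.unusedSectionVars false

namespace Cfsg.Lib.AbTwo

open Subgroup Cfsg Cfsg.Lib.Invol MulAction
open Cfsg.Lib.StrongEmb (kInv)

universe u v

/-- A sharply three-transitive faithful action of odd degree gives `PSL(2, 2 ^ k)` of degree `2 ^ k + 1`. -/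
theorem psl_of_sharp {G : Type u} {Ω : Type v} [Group G] [MulAction G Ω] [Fintype Ω]
    (hf : FaithfulSMul G Ω) (hodd : Odd (Fintype.card Ω)) (h3 : 3 ≤ Fintype.card Ω)
    (htr : IsMultiplyPretransitive G Ω 3)
    (hsharp : ∀ g : G, ∀ a b c : Ω, a ≠ b → b ≠ c → a ≠ c → g • a = a → g • b = b → g • c = c → g = 1) :
    ∃ k : ℕ, Fintype.card Ω = 2 ^ k + 1 ∧ ∃ (F : Type) (_ : Field F) (_ : Fintype F), Fintype.card F = 2 ^ k ∧
      Nonempty (G ≃* Matrix.ProjectiveSpecialLinearGroup (Fin 2) F) := by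
  classical
  haveI := hf
  let φ := MulAction.toPermHom G Ω
  have hφ : Function.Injective φ := MulAction.toPerm_injective
  have htr' : IsMultiplyPretransitive φ.range Ω 3 := by
    rw [isMultiplyPretransitive_iff]
    intro x y
    obtain ⟨g, hg⟩ := (isMultiplyPretransitive_iff.1 htr) x y
    exact ⟨⟨φ g, g, rfl⟩, DFunLike.ext _ _ fun i => DFunLike.congr_fun hg i⟩
  have hsharp' : ∀ g : φ.range, ∀ a b c : Ω, a ≠ b → a ≠ c → b ≠ c →
      g • a = a → g • b = b → g • c = c → g = 1 := by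
    rintro ⟨_, g, rfl⟩ a b c hab hac hbc ha hb hc
    exact Subtype.ext ((congrArg φ (hsharp g a b c hab hbc hac ha hb hc)).trans (map_one φ))
  obtain ⟨k, hk, hcard, F, iF, iFF, hF, ⟨ψ⟩⟩ :=
    Cfsg.Agent.Lib.Perm.SharpThree.recognition φ.range hodd h3 htr' hsharp'
  have hroots : ∀ r : Fˣ, ∃ t : Fˣ, t ^ Fintype.card (Fin 2) = r := fun r => ⟨r ^ (2 ^ (k - 1)), by
    rw [Fintype.card_fin, ← pow_mul, ← pow_succ, Nat.sub_add_cancel hk, ← hF,
      show Fintype.card F = Fintype.card Fˣ + 1 by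
        rw [Fintype.card_units, Nat.sub_add_cancel Fintype.card_pos],
      pow_succ, pow_card_eq_one, one_mul]⟩
  let τ := MulEquiv.ofBijective (Matrix.ProjectiveSpecialLinearGroup.toPGL (n := Fin 2) (R := F))
    ⟨Matrix.ProjectiveSpecialLinearGroup.toPGL_injective,
      Matrix.ProjectiveSpecialLinearGroup.toPGL_surj_of_roots hroots⟩
  exact ⟨k, hcard, F, iF, iFF, hF, ⟨((MonoidHom.ofInjective hφ).trans ψ).trans τ.symm⟩⟩

variable {G : Type u} [Group G] [Fintype G] {H H1 : Subgroup G} {S : Sylow 2 G} {p : ℕ}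

namespace Scalars

variable (h : Setup H S) (c : Scalars H S H1 p)
include h c

/-- A swapper inverts the elements fixing both points. -/
theorem swapper_inverts {a b : G ⧸ H} (hab : a ≠ b) {v y : G} (hv : orderOf v = 2) (hva : v • a = b)
    (hya : y • a = a) (hyb : y • b = b) : v * y * v⁻¹ = y⁻¹ := by
  obtain ⟨g, rfl⟩ := QuotientGroup.mk_surjective a
  have hα : (QuotientGroup.mk g : G ⧸ H) = g • QuotientGroup.mk 1 := mk_eq_smul H g
  rw [hα] at hab hva hya
  have hne : (QuotientGroup.mk 1 : G ⧸ H) ≠ g⁻¹ • b := fun e => hab (by rw [e, smul_inv_smul])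
  have hv' : orderOf (g⁻¹ * v * g) = 2 := by simpa [mul_assoc, hv] using Invol.orderOf_conj_eq g⁻¹ v
  have hsw : (g⁻¹ * v * g) • (QuotientGroup.mk 1 : G ⧸ H) = g⁻¹ • b := by rw [mul_smul, mul_smul, hva]
  have hmem : g⁻¹ * y * g ∈ stabilizer G (QuotientGroup.mk 1 : G ⧸ H) ⊓ stabilizer G (g⁻¹ • b) :=
    mem_inf.2 ⟨by rw [mem_stabilizer_iff, mul_smul, mul_smul, hya, inv_smul_smul],
      by rw [mem_stabilizer_iff, mul_smul, mul_smul, smul_inv_smul, hyb]⟩
  obtain ⟨-, hinv, -⟩ := c.two_scalar h hne hv' hsw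
  have h1 := hinv _ (mem_inf.2 ⟨hmem, by rw [c.scalar_eq h]; exact smul_coset_one_eq.mp (mem_inf.1 hmem).1⟩)
  calc v * y * v⁻¹ = g * ((g⁻¹ * v * g) * (g⁻¹ * y * g) * (g⁻¹ * v * g)⁻¹) * g⁻¹ := by group
    _ = y⁻¹ := by rw [h1]; group

/-- Three-point stabilizers are trivial. -/
theorem three_trivial {g : G} {a b d : G ⧸ H} (hab : a ≠ b) (hbd : b ≠ d) (had : a ≠ d) (ha : g • a = a)
    (hb : g • b = b) (hd : g • d = d) : g = 1 := by
  by_contra hg
  have hnorm : ∀ v : G, v * g * v⁻¹ = g⁻¹ → v ∈ normalizer (zpowers g : Set G) := by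
    intro v hv
    rw [mem_normalizer_iff_map_conj_eq, MonoidHom.map_zpowers]
    show zpowers (v * g * v⁻¹) = zpowers g
    rw [hv, zpowers_inv]
  have hfix : ∀ x : G ⧸ H, zpowers g ≤ stabilizer G x ↔ g • x = x := fun x => zpowers_le
  have hodd : Odd (orderOf g) := odd_orderOf_of_mem (StrongEmb.odd_two h.se hab) (mem_inf.2 ⟨ha, hb⟩)
  obtain ⟨w, hw, hwab⟩ := StrongEmb.exists_swapper h.se hab
  obtain ⟨δ, hδ⟩ := StrongEmb.exists_fix h.se hw
  have hinv := c.swapper_inverts h hab hw hwab ha hb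
  have hmove : ¬ zpowers g ≤ stabilizer G δ := fun e =>
    hg (h.inv_fix_trivial hw hδ ((hfix δ).1 e) hinv hodd)
  have h2 := StrongEmb.two_points h.se hw hδ (by rw [Nat.card_zpowers]; exact hodd) (hnorm w hinv) hmove
    ((hfix a).2 ha) (fun x y hx hy hxy => by
      obtain ⟨v, hv, hvxy⟩ := StrongEmb.exists_swapper h.se hxy
      exact ⟨v, hv, hnorm v (c.swapper_inverts h hxy hv hvxy ((hfix x).1 hx) ((hfix y).1 hy)), hvxy⟩)
    d ((hfix d).2 hd)
  rcases h2 with e | e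
  · exact had e.symm
  · exact hbd (hwab.symm.trans e.symm)

/-- The action on the cosets is that of a Zassenhaus group. -/
theorem zassenhaus : IsZassenhausGroup G (G ⧸ H) := by
  classical
  haveI := h.simple
  obtain ⟨β, hβ⟩ := StrongEmb.exists_ne h.se (QuotientGroup.mk 1)
  refine ⟨⟨fun {x y} e => (inv_mul_eq_one.1 (h.faith (x⁻¹ * y) fun z => by rw [mul_smul, ← e, inv_smul_smul]))⟩,
    ?_, fun g a b d hab hbd had => c.three_trivial h hab hbd had, ?_, fun N hN htr => ?_⟩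
  · have hto : ∀ a b : G ⧸ H, a ≠ b → ∃ g : G, g • a = QuotientGroup.mk 1 ∧ g • b = β := by
      intro a b hab
      obtain ⟨g, rfl⟩ := QuotientGroup.mk_surjective a
      rw [mk_eq_smul H g] at hab ⊢
      have hne : g⁻¹ • b ≠ (QuotientGroup.mk 1 : G ⧸ H) := fun e => hab (by rw [← e, smul_inv_smul])
      obtain ⟨s, hs, -⟩ := c.regular h hne hβ
      exact ⟨(s : G) * g⁻¹, by rw [mul_smul, inv_smul_smul, smul_coset_one_eq]; exact h.sylow_le s.2,
        by rw [mul_smul, hs]⟩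
    rw [is_two_pretransitive_iff]
    intro a b a' b' hab hab'
    obtain ⟨g, hga, hgb⟩ := hto a b hab
    obtain ⟨k, hka, hkb⟩ := hto a' b' hab'
    exact ⟨k⁻¹ * g, by rw [mul_smul, hga, ← hka, inv_smul_smul], by rw [mul_smul, hgb, ← hkb, inv_smul_smul]⟩
  · obtain ⟨u, hu, hsw⟩ := StrongEmb.exists_swapper h.se hβ.symm
    obtain ⟨hcard, -, -⟩ := c.two_scalar h hβ.symm hu hsw
    haveI : Nontrivial ↥(stabilizer G (QuotientGroup.mk 1 : G ⧸ H) ⊓ stabilizer G β ⊓ H1) :=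
      Finite.one_lt_card_iff_nontrivial.1 (by rw [hcard]; have := h.seven_le_kInv; omega)
    obtain ⟨⟨y, hy⟩, hy1⟩ := exists_ne (1 : ↥(stabilizer G (QuotientGroup.mk 1 : G ⧸ H) ⊓ stabilizer G β ⊓ H1))
    exact ⟨y, fun e => hy1 (Subtype.ext e), QuotientGroup.mk 1, β, hβ.symm, hy.1.1, hy.1.2⟩
  · haveI := htr
    rcases hN.eq_bot_or_eq_top with e | e
    · obtain ⟨⟨x, hx⟩, hxβ⟩ := htr.exists_smul_eq (QuotientGroup.mk 1 : G ⧸ H) β
      subst e
      rw [mem_bot] at hx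
      subst hx
      exact absurd (((one_smul G _).symm).trans hxβ).symm hβ
    · subst e
      obtain ⟨t, htE, ht1⟩ := h.exists_mem_omega
      refine ⟨QuotientGroup.mk 1, fun e => ht1 ?_⟩
      have h1 : (⟨t, mem_top t⟩ : (⊤ : Subgroup G)) ∈ stabilizer (⊤ : Subgroup G) (QuotientGroup.mk 1 : G ⧸ H) :=
        smul_coset_one_eq.mpr (h.omega_le htE)
      exact congrArg Subtype.val (mem_bot.1 (le_of_eq e h1))

/-- The group is `PSL(2, 2 ^ k)`. -/
theorem good_psl : IsGoodPSL G := by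
  classical
  haveI : Fintype (G ⧸ H) := Fintype.ofFinite _
  haveI : Fact (Nat.Prime 2) := ⟨Nat.prime_two⟩
  have hZ := c.zassenhaus h
  set α : G ⧸ H := QuotientGroup.mk 1 with hα
  obtain ⟨β, hβ⟩ := StrongEmb.exists_ne h.se α
  have hFle : (S : Subgroup G) ≤ stabilizer G α := fun s hs => smul_coset_one_eq.mpr (h.sylow_le hs)
  have hcard : Nat.card (S : Subgroup G) + 1 = Fintype.card (G ⧸ H) := by
    rw [c.card_sylow h, index, Nat.card_eq_fintype_card]
  have hfix : ∀ u ∈ (S : Subgroup G), u ≠ 1 → ∀ x : G ⧸ H, u • x = x → x = α := fun u hu hu1 x hx => by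
    by_contra hne
    exact hu1 (c.sylow_two_trivial h (Ne.symm hne) (mem_inf.2 ⟨hFle hu, hx⟩) hu)
  have hodd := StrongEmb.odd_two h.se hβ.symm
  have hle := (Cfsg.Lib.Perm.ZasAbelian.bound hZ hβ.symm (S : Subgroup G) hFle hcard hfix
    (fun x hx y hy => comm_of_mem h.abelian hx hy) hodd).1
  have heven : 2 ∣ Nat.card (S : Subgroup G) := by
    obtain ⟨t, htE, ht1⟩ := h.exists_mem_omega
    have h2 := (S : Subgroup G).orderOf_dvd_natCard htE.1
    rwa [orderOf_of_mem_omega htE ht1] at h2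
  have hbig : 8 ≤ Nat.card (S : Subgroup G) := h.big.trans (card_le_of_le fun x hx => hx.1)
  rcases Cfsg.Lib.Perm.ZasAbelian.two_orbits hZ hβ.symm hle with hd | htr
  · exfalso
    obtain ⟨i, hi⟩ := heven
    omega
  obtain ⟨γ, hγα, hγβ⟩ : ∃ γ : G ⧸ H, γ ≠ α ∧ γ ≠ β := by
    by_contra hc
    push Not at hc
    have hsub : (Finset.univ : Finset (G ⧸ H)) ⊆ {α, β} := fun x _ => by
      by_cases hx : x = α
      · simp [hx]
      · simp [hc x hx]
    have h1 := (Finset.card_le_card hsub).trans (Finset.card_le_two)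
    rw [Finset.card_univ] at h1
    omega
  have htr3 : IsMultiplyPretransitive G (G ⧸ H) 3 := by
    have hstd : ∀ s : Fin 3 ↪ G ⧸ H, ∃ g : G, g • s 0 = α ∧ g • s 1 = β ∧ g • s 2 = γ := by
      intro s
      have h01 : s 0 ≠ s 1 := s.injective.ne (by decide)
      obtain ⟨k, hk0, hk1⟩ := is_two_pretransitive_iff.1 hZ.2.1 h01 hβ.symm
      obtain ⟨m, hm0, hm1, hm2⟩ := htr (k • s 2) γ
        (fun e => s.injective.ne (show (2 : Fin 3) ≠ 0 by decide) (MulAction.injective k (e.trans hk0.symm)))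
        (fun e => s.injective.ne (show (2 : Fin 3) ≠ 1 by decide) (MulAction.injective k (e.trans hk1.symm)))
        hγα hγβ
      exact ⟨m * k, by rw [mul_smul, hk0, hm0], by rw [mul_smul, hk1, hm1], by rw [mul_smul, hm2]⟩
    refine ⟨fun s t => ?_⟩
    obtain ⟨g, hg0, hg1, hg2⟩ := hstd s
    obtain ⟨k, hk0, hk1, hk2⟩ := hstd t
    refine ⟨k⁻¹ * g, DFunLike.ext _ _ fun i => ?_⟩
    fin_cases i
    · show (k⁻¹ * g) • s 0 = t 0
      rw [mul_smul, inv_smul_eq_iff, hg0, hk0]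
    · show (k⁻¹ * g) • s 1 = t 1
      rw [mul_smul, inv_smul_eq_iff, hg1, hk1]
    · show (k⁻¹ * g) • s 2 = t 2
      rw [mul_smul, inv_smul_eq_iff, hg2, hk2]
  have hoddn : Odd (Fintype.card (G ⧸ H)) := by
    rw [← hcard]
    exact (even_iff_two_dvd.2 heven).add_one
  obtain ⟨k, hk, F, iF, iFF, hF, hiso⟩ := psl_of_sharp hZ.1 hoddn (by omega) htr3 hZ.2.2.1
  refine ⟨F, iF, iFF, Or.inr ⟨k, ?_, hF⟩, hiso⟩
  by_contra hk2
  have := Nat.pow_le_pow_right two_pos (show k ≤ 1 by omega)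
  omega

end Scalars

end Cfsg.Lib.AbTwo
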