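import Cfsg.Agent.Lib.AbTwo.Embedded
import Cfsg.Agent.Lib.CompositeOrder.Simple
import Cfsg.Agent.S0516
import Cfsg.Agent.S1248

/-!
Simple groups with abelian Sylow 2-subgroups of 2-rank at most two are `PSL(2, q)`, `q ≡ 3, 5 mod 8`.
-/

set_option autoImplicit false
set_option linter.style.haveILetI false

namespace Cfsg.Lib.AbTwo

open Subgroup

universe u

variable {G : Type u} [Group G] [Finite G]

theorem pRankLE_of_omega [Fact (Nat.Prime 2)] (S : Sylow 2 G)
    (hS : IsMulCommutative ↥(S : Subgroup G)) (h4 : Nat.card (omega (S : Subgroup G) hS) ≤ 4) :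
    Cfsg.PRankLE 2 2 G := by
  intro A hA hexp
  have hp : IsPGroup 2 ↥A := fun a => ⟨1, Subtype.ext (by rw [pow_one, SubgroupClass.coe_pow]; exact hexp a a.2)⟩
  obtain ⟨T, hT⟩ := hp.exists_le_sylow
  obtain ⟨g, hg⟩ := MulAction.exists_smul_eq G T S
  refine le_trans ?_ (h4.trans (by norm_num))
  have hsub : A.map (MulAut.conj g).toMonoidHom ≤ omega (S : Subgroup G) hS := by
    rintro _ ⟨a, ha, rfl⟩
    refine ⟨?_, ?_⟩
    · rw [← hg, Sylow.coe_subgroup_smul, ← SetLike.mem_coe]
      exact ⟨a, hT ha, rfl⟩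
    · rw [← map_pow, hexp a ha, map_one]
  exact (Nat.card_congr (A.equivMapOfInjective _ (MulAut.conj g).injective).toEquiv).le.trans (card_le_of_le hsub)

theorem not_isQuasiDihedral_of_comm {S : Type*} [Group S] (hS : IsMulCommutative S) : ¬ Cfsg.IsQuasiDihedral S := by
  rintro ⟨n, hn, -, x, y, hx, -, hxy⟩
  rw [hS.is_comm.comm y x, mul_inv_cancel_right] at hxy
  have h4 : 4 ≤ 2 ^ (n - 1) := le_trans (by norm_num) (Nat.pow_le_pow_right two_pos (show 2 ≤ n - 1 by omega))
  have hlt : 2 ^ (n - 1) < 2 ^ n := Nat.pow_lt_pow_right (by norm_num) (by omega)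
  have h1 : x ^ (2 ^ (n - 1) - 2) = 1 := by
    have h2 : x ^ (2 ^ (n - 1) - 1) = x ^ (2 ^ (n - 1) - 2) * x := by rw [← pow_succ]; congr 1; omega
    rw [h2] at hxy
    exact mul_eq_right.1 hxy.symm
  have := Nat.le_of_dvd (by omega) (orderOf_dvd_of_pow_eq_one h1)
  omega

theorem not_isWreathed_of_comm {S : Type*} [Group S] (hS : IsMulCommutative S) : ¬ Cfsg.IsWreathed S := by
  rintro ⟨n, hn, -, x, y, z, hx, -, hdis, -, hz⟩
  rw [hS.is_comm.comm z x, mul_inv_cancel_right] at hz
  rw [← hz, inf_idem, zpowers_eq_bot] at hdis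
  rw [hdis, orderOf_one] at hx
  have := Nat.one_lt_two_pow (show n ≠ 0 by omega)
  omega

theorem goodPSL_of_rank_two [IsSimpleGroup G] (hna : ¬ IsMulCommutative G) (h : Hyp G) (S : Sylow 2 G)
    (hS : IsMulCommutative ↥(S : Subgroup G)) (h4 : Nat.card (omega (S : Subgroup G) hS) ≤ 4) :
    IsGoodPSL G := by
  classical
  haveI : Fact (Nat.Prime 2) := ⟨Nat.prime_two⟩
  letI : Fintype (GaloisField 2 4) := Fintype.ofFinite _
  have hF : Fintype.card (GaloisField 2 4) = 16 := by
    rw [← Nat.card_eq_fintype_card, GaloisField.card 2 4 (by norm_num)]; norm_num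
  obtain ⟨P⟩ : Nonempty (Sylow 2 (Cfsg.PSU 3 (GaloisField 2 4) 4)) := inferInstance
  rcases Cfsg.Agent.S0516.result hna (pRankLE_of_omega S hS h4) S hF P with
    ⟨n, hn, ⟨e⟩⟩ | hq | hw | ⟨⟨e⟩⟩
  · have hcomm : ∀ a b : DihedralGroup n, a * b = b * a := fun a b => by
      obtain ⟨a, rfl⟩ := e.surjective a
      obtain ⟨b, rfl⟩ := e.surjective b
      rw [← map_mul, ← map_mul, hS.is_comm.comm]
    have h2n : n = 2 := by
      have h1 := hcomm (DihedralGroup.r 1) (DihedralGroup.sr 0)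
      rw [DihedralGroup.r_mul_sr, DihedralGroup.sr_mul_r, DihedralGroup.sr.injEq] at h1
      have h2 : ((2 : ℕ) : ZMod n) = 0 := by
        push_cast
        linear_combination -h1
      have := Nat.le_of_dvd two_pos ((ZMod.natCast_eq_zero_iff 2 n).1 h2)
      omega
    subst h2n
    have hexp : ∀ x ∈ (S : Subgroup G), x ^ 2 = 1 := by
      intro x hx
      have hd : ∀ d : DihedralGroup 2, d ^ 2 = 1 := by decide
      have := congrArg (fun y : ↥(S : Subgroup G) => (y : G)) (e.injective (show e (⟨x, hx⟩ ^ 2) = e 1 by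
        rw [map_pow, map_one]; exact hd _))
      simpa using this
    obtain ⟨F, i, j, h3, h8, he⟩ := CompOrd.psl_of_sylow_four hna S
      (by rw [Nat.card_congr e.toEquiv, DihedralGroup.nat_card]) hexp
    refine ⟨F, i, j, Or.inl ⟨h8, ?_⟩, he⟩
    omega
  · exact absurd hq (not_isQuasiDihedral_of_comm hS)
  · exact absurd hw (not_isWreathed_of_comm hS)
  · exfalso
    obtain ⟨h64, hk, -⟩ := Cfsg.Agent.S1248.result hF P
    have hc : Subgroup.center (P : Subgroup (Cfsg.PSU 3 (GaloisField 2 4) 4)) = ⊤ :=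
      eq_top_iff.2 fun a _ => mem_center_iff.2 fun b => e.symm.injective (by
        rw [map_mul, map_mul]; exact hS.is_comm.comm _ _)
    have h1 := hk.card_four
    rw [hc, card_top, h64] at h1
    omega

end Cfsg.Lib.AbTwo
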