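import Cfsg.Agent.Lib.AbTwo.Reduce
import Cfsg.Agent.Lib.AbTwo.RankTwo
import Cfsg.Agent.Lib.AbTwo.Endgame

/-!
Simple groups with abelian Sylow 2-subgroups and solvable centralizers of involutions are `PSL(2, q)`.
-/

set_option autoImplicit false
set_option linter.style.haveILetI false

namespace Cfsg.Lib.AbTwo

open Subgroup

universe u

/-- The simple case. -/
theorem goodPSL_of_simple {T : Type u} [Group T] [Finite T] [IsSimpleGroup T] (hna : ¬ IsMulCommutative T)
    (hT : Hyp T) : IsGoodPSL T := by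
  haveI : Fact (Nat.Prime 2) := ⟨Nat.prime_two⟩
  obtain ⟨S⟩ : Nonempty (Sylow 2 T) := inferInstance
  have hS := hT.abelian S
  by_cases h4 : Nat.card (omega (S : Subgroup T) hS) ≤ 4
  · exact goodPSL_of_rank_two hna hT S hS h4
  have h8 : 8 ≤ Nat.card (omega (S : Subgroup T) hS) := by
    have hp : IsPGroup 2 ↥(omega (S : Subgroup T) hS) := S.2.to_le fun x hx => hx.1
    obtain ⟨k, hk⟩ := hp.exists_card_eq
    rw [hk] at h4 ⊢
    have : 3 ≤ k := by
      by_contra hlt
      exact h4 (le_trans (Nat.pow_le_pow_right two_pos (show k ≤ 2 by omega)) (by norm_num))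
    exact le_trans (by norm_num) (Nat.pow_le_pow_right two_pos this)
  obtain ⟨H, hH, hHs, hNH⟩ := exists_stronglyEmbedded hna hT S hS h8
  letI := Fintype.ofFinite T
  have h : Setup H S := ⟨hH, hHs, hS, hNH, h8, inferInstance⟩
  obtain ⟨H1, p, c⟩ := h.exists_scalars
  exact c.good_psl h

/-- Groups with abelian Sylow 2-subgroups and solvable centralizers of involutions. -/
theorem concl {G : Type u} [Group G] [Finite G] (h : Hyp G) : Concl G :=
  concl_of_simple (fun _ _ _ _ _ hna hT => goodPSL_of_simple hna hT) h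

end Cfsg.Lib.AbTwo
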