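import Cfsg.Prelude.Def_CaseTheorems
import Cfsg.Agent.S0205
import Cfsg.Agent.Lib.Core.Cores
import Cfsg.Agent.Lib.Core.PSolvable
import Cfsg.Agent.Lib.Sig.PConstrained

/-!
Finite groups with abelian Sylow 2-subgroups and solvable involution centralizers: the hypothesis, the
conclusion and the structure of solvable groups with abelian Sylow 2-subgroups.
-/

set_option autoImplicit false
set_option linter.style.haveILetI false

namespace Cfsg.Lib.AbTwo

open Subgroup
open scoped commutatorElement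

universe u

/-- Abelian Sylow 2-subgroups and solvable involution centralizers. -/
structure Hyp (G : Type u) [Group G] : Prop where
  abelian : ∀ S : Sylow 2 G, IsMulCommutative ↥(S : Subgroup G)
  solv : ∀ t : G, orderOf t = 2 → Group.IsSolvable ↥(centralizer ({t} : Set G))

/-- The field sizes allowed. -/
def GoodField (q : ℕ) : Prop :=
  ((q % 8 = 3 ∨ q % 8 = 5) ∧ 5 ≤ q) ∨ (∃ n : ℕ, 2 ≤ n ∧ q = 2 ^ n)

/-- Being `PSL(2, q)` with an allowed `q`. -/
def IsGoodPSL (G : Type u) [Group G] : Prop :=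
  ∃ (F : Type) (_ : Field F) (_ : Fintype F), GoodField (Fintype.card F) ∧
    Nonempty (G ≃* Matrix.ProjectiveSpecialLinearGroup (Fin 2) F)

/-- Solvable, or a normal `PSL(2, q)` with trivial centralizer modulo the odd core. -/
def Concl (G : Type u) [Group G] : Prop :=
  Group.IsSolvable G ∨
    ∃ (F : Type) (_ : Field F) (_ : Fintype F), GoodField (Fintype.card F) ∧
      ∃ N : Subgroup (G ⧸ Cfsg.oddCore G), N.Normal ∧
        Nonempty (↥N ≃* Matrix.ProjectiveSpecialLinearGroup (Fin 2) F) ∧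
        centralizer (N : Set (G ⧸ Cfsg.oddCore G)) = ⊥

/-- The theorem for groups of order less than `n`. -/
def ConclBelow (n : ℕ) : Prop :=
  ∀ (K : Type u) [Group K] [Finite K], Nat.card K < n → Hyp K → Concl K

variable {G : Type u} [Group G] [Finite G]

theorem isSolvable_of_odd {H : Subgroup G} (h : Odd (Nat.card H)) : Group.IsSolvable ↥H :=
  Cfsg.Agent.S0205.result h

theorem odd_oddCore : Odd (Nat.card (Cfsg.oddCore G)) :=
  Nat.coprime_two_right.1 (Core.pPrimeCore_coprime 2 G)

theorem not_dvd_of_odd {n : ℕ} (h : Odd n) : ¬ 2 ∣ n := fun h2 => by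
  rw [Nat.odd_iff] at h; omega

omit [Finite G] in
theorem comm_of_mem {S : Subgroup G} (hS : IsMulCommutative ↥S) {x y : G} (hx : x ∈ S) (hy : y ∈ S) :
    x * y = y * x :=
  congrArg Subtype.val (hS.is_comm.comm ⟨x, hx⟩ ⟨y, hy⟩)

/-- One abelian Sylow subgroup makes all of them abelian. -/
theorem abelian_of_one [Fact (Nat.Prime 2)] (S : Sylow 2 G) (hS : IsMulCommutative ↥(S : Subgroup G))
    (T : Sylow 2 G) : IsMulCommutative ↥(T : Subgroup G) :=
  ⟨⟨fun a b => ((T.equiv S : (T : Subgroup G) ≃* (S : Subgroup G))).injective (by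
    rw [map_mul, map_mul]; exact hS.is_comm.comm _ _)⟩⟩

omit [Finite G] in
theorem Hyp.subgroup (h : Hyp G) (H : Subgroup G) : Hyp ↥H := by
  haveI : Fact (Nat.Prime 2) := ⟨Nat.prime_two⟩
  constructor
  · intro S
    obtain ⟨T, hT⟩ := (S.2.map H.subtype).exists_le_sylow
    refine ⟨⟨fun a b => Subtype.ext (Subtype.ext ?_)⟩⟩
    exact comm_of_mem (h.abelian T) (hT ⟨a, a.2, rfl⟩) (hT ⟨b, b.2, rfl⟩)
  · intro t ht
    haveI := h.solv (t : G) (by rw [Subgroup.orderOf_coe, ht])
    let f : ↥(centralizer ({t} : Set ↥H)) →* ↥(centralizer ({(t : G)} : Set G)) :=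
      (H.subtype.comp (centralizer ({t} : Set ↥H)).subtype).codRestrict _ fun x =>
        mem_centralizer_singleton_iff.2 (congrArg Subtype.val (mem_centralizer_singleton_iff.1 x.2))
    exact Group.isSolvable_of_isSolvable_injective (f := f) fun a b e =>
      Subtype.ext (Subtype.ext (congrArg (fun x : ↥(centralizer ({(t : G)} : Set G)) => (x : G)) e))


omit [Finite G] in
theorem isSolvable_sup {W N : Subgroup G} (hN : N ≤ normalizer (W : Set G)) [Group.IsSolvable ↥W]
    [Group.IsSolvable ↥N] : Group.IsSolvable ↥(W ⊔ N) := by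
  set M := W ⊔ N with hM
  have hWn : M ≤ normalizer (W : Set G) := sup_le le_normalizer hN
  haveI : (W.subgroupOf M).Normal := normal_subgroupOf_of_le_normalizer hWn
  haveI : Group.IsSolvable ↥(W.subgroupOf M) :=
    Group.isSolvable_of_isSolvable_injective (f := (subgroupOfEquivOfLe (show W ≤ M from le_sup_left)).toMonoidHom)
      (MulEquiv.injective _)
  set f : ↥N →* ↥M ⧸ W.subgroupOf M :=
    (QuotientGroup.mk' (W.subgroupOf M)).comp (inclusion (show N ≤ M from le_sup_right))
  have hf : Function.Surjective f := by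
    intro q
    obtain ⟨⟨m, hm⟩, rfl⟩ := QuotientGroup.mk'_surjective _ q
    obtain ⟨n, hn, w, hw, rfl⟩ : ∃ n ∈ N, ∃ w ∈ W, n * w = m := by
      have : m ∈ N ⊔ W := sup_comm W N ▸ hm
      exact (Core.mem_sup_of_le_normalizer hN).1 this
    refine ⟨⟨n, hn⟩, QuotientGroup.eq.2 (mem_subgroupOf.2 ?_)⟩
    simpa using hw
  haveI : Group.IsSolvable (↥M ⧸ W.subgroupOf M) := Group.isSolvable_of_surjective hf
  exact Group.isSolvable_of_ker_le_range (W.subgroupOf M).subtype (QuotientGroup.mk' (W.subgroupOf M))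
    (by simp)

/-- The solvable radical. -/
def solvRad (G : Type u) [Group G] : Subgroup G :=
  sSup {N : Subgroup G | N.Normal ∧ Group.IsSolvable ↥N}

omit [Finite G] in
theorem le_solvRad {N : Subgroup G} [hN : N.Normal] (h : Group.IsSolvable ↥N) : N ≤ solvRad G :=
  le_sSup ⟨hN, h⟩

theorem solvRad_mem : (solvRad G).Normal ∧ Group.IsSolvable ↥(solvRad G) :=
  Core.sSup_mem_of_sup_mem (S := {N : Subgroup G | N.Normal ∧ Group.IsSolvable ↥N})
    ⟨inferInstance, inferInstance⟩ fun a ha b hb => by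
      haveI := ha.1; haveI := hb.1; haveI := ha.2; haveI := hb.2
      exact ⟨Subgroup.sup_normal a b, isSolvable_sup (by rw [normalizer_eq_top]; exact le_top)⟩

section Solvable

variable [Fact (Nat.Prime 2)]

/-- In a solvable group without odd core an abelian Sylow 2-subgroup is normal and self-centralizing. -/
theorem sylow_normal_of_core [Group.IsSolvable G] (S : Sylow 2 G) (hS : IsMulCommutative ↥(S : Subgroup G))
    (hO : Cfsg.oddCore G = ⊥) :
    (S : Subgroup G).Normal ∧ centralizer ((S : Subgroup G) : Set G) ≤ (S : Subgroup G) := by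
  have hC := Core.centralizer_pCore_le_of_isPSolvable (p := 2) Core.isPSolvable_of_isSolvable hO
  have hle : Cfsg.pCore 2 G ≤ (S : Subgroup G) := Core.pCore_le_sylow S
  have hSC : (S : Subgroup G) ≤ Cfsg.pCore 2 G := fun x hx =>
    hC (mem_centralizer_iff.2 fun y hy => comm_of_mem hS (hle hy) hx)
  have he : (S : Subgroup G) = Cfsg.pCore 2 G := le_antisymm hSC hle
  refine ⟨?_, ?_⟩
  · rw [he]; infer_instance
  · rw [he]; exact hC

/-- The image of a Sylow subgroup modulo the odd core is normal and self-centralizing. -/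
theorem sylow_image [Group.IsSolvable G] (S : Sylow 2 G) (hS : IsMulCommutative ↥(S : Subgroup G)) :
    ((S : Subgroup G).map (QuotientGroup.mk' (Cfsg.oddCore G))).Normal ∧
      centralizer (((S : Subgroup G).map (QuotientGroup.mk' (Cfsg.oddCore G))) : Set (G ⧸ Cfsg.oddCore G)) ≤
        (S : Subgroup G).map (QuotientGroup.mk' (Cfsg.oddCore G)) := by
  set f := QuotientGroup.mk' (Cfsg.oddCore G)
  have hf : Function.Surjective f := QuotientGroup.mk'_surjective _
  set T : Sylow 2 (G ⧸ Cfsg.oddCore G) := S.mapSurjective hf with hTdef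
  have hT : IsMulCommutative ↥(T : Subgroup (G ⧸ Cfsg.oddCore G)) := by
    refine ⟨⟨?_⟩⟩
    rintro ⟨_, a, ha, rfl⟩ ⟨_, b, hb, rfl⟩
    exact Subtype.ext (by simp only [MulMemClass.coe_mul]; rw [← map_mul, comm_of_mem hS ha hb, map_mul])
  exact sylow_normal_of_core T hT Core.pPrimeCore_quotient_eq_bot

/-- An odd subgroup normalized by a Sylow 2-subgroup lies in the odd core. -/
theorem odd_le_oddCore [Group.IsSolvable G] (S : Sylow 2 G) (hS : IsMulCommutative ↥(S : Subgroup G))
    {Q : Subgroup G} (hQ : Odd (Nat.card Q)) (hSQ : (S : Subgroup G) ≤ normalizer (Q : Set G)) :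
    Q ≤ Cfsg.oddCore G := by
  obtain ⟨hn, hc⟩ := sylow_image S hS
  set f := QuotientGroup.mk' (Cfsg.oddCore G) with hf
  have hdis : Q.map f ⊓ (S : Subgroup G).map f = ⊥ := by
    refine Subgroup.eq_bot_of_card_eq _ ?_
    obtain ⟨k, hk⟩ := (S.2.map f).exists_card_eq
    refine Nat.eq_one_of_dvd_coprimes (b := Nat.card ((S : Subgroup G).map f)) ?_
      (card_dvd_of_le inf_le_left) (card_dvd_of_le inf_le_right)
    rw [hk]
    refine Nat.Coprime.pow_right k (Nat.Coprime.coprime_dvd_left (card_map_dvd Q f) ?_)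
    exact Nat.coprime_two_right.2 hQ
  intro q hq
  have h1 : f q ∈ (S : Subgroup G).map f := hc (mem_centralizer_iff.2 fun s hs => by
    have h2 : s * f q * s⁻¹ * (f q)⁻¹ ∈ (S : Subgroup G).map f := by
      rw [show s * f q * s⁻¹ * (f q)⁻¹ = s * (f q * s⁻¹ * (f q)⁻¹) by group]
      exact mul_mem hs (hn.conj_mem _ (inv_mem hs) _)
    have h3 : s * f q * s⁻¹ * (f q)⁻¹ ∈ Q.map f := by
      obtain ⟨a, ha, rfl⟩ := hs
      refine ⟨a * q * a⁻¹ * q⁻¹, mul_mem ((mem_normalizer_iff.1 (hSQ ha) q).1 hq) (inv_mem hq), ?_⟩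
      simp only [map_mul, map_inv]
    have h4 : s * f q * s⁻¹ * (f q)⁻¹ = 1 := mem_bot.1 (hdis ▸ mem_inf.2 ⟨h3, h2⟩)
    calc s * f q = (s * f q * s⁻¹ * (f q)⁻¹) * f q * s := by group
      _ = f q * s := by rw [h4, one_mul])
  have h5 : f q = 1 := mem_bot.1 (hdis ▸ mem_inf.2 ⟨mem_map_of_mem f hq, h1⟩)
  exact (QuotientGroup.eq_one_iff q).1 h5

/-- A solvable group with abelian Sylow 2-subgroup is the odd core times a Sylow normalizer. -/
theorem core_sup_normalizer [Group.IsSolvable G] (S : Sylow 2 G) (hS : IsMulCommutative ↥(S : Subgroup G)) :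
    Cfsg.oddCore G ⊔ normalizer ((S : Subgroup G) : Set G) = ⊤ := by
  obtain ⟨hn, -⟩ := sylow_image S hS
  set N := ((S : Subgroup G).map (QuotientGroup.mk' (Cfsg.oddCore G))).comap (QuotientGroup.mk' (Cfsg.oddCore G))
  haveI : N.Normal := hn.comap _
  have hSN : (S : Subgroup G) ≤ N := le_comap_map _ _
  have h := Sylow.normalizer_sup_eq_top' S hSN
  rw [eq_top_iff, ← h]
  refine sup_le le_sup_right ?_
  intro x hx
  obtain ⟨s, hs, he⟩ := mem_comap.1 hx
  have h1 : s⁻¹ * x ∈ Cfsg.oddCore G := QuotientGroup.eq.1 he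
  have h2 : x = s * (s⁻¹ * x) := by group
  rw [h2]
  exact mul_mem (mem_sup_right (le_normalizer hs)) (mem_sup_left h1)

end Solvable

end Cfsg.Lib.AbTwo
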