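import Cfsg.Agent.Lib.AbTwo.Setting
import Cfsg.Agent.Lib.E8Cent.Block
import Cfsg.Agent.Lib.StrongEmb.TwoNilp

/-!
The principal 2-block on the cosets of the core at the non-identity elements of the Sylow subgroup, and
character sums over pairs of conjugates.
-/

set_option autoImplicit false
set_option linter.style.haveILetI false
set_option linter.unusedSectionVars false
set_option maxHeartbeats 400000

namespace Cfsg.Lib.AbTwo

open Subgroup Cfsg Cfsg.Lib.Invol Cfsg.Lib.Block Cfsg.Lib.E8Cent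
open Cfsg.Lib.StrongEmb.TwoNilp (fixDim avg_eq permChar classInner_permChar isClassFunction_permChar)
open scoped ComplexConjugate

universe u

variable {G : Type u} [Group G] [Fintype G] {H : Subgroup G} {S : Sylow 2 G}

/-- A sum over pairs from two classes. -/
theorem pair_formula (a b : G) (w : G → ℂ) :
    ∑ q ∈ Char.classFinset a ×ˢ Char.classFinset b, w (q.1 * q.2) =
      ((Char.classFinset a).card : ℂ) * (Char.classFinset b).card / (Nat.card G : ℂ) *
        ∑ χ : IrrCharacter G, (χ : G → ℂ) a * (χ : G → ℂ) b / (χ : G → ℂ) 1 *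
          ∑ z : G, w z * conj ((χ : G → ℂ) z) := by
  classical
  rw [← Finset.sum_fiberwise (Char.classFinset a ×ˢ Char.classFinset b) (fun q => q.1 * q.2)]
  calc _ = ∑ z : G, (((Char.classFinset a ×ˢ Char.classFinset b).filter fun q => q.1 * q.2 = z).card : ℂ) * w z :=
        Finset.sum_congr rfl fun z _ => by
          rw [Finset.sum_congr rfl (g := fun _ => w z) fun q hq => by rw [(Finset.mem_filter.1 hq).2],
            Finset.sum_const, nsmul_eq_mul]
    _ = _ := by
        rw [Finset.sum_congr rfl fun z _ => by rw [Char.card_class_product a b z]]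
        simp only [Finset.mul_sum, Finset.sum_mul]
        rw [Finset.sum_comm]
        exact Finset.sum_congr rfl fun χ _ => Finset.sum_congr rfl fun z _ => by ring

open Classical in
theorem sum_mem_conj (K : Subgroup G) (χ : IrrCharacter G) :
    ∑ z : G, (if z ∈ K then (1 : ℂ) else 0) * conj ((χ : G → ℂ) z) = (Nat.card K : ℂ) * fixDim K χ := by
  haveI := Fintype.ofFinite K
  have h := congrArg conj (avg_eq K χ)
  simp only [map_mul, map_inv₀, Complex.conj_natCast, map_sum] at h
  rw [← h, ← mul_assoc, mul_inv_cancel₀ (Nat.cast_ne_zero.2 Nat.card_pos.ne'), one_mul]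
  simp only [ite_mul, one_mul, zero_mul, ← Finset.sum_filter]
  exact Finset.sum_subtype _ (by simp) _

theorem sum_fixDim_mul (K : Subgroup G) (g : G) :
    ∑ χ : IrrCharacter G, (fixDim K χ : ℂ) * (χ : G → ℂ) g = permChar K g := by
  classical
  haveI := Fintype.ofFinite K
  conv_rhs => rw [Char.eq_sum_classInner (isClassFunction_permChar K)]
  simp only [Finset.sum_apply, Pi.smul_apply, smul_eq_mul, classInner_permChar]

theorem mem_classFinset_iff (h : Setup H S) {t v : G} (ht : orderOf t = 2) :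
    v ∈ Char.classFinset t ↔ orderOf v = 2 := by
  rw [Char.mem_classFinset]
  refine ⟨fun hc => ?_, fun hv => se_isConj h.se ht hv⟩
  obtain ⟨g, rfl⟩ := isConj_iff.1 hc
  rw [Invol.orderOf_conj_eq, ht]

namespace Setup

variable (h : Setup H S)
include h

set_option maxHeartbeats 1000000 in
open Classical in
/-- A character summed over a coset of the core at a non-identity element of the Sylow subgroup. -/
theorem sum_coset {M : Ideal AlgInt} (hM : IsPModular 2 M) {s : G} (hs : s ∈ (S : Subgroup G)) (hs1 : s ≠ 1)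
    (χ : IrrCharacter G) : ∑ x : ↥(core H), (χ : G → ℂ) (s * x) =
      if χ ∈ principalBlock M G then (Nat.card (core H) : ℂ) * (χ : G → ℂ) s else 0 := by
  haveI : Fact (Nat.Prime 2) := ⟨Nat.prime_two⟩
  set C := centralizer ({s} : Set G) with hC
  haveI := Fintype.ofFinite C
  have hCH : C ≤ H := h.centralizer_le hs hs1
  haveI := h.solv
  haveI hCsolv : Group.IsSolvable ↥C := Group.isSolvable_of_isSolvable_injective (f := inclusion hCH) (inclusion_injective _)
  have hSC : (S : Subgroup G) ≤ C := sylow_le_centralizer S h.abelian hs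
  set O := Cfsg.oddCore ↥C with hO
  have hOdd : ¬ 2 ∣ Nat.card O := not_dvd_of_odd odd_oddCore
  obtain ⟨hQn, hQc⟩ := sylow_image (S.subtype hSC) (subtype_sylow_comm S h.abelian hSC)
  haveI := hQn
  have hQ2 : IsPGroup 2 ↥(((S.subtype hSC : Sylow 2 C) : Subgroup C).map (QuotientGroup.mk' O)) :=
    (S.subtype hSC).isPGroup'.map _
  have hsu : ∃ k : ℕ, orderOf s = 2 ^ k := by
    obtain ⟨k, hk⟩ := IsPGroup.iff_orderOf.1 S.2 ⟨s, hs⟩
    exact ⟨k, by rw [← hk, Subgroup.orderOf_mk]⟩
  have hHu : ∀ y : C, Commute s (y : G) := fun y => (mem_centralizer_singleton_iff.1 y.2).symm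
  have hsC : s ∈ C := mem_centralizer_singleton_iff.2 rfl
  -- the sum over the core of the centralizer
  have hfine : ∑ y : O, (χ : G → ℂ) (s * ((y : C) : G)) =
      if χ ∈ principalBlock M G then (Nat.card O : ℂ) * (χ : G → ℂ) s else 0 := by
    split_ifs with hχ
    · rw [Finset.sum_congr rfl (g := fun _ => (χ : G → ℂ) s) fun (y : ↥O) _ =>
        Cfsg.Agent.S0942.result 2 M hM s hsu ((y : C) : G) (mem_map_of_mem C.subtype y.2) χ hχ,
        Finset.sum_const, Finset.card_univ, nsmul_eq_mul, ← Nat.card_eq_fintype_card]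
    · have hind : indSet M C (principalBlock M G) = principalBlock M C := indSet_principal hM hsu hHu le_rfl
      have hindB : IsInducedBlock M C (principalBlock M C) (principalBlock M G) := by
        have h' : trivChar C ∈ indSet M C (principalBlock M G) := by rw [hind]; exact trivChar_mem_principal hM
        have e := eq_blockOf_of_mem hM isPBlock_principal (trivChar_mem_principal (G := C) hM)
        rw [e]
        exact h'
      have hr1 : IsPRegular 2 (1 : C) := by simp [IsPRegular]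
      have hh := sum_blockCoeff_mul_char_eq_zero hM hindB (centralizer_pPt_le hsu hHu le_rfl hr1 hsC) hχ
      simp only [blockCoeff_principal hM hOdd hQ2 hQc, ite_mul, zero_mul, ← Finset.sum_filter] at hh
      rw [← Finset.mul_sum, mul_eq_zero] at hh
      have h' := hh.resolve_left (inv_ne_zero (Nat.cast_ne_zero.2 Nat.card_pos.ne'))
      rw [Finset.sum_subtype _ (p := fun k => k ∈ O) (by simp) _] at h'
      refine Eq.trans (Finset.sum_congr rfl fun k _ => ?_) h'
      simpa using congrArg (χ : G → ℂ) (hHu (k : C)).eq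
  -- conjugation spreads it evenly over the coset
  have hOX : ∀ y : O, ((y : C) : G) ∈ core H := fun y => ((h.mem_theta_iff hs hs1).1 ⟨(y : C), y.2, rfl⟩).2
  have hmem : ∀ (x : core H) (y : O), s⁻¹ * ((x : G) * (s * ((y : C) : G)) * (x : G)⁻¹) ∈ core H := by
    intro x y
    rw [show s⁻¹ * ((x : G) * (s * ((y : C) : G)) * (x : G)⁻¹) =
      (s⁻¹ * (x : G) * s⁻¹⁻¹) * ((y : C) : G) * (x : G)⁻¹ by group]
    exact mul_mem (mul_mem (StrongEmb.conj_mem_of_norm (core_norm H (inv_mem (h.sylow_le hs))) x.2) (hOX y))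
      (inv_mem x.2)
  set f : ↥(core H) × O → ↥(core H) := fun q => ⟨_, hmem q.1 q.2⟩
  have hppt : ∀ y : O, pPt 2 (s * ((y : C) : G)) = s := fun y => by
    refine pPt_mul_reg hsu (hHu (y : C)) ?_
    rw [IsPRegular, orderOf_submonoid]
    exact not_dvd_of_odd (odd_orderOf_of_mem odd_oddCore y.2)
  have hfib : ∀ q₀ : ↥(core H) × O, (Finset.univ.filter fun q => f q = f q₀).card = Nat.card O := by
    rintro ⟨x₀, y₀⟩
    rw [← Fintype.card_subtype, ← Nat.card_eq_fintype_card]
    refine Nat.card_congr (Equiv.ofBijective (fun q => (⟨⟨(x₀ : G)⁻¹ * (q.1.1 : G), ?_⟩, ?_⟩ : O)) ⟨?_, ?_⟩)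
    · obtain ⟨⟨x, y⟩, hq⟩ := q
      have e : (x : G) * (s * ((y : C) : G)) * (x : G)⁻¹ = (x₀ : G) * (s * ((y₀ : C) : G)) * (x₀ : G)⁻¹ :=
        mul_left_cancel (congrArg Subtype.val hq)
      have e2 := congrArg (pPt 2) e
      rw [pPt_conj, pPt_conj, hppt, hppt] at e2
      rw [mem_centralizer_singleton_iff]
      calc (x₀ : G)⁻¹ * x * s = (x₀ : G)⁻¹ * ((x : G) * s * (x : G)⁻¹) * x := by group
        _ = (x₀ : G)⁻¹ * ((x₀ : G) * s * (x₀ : G)⁻¹) * x := by rw [e2]
        _ = s * ((x₀ : G)⁻¹ * x) := by group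
    · obtain ⟨⟨x, y⟩, hq⟩ := q
      have hc : (x₀ : G)⁻¹ * (x : G) ∈ core H := mul_mem (inv_mem x₀.2) x.2
      have e : (x : G) * (s * ((y : C) : G)) * (x : G)⁻¹ = (x₀ : G) * (s * ((y₀ : C) : G)) * (x₀ : G)⁻¹ :=
        mul_left_cancel (congrArg Subtype.val hq)
      have e2 := congrArg (pPt 2) e
      rw [pPt_conj, pPt_conj, hppt, hppt] at e2
      have hcom : Commute ((x₀ : G)⁻¹ * (x : G)) s := by
        show (x₀ : G)⁻¹ * x * s = s * ((x₀ : G)⁻¹ * x)
        calc (x₀ : G)⁻¹ * x * s = (x₀ : G)⁻¹ * ((x : G) * s * (x : G)⁻¹) * x := by group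
          _ = (x₀ : G)⁻¹ * ((x₀ : G) * s * (x₀ : G)⁻¹) * x := by rw [e2]
          _ = s * ((x₀ : G)⁻¹ * x) := by group
      obtain ⟨⟨w, hwC⟩, hw, hwe⟩ := (h.mem_theta_iff hs hs1).2 ⟨hcom, hc⟩
      simp only [coe_subtype] at hwe
      have e3 : (⟨(x₀ : G)⁻¹ * (x : G), hwe ▸ hwC⟩ : C) = ⟨w, hwC⟩ := Subtype.ext hwe.symm
      exact e3 ▸ hw
    · rintro ⟨⟨x, y⟩, hq⟩ ⟨⟨x', y'⟩, hq'⟩ e
      have hx : x = x' := Subtype.ext (mul_left_cancel (congrArg (fun z : O => ((z : C) : G)) e))
      subst hx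
      have e' : (x : G) * (s * ((y : C) : G)) * (x : G)⁻¹ = (x : G) * (s * ((y' : C) : G)) * (x : G)⁻¹ :=
        mul_left_cancel (congrArg Subtype.val (hq.trans hq'.symm))
      obtain rfl : y = y' := Subtype.ext (Subtype.ext (mul_left_cancel (mul_left_cancel (mul_right_cancel e'))))
      rfl
    · intro c
      refine ⟨⟨(⟨(x₀ : G) * ((c : C) : G), mul_mem x₀.2 (hOX c)⟩,
        ⟨(c : C)⁻¹ * (y₀ : C) * (c : C), by
          simpa using (inferInstance : O.Normal).conj_mem _ y₀.2 (c : C)⁻¹⟩), ?_⟩,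
        Subtype.ext (Subtype.ext (inv_mul_cancel_left _ _))⟩
      apply Subtype.ext
      show s⁻¹ * ((x₀ : G) * ((c : C) : G) * (s * (((c : C) : G)⁻¹ * ((y₀ : C) : G) * ((c : C) : G))) *
        ((x₀ : G) * ((c : C) : G))⁻¹) = s⁻¹ * ((x₀ : G) * (s * ((y₀ : C) : G)) * (x₀ : G)⁻¹)
      rw [show s * (((c : C) : G)⁻¹ * ((y₀ : C) : G) * ((c : C) : G)) =
        ((c : C) : G)⁻¹ * (s * ((y₀ : C) : G)) * ((c : C) : G) by
          rw [← mul_assoc, ← mul_assoc, (hHu (c : C)).inv_right.eq]; group]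
      group
  have hsurj : Finset.univ.image f = Finset.univ := by
    refine Finset.eq_univ_of_card _ (Nat.eq_of_mul_eq_mul_right (Nat.card_pos (α := O)) ?_)
    have h1 := Finset.card_eq_sum_card_image f (Finset.univ : Finset (↥(core H) × O))
    rw [Finset.sum_congr rfl (g := fun _ => Nat.card O) fun w hw => by
      obtain ⟨q, -, rfl⟩ := Finset.mem_image.1 hw
      exact hfib q, Finset.sum_const, Finset.card_univ, Fintype.card_prod, smul_eq_mul] at h1
    rw [← h1, Nat.card_eq_fintype_card (α := O)]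
  have key : (Nat.card O : ℂ) * ∑ x : ↥(core H), (χ : G → ℂ) (s * x) =
      (Nat.card (core H) : ℂ) * ∑ y : O, (χ : G → ℂ) (s * ((y : C) : G)) := by
    calc (Nat.card O : ℂ) * ∑ x : ↥(core H), (χ : G → ℂ) (s * x)
        = ∑ q : ↥(core H) × O, (χ : G → ℂ) (s * (f q : G)) := by
          rw [← Finset.sum_fiberwise (Finset.univ : Finset (↥(core H) × O)) f, Finset.mul_sum]
          refine Finset.sum_congr rfl fun w _ => ?_
          obtain ⟨q₀, -, rfl⟩ := Finset.mem_image.1 (hsurj ▸ Finset.mem_univ w : w ∈ Finset.univ.image f)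
          rw [Finset.sum_congr rfl (g := fun _ => (χ : G → ℂ) (s * (f q₀ : G))) fun q hq => by
            rw [(Finset.mem_filter.1 hq).2], Finset.sum_const, nsmul_eq_mul, hfib q₀]
      _ = _ := by
          rw [Fintype.sum_prod_type]
          simp only [f, mul_inv_cancel_left]
          rw [Finset.sum_congr rfl (g := fun _ => ∑ y : O, (χ : G → ℂ) (s * ((y : C) : G))) fun x _ =>
            Finset.sum_congr rfl fun y _ => χ.2.isClassFunction _ _,
            Finset.sum_const, Finset.card_univ, nsmul_eq_mul, ← Nat.card_eq_fintype_card]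
  have hO0 : (Nat.card O : ℂ) ≠ 0 := Nat.cast_ne_zero.2 Nat.card_pos.ne'
  rw [hfine] at key
  split_ifs at key ⊢ with hχ
  · exact mul_left_cancel₀ hO0 (key.trans (by ring))
  · exact (mul_eq_zero.1 (key.trans (mul_zero _))).resolve_left hO0

open Classical in
/-- A combination of characters summed over a coset of the core. -/
theorem sum_coset_comb {M : Ideal AlgInt} (hM : IsPModular 2 M) [Fintype (principalBlock M G)] {s : G}
    (hs : s ∈ (S : Subgroup G)) (hs1 : s ≠ 1) (co : IrrCharacter G → ℂ) :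
    ∑ x : ↥(core H), ∑ χ : IrrCharacter G, co χ * (χ : G → ℂ) (s * x) =
      (Nat.card (core H) : ℂ) * ∑ χ ∈ (principalBlock M G).toFinset, co χ * (χ : G → ℂ) s := by
  rw [Finset.sum_comm, Finset.mul_sum]
  refine ((Finset.sum_subset (Finset.subset_univ (principalBlock M G).toFinset) fun χ _ hχ => ?_).symm).trans
    (Finset.sum_congr rfl fun χ hχ => ?_)
  · rw [← Finset.mul_sum, h.sum_coset hM hs hs1, if_neg fun e => hχ (Set.mem_toFinset.2 e), mul_zero]
  · rw [← Finset.mul_sum, h.sum_coset hM hs hs1, if_pos (Set.mem_toFinset.1 hχ)]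
    ring

/-- Conjugates of a coset element of an involution meet subgroups between the base and `H` exactly at `H`. -/
theorem conj_coset_mem_iff {t : G} (ht : t ∈ H) (ht2 : orderOf t = 2) {K : Subgroup G} (hRK : base H S ≤ K)
    (hKH : K ≤ H) {x : G} (hx : x ∈ core H) (g : G) : g * (t * x) * g⁻¹ ∈ K ↔ g ∈ H := by
  refine ⟨fun hg => ?_, fun hg => hRK (h.conj_base hg (mul_mem (h.two_elt_mem_base ht (k := 1)
    (by rw [ht2, pow_one])) (mem_sup_right hx)))⟩
  have h1 := pow_mem (hKH hg) (orderOf x)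
  rw [conj_pow, ((h.commute_core ht ht2 hx).symm).mul_pow, pow_orderOf_eq_one, mul_one] at h1
  obtain ⟨i, hi⟩ := odd_orderOf_of_mem (odd_core H) hx
  rw [hi, pow_succ, pow_mul, pow_two, Invol.inv_mul_self ht2, one_pow, one_mul] at h1
  exact se_mem h.se ht ht2 h1

theorem permChar_coset {t : G} (ht : t ∈ H) (ht2 : orderOf t = 2) {K : Subgroup G} (hRK : base H S ≤ K)
    (hKH : K ≤ H) {x : G} (hx : x ∈ core H) : permChar K (t * x) = (Nat.card H : ℂ) / Nat.card K := by
  classical
  rw [permChar, inv_mul_eq_div]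
  congr 1
  rw [Finset.sum_boole, ← Fintype.card_subtype, ← Nat.card_eq_fintype_card, Nat.cast_inj]
  exact Nat.card_congr (Equiv.subtypeEquivRight fun g => h.conj_coset_mem_iff ht ht2 hRK hKH hx g)

end Setup

end Cfsg.Lib.AbTwo
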