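import Cfsg.Agent.Lib.AbTwo.SylowP
import Mathlib.GroupTheory.Transfer

/-!
Swappers act trivially on the semilinear parts, and a two-point stabilizer covers them.
-/

set_option autoImplicit false
set_option linter.style.haveILetI false
set_option linter.unusedSectionVars false

namespace Cfsg.Lib.AbTwo

open Subgroup Cfsg Cfsg.Lib.Invol MulAction
open Cfsg.Lib.StrongEmb (kInv kPart invSet conj_mem_of_norm Frame IsSyl)

universe u

variable {G : Type u} [Group G] [Finite G] {H H1 : Subgroup G} {S : Sylow 2 G} {p : ℕ}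

theorem mem_of_two {β : G ⧸ H} {y : G} (hy : y ∈ stabilizer G (QuotientGroup.mk 1 : G ⧸ H) ⊓ stabilizer G β) :
    y ∈ H := smul_coset_one_eq.mp (mem_inf.1 hy).1

namespace Scalars

variable (h : Setup H S) (c : Scalars H S H1 p)
include h c

set_option maxHeartbeats 800000 in
/-- A swapper acts trivially on the semilinear parts of the two-point stabilizer. -/
theorem galois {β : G ⧸ H} (hβ : QuotientGroup.mk 1 ≠ β) {u d : G} (hu : orderOf u = 2)
    (hsw : u • (QuotientGroup.mk 1 : G ⧸ H) = β)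
    (hd : d ∈ stabilizer G (QuotientGroup.mk 1 : G ⧸ H) ⊓ stabilizer G β) :
    u * d * u⁻¹ * d⁻¹ ∈ H1 := by
  classical
  haveI := Fact.mk c.prime
  set α : G ⧸ H := QuotientGroup.mk 1 with hα
  set D := stabilizer G α ⊓ stabilizer G β with hD
  have hnD : u ∈ normalizer (D : Set G) := StrongEmb.swapper_norm hu hsw
  obtain ⟨P, hP, -, hPn⟩ := StrongEmb.exists_invariant_isSyl (p := p) hu hnD (StrongEmb.odd_two h.se hβ) ⊥
    IsPGroup.of_bot bot_le (by rw [normalizer_eq_top]; trivial)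
  have F : Frame H p α β u P := ⟨hβ, hu, hsw, hP, hPn⟩
  obtain ⟨hfix, hcardR, z, hzP, hzi, hz1, hzR, hgen⟩ := c.frame_struct h F
  obtain ⟨K, iK, iKF, ψ, hψ⟩ := c.units
  have hzD : z ∈ D := hP.1 hzP
  have hdH : d ∈ H := mem_of_two hd
  set d' := u * d * u⁻¹ with hd'
  have hd'D : d' ∈ D := conj_mem_of_norm hnD hd
  have hd'H : d' ∈ H := mem_of_two hd'D
  obtain ⟨r, hr⟩ := F.syl.isPGroup ⟨z, hzP⟩
  have hzr : z ^ p ^ r = 1 := by simpa using congrArg Subtype.val hr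
  have hdz1 : d * z * d⁻¹ ∈ H1 := conj_mem_of_norm (c.norm hdH) hz1
  obtain ⟨i, hκ⟩ := hgen _ hdz1 ⟨r, by rw [conj_pow, hzr]; simp⟩
  set κ := (z ^ i)⁻¹ * (d * z * d⁻¹) with hκdef
  have hκD : κ ∈ D := mul_mem (inv_mem (zpow_mem hzD i)) (mul_mem (mul_mem hd hzD) (inv_mem hd))
  set κ' := u * κ * u⁻¹ with hκ'def
  have hκ' : κ' = z ^ i * (d' * z⁻¹ * d'⁻¹) := by
    have e1 : u * (z ^ i)⁻¹ * u⁻¹ = z ^ i := by
      rw [← conj_inv, ← conj_zpow, hzi, inv_zpow, inv_inv]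
    rw [hκ'def, hκdef, hd', show u * ((z ^ i)⁻¹ * (d * z * d⁻¹)) * u⁻¹ =
      (u * (z ^ i)⁻¹ * u⁻¹) * ((u * d * u⁻¹) * (u * z * u⁻¹) * (u * d * u⁻¹)⁻¹) by group, e1, hzi]
  have hdz1' : d' * z⁻¹ * d'⁻¹ ∈ H1 := conj_mem_of_norm (c.norm hd'H) (inv_mem hz1)
  have hκ'1 : κ' ∈ H1 := hκ' ▸ mul_mem (zpow_mem hz1 i) hdz1'
  -- its image is a `p`-element
  have hp1 : ψ ⟨κ', hκ'1⟩ ^ p ^ r = 1 := by
    have e : (⟨κ', hκ'1⟩ : H1) = ⟨z, hz1⟩ ^ i * ⟨d' * z⁻¹ * d'⁻¹, hdz1'⟩ := Subtype.ext hκ'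
    have ez : ψ ⟨z, hz1⟩ ^ p ^ r = 1 := by
      rw [← map_pow, show (⟨z, hz1⟩ : H1) ^ p ^ r = 1 from Subtype.ext (by simpa using hzr), map_one]
    have ew : ψ ⟨d' * z⁻¹ * d'⁻¹, hdz1'⟩ ^ p ^ r = 1 := by
      rw [← map_pow, show (⟨d' * z⁻¹ * d'⁻¹, hdz1'⟩ : H1) ^ p ^ r = 1 from Subtype.ext (by
        rw [SubgroupClass.coe_pow, conj_pow, inv_pow, hzr]; simp), map_one]
    rw [e, map_mul, map_zpow, mul_pow, ew, mul_one, ← zpow_natCast, ← zpow_mul, mul_comm, zpow_mul, zpow_natCast,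
      ez, one_zpow]
  -- and of order prime to `p`
  obtain ⟨N, hNcop, hNp⟩ : ∃ N, Nat.Coprime p N ∧
      Nat.card (base H S) = p ^ (Nat.card (base H S)).factorization p * N :=
    ⟨_, Nat.coprime_ordCompl c.prime Nat.card_pos.ne', (Nat.ordProj_mul_ordCompl_eq_self _ p).symm⟩
  have hp2 : ψ ⟨κ', hκ'1⟩ ^ N = 1 := by
    set R0 := base H S ⊓ D with hR0
    have hy : κ ^ N ∈ R0 := pow_mem (mem_inf.2 ⟨hκ, hκD⟩) _
    have hyp : IsPGroup p (zpowers (κ ^ N)) := by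
      have h1 : (κ ^ N) ^ p ^ (Nat.card (base H S)).factorization p = 1 := by
        rw [← pow_mul, mul_comm, ← hNp]
        exact orderOf_dvd_iff_pow_eq_one.1 ((base H S).orderOf_dvd_natCard hκ)
      obtain ⟨e, -, he⟩ := (Nat.dvd_prime_pow c.prime).1 (orderOf_dvd_of_pow_eq_one h1)
      exact IsPGroup.of_card (n := e) (by rw [Nat.card_zpowers, he])
    obtain ⟨Q, hQ, hyQ⟩ := StrongEmb.exists_isSyl (K := R0) (zpowers (κ ^ N)) hyp (zpowers_le.2 hy)
    have hPR : IsSyl p R0 (P ⊓ base H S) := by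
      refine ⟨le_inf inf_le_right (inf_le_left.trans hP.1), le_antisymm
        (StrongEmb.card_le_of_le (F.syl.isPGroup.to_le inf_le_left)
          (le_inf inf_le_right (inf_le_left.trans hP.1))) ?_⟩
      rw [hcardR]
      exact Nat.pow_le_pow_right c.prime.pos
        ((Nat.factorization_le_iff_dvd Nat.card_pos.ne' Nat.card_pos.ne').2 (card_dvd_of_le inf_le_left) p)
    obtain ⟨a, ha, hQa⟩ := hPR.exists_conj hQ
    obtain ⟨y₀, hy₀, hy₀e⟩ : ∃ y₀ ∈ P ⊓ base H S, a * y₀ * a⁻¹ = κ ^ N := by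
      have := hyQ (mem_zpowers (κ ^ N))
      rw [hQa] at this
      exact this
    have hy₀u : Commute y₀ u := hfix y₀ (mem_inf.1 hy₀).1 (mem_inf.1 hy₀).2
    have e : κ' ^ N = (u * a * u⁻¹) * y₀ * (u * a * u⁻¹)⁻¹ := by
      rw [hκ'def, conj_pow, ← hy₀e]
      calc u * (a * y₀ * a⁻¹) * u⁻¹ = (u * a * u⁻¹) * (u * y₀ * u⁻¹) * (u * a * u⁻¹)⁻¹ := by group
        _ = _ := by rw [← hy₀u.eq, mul_inv_cancel_right]
    rw [← map_pow, hψ]
    show κ' ^ N ∈ base H S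
    rw [e]
    exact h.conj_base (mem_of_two (conj_mem_of_norm hnD (mem_inf.1 ha).2)) (mem_inf.1 hy₀).2
  have hψκ : ψ ⟨κ', hκ'1⟩ = 1 := orderOf_eq_one_iff.1 (Nat.eq_one_of_dvd_coprimes
    (Nat.Coprime.pow_left r hNcop) (orderOf_dvd_of_pow_eq_one hp1) (orderOf_dvd_of_pow_eq_one hp2))
  have hκ'R : κ' ∈ base H S := (hψ _).1 hψκ
  -- compare the two actions on `z`
  set a := d⁻¹ * d' with ha
  have haz : a * z * a⁻¹ * z⁻¹ ∈ base H S := by
    have e1 : d' * z * d'⁻¹ = κ'⁻¹ * z ^ i := by rw [hκ']; group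
    have e2 : z ^ i = d * z * d⁻¹ * κ⁻¹ := by rw [hκdef]; group
    have e : a * z * a⁻¹ * z⁻¹ = (d⁻¹ * κ'⁻¹ * d) * (z * (d⁻¹ * κ⁻¹ * d) * z⁻¹) := by
      rw [ha, show d⁻¹ * d' * z * (d⁻¹ * d')⁻¹ * z⁻¹ = d⁻¹ * (d' * z * d'⁻¹) * d * z⁻¹ by group, e1, e2]
      group
    rw [e]
    have hc : ∀ y ∈ base H S, d⁻¹ * y * d ∈ base H S := fun y hy => by
      simpa using h.conj_base (inv_mem hdH) hy
    exact mul_mem (hc _ (inv_mem hκ'R)) (h.conj_base (c.le hz1) (hc _ (inv_mem hκ)))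
  have haH1 : a ∈ H1 := c.key a (mul_mem (inv_mem hdH) hd'H) z hz1 hzR
    ⟨r, by rw [hzr]; exact one_mem _⟩ haz
  rw [show d' * d⁻¹ = d * a * d⁻¹ by rw [ha]; group]
  exact conj_mem_of_norm (c.norm hdH) haH1

/-- Inverted elements of two-point stabilizers are scalar. -/
theorem inverted_mem {β : G ⧸ H} (hβ : QuotientGroup.mk 1 ≠ β) {u j : G} (hu : orderOf u = 2)
    (hsw : u • (QuotientGroup.mk 1 : G ⧸ H) = β)
    (hj : j ∈ stabilizer G (QuotientGroup.mk 1 : G ⧸ H) ⊓ stabilizer G β) (hinv : u * j * u⁻¹ = j⁻¹) :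
    j ∈ H1 := by
  have h1 := c.galois h hβ hu hsw hj
  rw [hinv, ← mul_inv_rev, inv_mem_iff] at h1
  obtain ⟨t, ht⟩ := (StrongEmb.odd_two h.se hβ).of_dvd_nat (Subgroup.orderOf_dvd_natCard _ hj)
  have h2 := pow_mem h1 (t + 1)
  rwa [← pow_two, ← pow_mul, show 2 * (t + 1) = orderOf j + 1 by omega, pow_succ, pow_orderOf_eq_one, one_mul]
    at h2

/-- A two-point stabilizer covers the quotient by the scalar part. -/
theorem cover {β : G ⧸ H} (hβ : QuotientGroup.mk 1 ≠ β) {g : G} (hg : g ∈ H) :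
    ∃ d ∈ stabilizer G (QuotientGroup.mk 1 : G ⧸ H) ⊓ stabilizer G β, d⁻¹ * g ∈ H1 := by
  classical
  set α : G ⧸ H := QuotientGroup.mk 1 with hα
  set D := stabilizer G α ⊓ stabilizer G β with hD
  have hDH : D ≤ H := fun y hy => mem_of_two hy
  set N := (H1 ⊔ D).subgroupOf H with hN
  haveI : (H1 ⊔ D).FiniteIndex := inferInstance
  have hcommN : ∀ a b : ↥H, a * b * a⁻¹ * b⁻¹ ∈ N := fun a b =>
    mem_subgroupOf.2 (mem_sup_left (c.comm a a.2 b b.2))
  haveI hNn : N.Normal := ⟨fun n hn a => by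
    have := mul_mem (hcommN a n) hn
    rwa [inv_mul_cancel_right] at this⟩
  letI : CommGroup (↥H ⧸ N) := { (inferInstance : Group (↥H ⧸ N)) with
    mul_comm := fun a b => by
      obtain ⟨a, rfl⟩ := QuotientGroup.mk'_surjective N a
      obtain ⟨b, rfl⟩ := QuotientGroup.mk'_surjective N b
      have h1 : QuotientGroup.mk' N (a * b * a⁻¹ * b⁻¹) = 1 := (QuotientGroup.eq_one_iff _).2 (hcommN a b)
      rw [map_mul, map_mul, map_mul, map_inv, map_inv, mul_inv_eq_one, mul_inv_eq_iff_eq_mul] at h1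
      exact h1 }
  suffices hmem : ∀ y : ↥H, y ∈ N by
    have h1 : g ∈ H1 ⊔ D := mem_subgroupOf.1 (hmem ⟨g, hg⟩)
    rw [sup_comm] at h1
    obtain ⟨d, hd, x, hx, rfl⟩ := (Core.mem_sup_of_le_normalizer (hDH.trans c.norm)).1 h1
    exact ⟨d, hd, by rwa [inv_mul_cancel_left]⟩
  intro y
  set φ : ↥H →* ↥H ⧸ N := QuotientGroup.mk' N
  haveI := h.simple
  have hT : MonoidHom.transfer φ (y : G) = 1 := by
    rcases (inferInstance : (MonoidHom.transfer φ).ker.Normal).eq_bot_or_eq_top with e | e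
    · exfalso
      have hinj : Function.Injective (MonoidHom.transfer φ) := (MonoidHom.ker_eq_bot_iff _).1 e
      haveI : H.Normal := ⟨fun n hn a => by
        rwa [show a * n * a⁻¹ = n from hinj (by rw [map_mul, map_mul, map_inv, mul_comm (MonoidHom.transfer φ a),
          mul_inv_cancel_right])]⟩
      rcases (inferInstance : H.Normal).eq_bot_or_eq_top with e' | e'
      · have := h.se.2.1; rw [e', card_bot] at this; exact absurd this (by decide)
      · exact h.se.1 e'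
    · exact MonoidHom.mem_ker.1 (e ▸ mem_top (y : G))
  haveI : Fintype (Quotient (orbitRel (zpowers (y : G)) (G ⧸ H))) := Fintype.ofFinite _
  rw [MonoidHom.transfer_eq_prod_quotient_orbitRel_zpowers_quot φ (y : G)] at hT
  set q₀ : Quotient (orbitRel (zpowers (y : G)) (G ⧸ H)) := Quotient.mk'' α with hq₀
  have hyα : (y : G) • α = α := smul_coset_one_eq.mpr y.2
  have hfix : ∀ z ∈ zpowers (y : G), z • α = α := fun z hz =>
    mem_stabilizer_iff.1 (zpowers_le.2 (mem_stabilizer_iff.2 hyα) hz)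
  have hout : q₀.out = α := by
    have h1 : (Quotient.mk'' q₀.out : Quotient (orbitRel (zpowers (y : G)) (G ⧸ H))) = Quotient.mk'' α :=
      Quotient.out_eq' q₀
    obtain ⟨⟨z, hz⟩, hze⟩ := Quotient.exact' h1
    exact hze.symm.trans (hfix z hz)
  rw [Finset.prod_eq_single q₀] at hT
  · have hmp : Function.minimalPeriod ((y : G) • ·) q₀.out = 1 := by
      rw [hout]
      exact Function.minimalPeriod_eq_one_iff_isFixedPt.2 hyα
    have hcH : q₀.out.out ∈ H := by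
      have h1 : (QuotientGroup.mk q₀.out.out : G ⧸ H) = α := (QuotientGroup.out_eq' _).trans hout
      rwa [hα, QuotientGroup.eq, mul_one, inv_mem_iff] at h1
    have e : φ (⟨q₀.out.out, hcH⟩⁻¹ * y * ⟨q₀.out.out, hcH⟩) = 1 := by
      rw [← hT]
      exact congrArg φ (Subtype.ext (by simp [hmp]))
    rw [map_mul, map_mul, map_inv, mul_comm (φ ⟨_, hcH⟩)⁻¹, inv_mul_cancel_right] at e
    exact (QuotientGroup.eq_one_iff y).1 e
  · intro q _ hne
    refine (QuotientGroup.eq_one_iff _).2 (mem_subgroupOf.2 ?_)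
    set cq := q.out.out with hcq
    set e := cq⁻¹ * (y : G) ^ Function.minimalPeriod ((y : G) • ·) q.out * cq with he
    show e ∈ H1 ⊔ D
    have hcq' : (QuotientGroup.mk cq : G ⧸ H) = q.out := QuotientGroup.out_eq' _
    have heH : e ∈ H := QuotientGroup.out_conj_pow_minimalPeriod_mem H (y : G) q.out
    set γ := cq⁻¹ • α with hγ
    have heγ : e • γ = γ := by
      rw [he, hγ, mul_smul, mul_smul, smul_inv_smul, hfix _ (pow_mem (mem_zpowers _) _)]
    have hγne : α ≠ γ := fun e' => hne (by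
      have h1 : cq • α = α := by
        conv_lhs => rw [e']
        exact smul_inv_smul cq α
      have h2 : q.out = α := by rw [← hcq', mk_eq_smul]; exact h1
      rw [← q.out_eq', h2])
    obtain ⟨k, hkα, hkβ⟩ := h.pretransitive hβ hγne
    have hkH : k ∈ H := smul_coset_one_eq.mp hkα
    have hd : k⁻¹ * e * k ∈ D := by
      refine mem_inf.2 ⟨?_, ?_⟩ <;> rw [mem_stabilizer_iff, mul_smul, mul_smul]
      · rw [hkα, smul_coset_one_eq.mpr heH, inv_smul_eq_iff, hkα]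
      · rw [hkβ, heγ, inv_smul_eq_iff, hkβ]
    have h3 := mul_mem (mem_sup_left (T := D) (c.comm k hkH _ (hDH hd))) (mem_sup_right (S := H1) hd)
    rwa [inv_mul_cancel_right, show k * (k⁻¹ * e * k) * k⁻¹ = e by group] at h3
  · exact fun hn => absurd (Finset.mem_univ _) hn

end Scalars

end Cfsg.Lib.AbTwo
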