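import Cfsg.Agent.Lib.AbTwo.Induced
import Cfsg.Agent.Lib.AbTwo.Galois

/-!
The core of the strongly embedded subgroup is trivial and its scalar part is transitive on the involutions.
-/

set_option autoImplicit false
set_option linter.style.haveILetI false
set_option linter.unusedSectionVars false
set_option maxHeartbeats 1000000

namespace Cfsg.Lib.AbTwo

open Subgroup Cfsg Cfsg.Lib.Invol MulAction Cfsg.Lib.Block
open Cfsg.Lib.StrongEmb (kInv invSet)
open Cfsg.Lib.StrongEmb.TwoNilp (fixDim avg_eq apply_one_eq_dim permChar sum_degree_fixDim fixDim_anti)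
open scoped ComplexConjugate

universe u

variable {G : Type u} [Group G] [Fintype G] {H H1 : Subgroup G} {S : Sylow 2 G} {p : ℕ}

namespace Scalars

variable (h : Setup H S) (c : Scalars H S H1 p)
include h c

theorem relIndex_cent_dvd {t : G} (ht : t ∈ H) (ht2 : orderOf t = 2) :
    H1.relIndex (centralizer ({t} : Set G)) ∣ H1.relIndex H := by
  haveI : (H1.subgroupOf H).Normal := (normal_subgroupOf_iff_le_normalizer c.le).mpr c.norm
  have hCH : centralizer ({t} : Set G) ≤ H := fun g hg =>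
    se_centralizer h.se ht ht2 (mem_centralizer_singleton_iff.1 hg)
  rw [← relIndex_subgroupOf (H := H1) hCH]
  exact relIndex_dvd_index_of_normal (H := H1.subgroupOf H) ((centralizer ({t} : Set G)).subgroupOf H)

theorem inf_cent {t : G} (ht : t ∈ H) (ht2 : orderOf t = 2) :
    H1 ⊓ centralizer ({t} : Set G) = base H S := by
  refine le_antisymm (fun y hy => c.cent t ht2 ht y hy.1 (mem_centralizer_singleton_iff.1 hy.2))
    (le_inf c.base_le fun y hy => mem_centralizer_singleton_iff.2 ?_)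
  exact (h.commute_omega hy (h.invol_mem_omega ht ht2)).eq

theorem mul_mem_of_mem {a b : G} (ha : orderOf a = 2) (hb : orderOf b = 2) (hab : a * b ∈ H) (haH : a ∉ H) :
    let β : G ⧸ H := a • QuotientGroup.mk 1
    QuotientGroup.mk 1 ≠ β ∧
      a * b ∈ stabilizer G (QuotientGroup.mk 1 : G ⧸ H) ⊓ stabilizer G β ∧ a * (a * b) * a⁻¹ = (a * b)⁻¹ := by
  intro β
  have hne : QuotientGroup.mk 1 ≠ β := fun e => haH (smul_coset_one_eq.mp e.symm)
  have h1 : (a * b) • (QuotientGroup.mk 1 : G ⧸ H) = QuotientGroup.mk 1 := smul_coset_one_eq.mpr hab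
  have hbα : b • (QuotientGroup.mk 1 : G ⧸ H) = β := by
    rw [mul_smul] at h1
    rw [← StrongEmb.swap_back ha h1]
  have hbβ : b • β = QuotientGroup.mk 1 := StrongEmb.swap_back hb hbα
  refine ⟨hne, mem_inf.2 ⟨h1, ?_⟩, ?_⟩
  · rw [mem_stabilizer_iff, mul_smul, hbβ]
  · rw [mul_inv_rev, Invol.inv_eq_self ha, Invol.inv_eq_self hb, ← mul_assoc, Invol.inv_mul_self ha, one_mul]

/-- The core is trivial and the scalar part is transitive. -/
theorem core_eq_bot : core H = ⊥ ∧ Nat.card H1 = kInv H * Nat.card (S : Subgroup G) := by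
  classical
  haveI : Fact (Nat.Prime 2) := ⟨Nat.prime_two⟩
  haveI := h.simple
  obtain ⟨t, htE, ht1⟩ := h.exists_mem_omega
  have htH := h.omega_le htE
  have ht2 := orderOf_of_mem_omega htE ht1
  have htS : t ∈ (S : Subgroup G) := htE.1
  obtain ⟨M, hM⟩ := exists_isPModular (q := 2) Nat.prime_two
  set B := (principalBlock M G).toFinset with hB
  set X := core H with hX
  set R := base H S with hR
  set C := centralizer ({t} : Set G) with hC
  have hCH : C ≤ H := fun g hg => se_centralizer h.se htH ht2 (mem_centralizer_singleton_iff.1 hg)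
  have hRH : R ≤ H := h.base_le
  have hXR : X ≤ R := le_sup_right
  have hR1 : R ≤ H1 := c.base_le
  -- the numbers
  set n : ℝ := (H.index : ℝ) with hn
  set k : ℝ := (kInv H : ℝ) with hk
  set gC : ℝ := (H1.relIndex C : ℝ) with hgC
  set g : ℝ := (H1.relIndex H : ℝ) with hg
  set cS : ℝ := (Nat.card (S : Subgroup G) : ℝ) with hcS
  have hcardC : Nat.card C = H1.relIndex C * Nat.card R := by
    rw [hR, ← c.inf_cent h htH ht2, ← inf_relIndex_right, relIndex_mul_card' inf_le_right]
  have hcardH : Nat.card H = kInv H * Nat.card C := (h.card_centralizer_mul htH ht2).symm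
  have hcard1 : H1.relIndex H * Nat.card H1 = Nat.card H := relIndex_mul_card' c.le
  have hk0 : 0 < k := Nat.cast_pos.2 (StrongEmb.kInv_pos h.se)
  have hn0 : 0 < n := Nat.cast_pos.2 (Nat.pos_of_ne_zero index_ne_zero_of_finite)
  have hn1 : (1 : ℝ) < n := by
    rw [hn]
    exact_mod_cast (lt_of_le_of_ne (Nat.pos_of_ne_zero index_ne_zero_of_finite) fun e =>
      h.se.1 (index_eq_one.1 e.symm))
  have hgle : gC ≤ g := Nat.cast_le.2 (Nat.le_of_dvd (Nat.pos_of_ne_zero fun e => by
    rw [e, zero_mul] at hcard1; exact Nat.card_pos.ne hcard1) (c.relIndex_cent_dvd h htH ht2))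
  have hclass : (Char.classFinset t).card = H.index * kInv H := by
    rw [Char.card_classFinset]
    refine Nat.eq_of_mul_eq_mul_right (Nat.card_pos (α := C)) ?_
    rw [← hC, index_mul_card, ← index_mul_card H, hcardH, mul_assoc]
  -- the characters
  set x : IrrCharacter G → ℝ := fun χ => ((χ : G → ℂ) t).re
  set f : IrrCharacter G → ℝ := fun χ => (χ.2.choose : ℝ)
  set dR : IrrCharacter G → ℝ := fun χ => (fixDim R χ : ℝ)
  set d1 : IrrCharacter G → ℝ := fun χ => (fixDim H1 χ : ℝ)
  set dX : IrrCharacter G → ℝ := fun χ => (fixDim X χ : ℝ)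
  set a : IrrCharacter G → ℝ := fun χ => dR χ - d1 χ
  have hxreal : ∀ χ : IrrCharacter G, conj ((χ : G → ℂ) t) = (χ : G → ℂ) t := fun χ => by
    rw [← χ.2.isCharacter.apply_inv, Invol.inv_eq_self ht2]
  have hx : ∀ χ : IrrCharacter G, (χ : G → ℂ) t = (x χ : ℂ) := fun χ => (Complex.conj_eq_iff_re.1 (hxreal χ)).symm
  have hf : ∀ χ, 0 < f χ := fun χ => by
    have : χ.2.choose ≠ 0 := fun e => χ.2.apply_one_ne_zero (by rw [apply_one_eq_dim, e, Nat.cast_zero])
    simp only [f]; positivity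
  have ha : ∀ χ, 0 ≤ a χ := fun χ => sub_nonneg.2 (Nat.cast_le.2 (fixDim_anti hR1 χ))
  -- degrees
  have eF : ∀ K : Subgroup G, ∑ χ, f χ * (fixDim K χ : ℝ) = (Nat.card G : ℝ) / Nat.card K := by
    intro K
    haveI := Fintype.ofFinite K
    have h1 := sum_degree_fixDim K
    simp only [apply_one_eq_dim] at h1
    apply Complex.ofReal_injective
    push_cast [f]
    exact h1
  -- values
  have eX : ∀ K : Subgroup G, R ≤ K → K ≤ H →
      (∑ χ, x χ * (fixDim K χ : ℝ) = (Nat.card H : ℝ) / Nat.card K) ∧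
      (∑ χ ∈ B, x χ * (fixDim K χ : ℝ) = (Nat.card H : ℝ) / Nat.card K) := by
    intro K hRK hKH
    have hval : ∀ y : X, ∑ χ : IrrCharacter G, (fixDim K χ : ℂ) * (χ : G → ℂ) (t * y) =
        (Nat.card H : ℂ) / Nat.card K := fun y => by
      rw [sum_fixDim_mul, h.permChar_coset htH ht2 hRK hKH y.2]
    constructor
    · have h1 := hval 1
      simp only [OneMemClass.coe_one, mul_one, hx] at h1
      apply Complex.ofReal_injective
      push_cast
      rw [← h1]
      exact Finset.sum_congr rfl fun χ _ => mul_comm _ _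
    · have h1 := h.sum_coset_comb hM htS ht1 (fun χ => (fixDim K χ : ℂ))
      rw [Finset.sum_congr rfl fun (y : X) _ => hval y, Finset.sum_const, Finset.card_univ, nsmul_eq_mul,
        ← Nat.card_eq_fintype_card] at h1
      have h2 := mul_left_cancel₀ (Nat.cast_ne_zero.2 (Nat.card_pos (α := X)).ne') h1
      simp only [hx] at h2
      apply Complex.ofReal_injective
      push_cast
      rw [h2]
      exact Finset.sum_congr rfl fun χ _ => mul_comm _ _
  -- pairs of involutions with product in a subgroup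
  set Kt := Char.classFinset t with hKt
  have hmem : ∀ {v : G}, v ∈ Kt ↔ orderOf v = 2 := fun {v} => mem_classFinset_iff h ht2
  have ePair : ∀ K : Subgroup G, ((n * k) ^ 2 * Nat.card K) * ∑ χ, x χ * x χ / f χ * (fixDim K χ : ℝ) =
      (Nat.card G : ℝ) * (((Kt ×ˢ Kt).filter fun q => q.1 * q.2 ∈ K).card : ℝ) := by
    intro K
    haveI := Fintype.ofFinite K
    have h1 := pair_formula t t (fun z => if z ∈ K then (1 : ℂ) else 0)
    simp only [sum_mem_conj, Finset.sum_boole, ← hKt, hclass, hx, apply_one_eq_dim] at h1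
    apply Complex.ofReal_injective
    push_cast [n, k, f]
    rw [h1]
    have hG : (Nat.card G : ℂ) ≠ 0 := Char.card_cast_ne_zero
    push_cast
    simp only [Finset.mul_sum]
    refine Finset.sum_congr rfl fun χ _ => ?_
    have := hG
    field_simp
  -- the pairs
  set I := Kt.filter fun v => v ∈ H with hI
  have hIcard : I.card = kInv H := by
    rw [hI, kInv, Nat.card_eq_fintype_card, Fintype.card_subtype]
    congr 1
    ext v
    simp [hmem]
  have hpairH : ((Kt ×ˢ Kt).filter fun q => q.1 * q.2 ∈ H).card = H.index * kInv H * kInv H := by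
    have hone : ∀ v ∈ Kt, (Kt.filter fun w => v * w ∈ H).card = kInv H := by
      intro v hv
      have hv2 := hmem.1 hv
      have hiff : ∀ w, w ∈ Kt.filter (fun w => v * w ∈ H) ↔
          orderOf w = 2 ∧ w • (QuotientGroup.mk 1 : G ⧸ H) = v • QuotientGroup.mk 1 := by
        intro w
        rw [Finset.mem_filter, hmem]
        refine and_congr_right fun _ => ?_
        rw [← smul_coset_one_eq, mul_smul]
        exact ⟨fun e => (StrongEmb.swap_back hv2 e).symm, fun e => by rw [e, ← mul_smul, Invol.inv_mul_self hv2, one_smul]⟩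
      rw [← Nat.card_eq_finsetCard, Nat.card_congr (Equiv.subtypeEquivRight hiff)]
      rcases eq_or_ne (v • (QuotientGroup.mk 1 : G ⧸ H)) (QuotientGroup.mk 1) with e | e
      · rw [e]; exact card_fixSet H _
      · exact (se_swap h.se (Ne.symm e)).1
    rw [Finset.card_filter, Finset.sum_product, Finset.sum_congr rfl (g := fun _ => kInv H) fun v hv => by
      rw [← Finset.card_filter]; exact hone v hv, Finset.sum_const, hclass, smul_eq_mul]
  have hpair1 : ((Kt ×ˢ Kt).filter fun q => q.1 * q.2 ∈ H1) = ((Kt ×ˢ Kt).filter fun q => q.1 * q.2 ∈ H) := by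
    refine Finset.filter_congr fun q hq => ⟨fun e => c.le e, fun e => ?_⟩
    obtain ⟨hq1, hq2⟩ := Finset.mem_product.1 hq
    have ha2 := hmem.1 hq1
    have hb2 := hmem.1 hq2
    by_cases haH : q.1 ∈ H
    · have hbH : q.2 ∈ H := by simpa using mul_mem (inv_mem haH) e
      exact hR1 (mul_mem (mem_sup_left (h.invol_mem_omega haH ha2).1) (mem_sup_left (h.invol_mem_omega hbH hb2).1))
    · obtain ⟨hne, hD, hinv⟩ := c.mul_mem_of_mem h ha2 hb2 e haH
      exact c.inverted_mem h hne ha2 rfl hD hinv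
  have hdiag : ∀ a b : G, orderOf a = 2 → orderOf b = 2 → a * b ∈ R → a = b ∨ a ∈ H ∧ b ∈ H := by
    intro a b ha2 hb2 hab
    by_cases haH : a ∈ H
    · exact Or.inr ⟨haH, by simpa using mul_mem (inv_mem haH) (hRH hab)⟩
    · left
      obtain ⟨hne, hD, hinv⟩ := c.mul_mem_of_mem h ha2 hb2 (hRH hab) haH
      have h1 := h.eq_one_of_inverted_base ha2 hab hinv (odd_orderOf_of_mem (StrongEmb.odd_two h.se hne) hD)
      rwa [← Invol.inv_eq_self hb2, mul_inv_eq_one] at h1
  have hpairR : ((Kt ×ˢ Kt).filter fun q => q.1 * q.2 ∈ R).card =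
      H.index * kInv H + (kInv H * kInv H - kInv H) := by
    have e : ((Kt ×ˢ Kt).filter fun q => q.1 * q.2 ∈ R) = Kt.diag ∪ I.offDiag := by
      ext q
      simp only [Finset.mem_filter, Finset.mem_product, Finset.mem_union, Finset.mem_diag, Finset.mem_offDiag, hI,
        hmem]
      constructor
      · rintro ⟨⟨h1, h2⟩, hq⟩
        rcases eq_or_ne q.1 q.2 with e | e
        · exact Or.inl ⟨h1, e⟩
        · rcases hdiag q.1 q.2 h1 h2 hq with e' | ⟨h3, h4⟩
          · exact absurd e' e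
          · exact Or.inr ⟨⟨h1, h3⟩, ⟨h2, h4⟩, e⟩
      · rintro (⟨h1, e⟩ | ⟨⟨h1, h3⟩, ⟨h2, h4⟩, -⟩)
        · refine ⟨⟨h1, e ▸ h1⟩, ?_⟩
          rw [← e, Invol.inv_mul_self h1]
          exact one_mem _
        · exact ⟨⟨h1, h2⟩, mul_mem (mem_sup_left (h.invol_mem_omega h3 h1).1)
            (mem_sup_left (h.invol_mem_omega h4 h2).1)⟩
    rw [e, Finset.card_union_of_disjoint, Finset.diag_card, Finset.offDiag_card, hclass, hIcard]
    rw [Finset.disjoint_left]
    intro q h1 h2
    exact (Finset.mem_offDiag.1 h2).2.2 (Finset.mem_diag.1 h1).2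
  have hpairX : ((Kt ×ˢ Kt).filter fun q => q.1 * q.2 ∈ X).card = H.index * kInv H := by
    have e : ((Kt ×ˢ Kt).filter fun q => q.1 * q.2 ∈ X) = Kt.diag := by
      ext q
      simp only [Finset.mem_filter, Finset.mem_product, Finset.mem_diag, hmem]
      constructor
      · rintro ⟨⟨h1, h2⟩, hq⟩
        refine ⟨h1, ?_⟩
        rcases hdiag q.1 q.2 h1 h2 (hXR hq) with e | ⟨h3, h4⟩
        · exact e
        · have h5 := h.sylow_inf_core (mul_mem (h.invol_mem_omega h3 h1).1 (h.invol_mem_omega h4 h2).1) hq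
          rwa [← Invol.inv_eq_self h2, mul_inv_eq_one] at h5
      · rintro ⟨h1, e⟩
        refine ⟨⟨h1, e ▸ h1⟩, ?_⟩
        rw [← e, Invol.inv_mul_self h1]
        exact one_mem _
    rw [e, Finset.diag_card, hclass]
  -- the ratios
  have hR0 : (Nat.card R : ℝ) ≠ 0 := Nat.cast_ne_zero.2 Nat.card_pos.ne'
  have hH10 : (Nat.card H1 : ℝ) ≠ 0 := Nat.cast_ne_zero.2 Nat.card_pos.ne'
  have hX0 : (Nat.card X : ℝ) ≠ 0 := Nat.cast_ne_zero.2 Nat.card_pos.ne'
  have rR : (Nat.card H : ℝ) = k * gC * Nat.card R := by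
    rw [hcardH, hcardC]; push_cast [k, gC]; ring
  have r1 : (Nat.card H : ℝ) = g * Nat.card H1 := by rw [← hcard1]; push_cast [g]; ring
  have rX : (Nat.card R : ℝ) = cS * Nat.card X := by rw [hR, h.card_base]; push_cast [cS, X]; ring
  have rG : (Nat.card G : ℝ) = n * Nat.card H := by rw [← index_mul_card H]; push_cast [n]; ring
  -- sums
  have sR : ∑ χ, x χ * x χ / f χ * dR χ = gC * (n + k - 1) / n := by
    have h1 := ePair R
    rw [hpairR, Nat.cast_add, Nat.cast_sub (Nat.le_mul_self _), rG, rR] at h1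
    push_cast at h1
    simp only [dR]
    refine mul_left_cancel₀ (mul_ne_zero (pow_ne_zero 2 (mul_ne_zero hn0.ne' hk0.ne')) hR0) ?_
    rw [h1, ← hn, ← hk]
    field_simp
    ring
  have s1 : ∑ χ, x χ * x χ / f χ * d1 χ = g := by
    have h1 := ePair H1
    rw [hpair1, hpairH, rG, r1] at h1
    push_cast at h1
    simp only [d1]
    refine mul_left_cancel₀ (mul_ne_zero (pow_ne_zero 2 (mul_ne_zero hn0.ne' hk0.ne')) hH10) ?_
    rw [h1, ← hn, ← hk]
    ring
  have sX : ∑ χ, x χ * x χ / f χ * dX χ = gC * cS := by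
    have h1 := ePair X
    rw [hpairX, rG, rR, rX] at h1
    push_cast at h1
    simp only [dX]
    refine mul_left_cancel₀ (mul_ne_zero (pow_ne_zero 2 (mul_ne_zero hn0.ne' hk0.ne')) hX0) ?_
    rw [h1, ← hn, ← hk]
    ring
  have af : ∑ χ, a χ * f χ = n * (k * gC - g) := by
    have h1 := eF R
    have h2 := eF H1
    rw [rG] at h1 h2
    rw [rR, show n * (k * gC * (Nat.card R : ℝ)) / Nat.card R = n * (k * gC) by field_simp] at h1
    rw [r1, show n * (g * (Nat.card H1 : ℝ)) / Nat.card H1 = n * g by field_simp] at h2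
    simp only [a, sub_mul, Finset.sum_sub_distrib, dR, d1]
    simp only [mul_comm (fixDim _ _ : ℝ)]
    rw [h1, h2]; ring
  have ax : ∀ T ∈ ({Finset.univ, B} : Finset (Finset (IrrCharacter G))),
      ∑ χ ∈ T, a χ * x χ = k * gC - g := by
    intro T hT
    obtain ⟨hu1, hb1⟩ := eX R le_rfl hRH
    obtain ⟨hu2, hb2⟩ := eX H1 hR1 c.le
    rw [rR, mul_div_cancel_right₀ _ hR0] at hu1 hb1
    rw [r1, mul_div_cancel_right₀ _ hH10] at hu2 hb2
    simp only [a, sub_mul, Finset.sum_sub_distrib, dR, d1]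
    simp only [mul_comm (fixDim _ _ : ℝ)]
    rcases Finset.mem_insert.1 hT with rfl | hT
    · rw [hu1, hu2]
    · rw [Finset.mem_singleton.1 hT, hb1, hb2]
  have axu : ∑ χ, a χ * x χ = k * gC - g := ax _ (Finset.mem_insert_self _ _)
  have axb : ∑ χ ∈ B, a χ * x χ = k * gC - g := ax _ (Finset.mem_insert_of_mem (Finset.mem_singleton_self _))
  set T : IrrCharacter G → ℝ := fun χ => a χ * (n * x χ - f χ) ^ 2 / f χ with hT
  have hT0 : ∀ χ, 0 ≤ T χ := fun χ => div_nonneg (mul_nonneg (ha χ) (sq_nonneg _)) (hf χ).le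
  have hTsum : ∑ χ, T χ = n * (n - 1) * (gC - g) := by
    have e : ∀ χ, T χ = n ^ 2 * (x χ * x χ / f χ * dR χ) - n ^ 2 * (x χ * x χ / f χ * d1 χ) -
        2 * n * (a χ * x χ) + a χ * f χ := fun χ => by
      have := (hf χ).ne'
      simp only [T, a]
      field_simp
      ring
    simp only [e, Finset.sum_add_distrib, Finset.sum_sub_distrib, ← Finset.mul_sum, sR, s1, axu, af]
    field_simp
    ring
  have hgeq : gC = g := by
    have h1 : 0 ≤ n * (n - 1) * (gC - g) := hTsum ▸ Finset.sum_nonneg fun χ _ => hT0 χ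
    have h2 : 0 < n * (n - 1) := mul_pos hn0 (by linarith)
    nlinarith [nonneg_of_mul_nonneg_right h1 h2]
  have hTzero : ∀ χ, T χ = 0 := fun χ => (Finset.sum_eq_zero_iff_of_nonneg fun χ _ => hT0 χ).1
    (by rw [hTsum, hgeq, sub_self, mul_zero]) χ (Finset.mem_univ χ)
  have hcard : Nat.card H1 = kInv H * Nat.card R := by
    have h1 : g * (Nat.card H1 : ℝ) = g * (k * Nat.card R) := by rw [← r1, rR, hgeq]; ring
    have hg0 : g ≠ 0 := fun e => by
      rw [e, zero_mul] at r1; exact Nat.cast_ne_zero.2 Nat.card_pos.ne' r1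
    have h2 := mul_left_cancel₀ hg0 h1
    simp only [k] at h2
    exact_mod_cast h2
  suffices hbot : core H = ⊥ by
    refine ⟨hbot, ?_⟩
    rw [hcard, hR, h.card_base, hbot, card_bot, mul_one]
  -- outside the block
  have htwo : ∀ χ, a χ = 0 ∨ 0 < x χ := by
    intro χ
    rcases (ha χ).eq_or_lt with e | hpos
    · exact Or.inl e.symm
    right
    have h1 := hTzero χ
    simp only [T, div_eq_zero_iff, (hf χ).ne', or_false, mul_eq_zero, hpos.ne', false_or,
      pow_eq_zero_iff two_ne_zero, sub_eq_zero] at h1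
    exact pos_of_mul_pos_right (h1 ▸ hf χ) hn0.le
  have haB : ∀ χ ∉ B, a χ = 0 := by
    intro χ hχ
    have hsum : ∑ χ ∈ Finset.univ \ B, a χ * x χ = 0 := by
      have := Finset.sum_sdiff (f := fun χ => a χ * x χ) (Finset.subset_univ B)
      linarith
    have hnn : ∀ χ, 0 ≤ a χ * x χ := fun χ => by
      rcases htwo χ with e | e
      · simp [e]
      · exact mul_nonneg (ha χ) e.le
    have h1 := (Finset.sum_eq_zero_iff_of_nonneg fun χ _ => hnn χ).1 hsum χ (by simp [hχ])
    rcases htwo χ with e | e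
    · exact e
    · exact (mul_eq_zero.1 h1).resolve_right e.ne'
  have hlinear : ∀ χ ∉ B, 0 < fixDim H1 χ → x χ = 0 := by
    intro χ hχ hpos
    haveI : Fintype H := Fintype.ofFinite H
    set N := H1.subgroupOf H with hN
    haveI : N.Normal := (normal_subgroupOf_iff_le_normalizer c.le).mpr c.norm
    letI : CommGroup (↥H ⧸ N) := { (inferInstance : Group (↥H ⧸ N)) with
      mul_comm := fun a b => by
        obtain ⟨a, rfl⟩ := QuotientGroup.mk'_surjective N a
        obtain ⟨b, rfl⟩ := QuotientGroup.mk'_surjective N b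
        have h1 : QuotientGroup.mk' N (a * b * a⁻¹ * b⁻¹) = 1 :=
          (QuotientGroup.eq_one_iff _).2 (mem_subgroupOf.2 (c.comm a a.2 b b.2))
        rw [map_mul, map_mul, map_mul, map_inv, map_inv, mul_inv_eq_one, mul_inv_eq_iff_eq_mul] at h1
        exact h1 }
    haveI : Finite (↥H ⧸ N →* ℂˣ) := Nat.finite_of_card_ne_zero (by
      rw [Char.card_monoidHom_units]; exact Nat.card_pos.ne')
    haveI : Fintype (↥H ⧸ N →* ℂˣ) := Fintype.ofFinite _
    haveI : NeZero (Monoid.exponent (↥H ⧸ N)) := ⟨Monoid.exponent_ne_zero_of_finite⟩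
    have horth : ∀ q : ↥H ⧸ N, ∑ φ : ↥H ⧸ N →* ℂˣ, ((φ q : ℂˣ) : ℂ) =
        if q = 1 then (Fintype.card (↥H ⧸ N →* ℂˣ) : ℂ) else 0 := by
      intro q
      split_ifs with hq
      · subst hq; simp
      · obtain ⟨φ₀, hφ₀⟩ := CommGroup.exists_apply_ne_one_of_hasEnoughRootsOfUnity (↥H ⧸ N) ℂ hq
        have h1 : ∑ φ : ↥H ⧸ N →* ℂˣ, ((φ q : ℂˣ) : ℂ) = (φ₀ q : ℂ) * ∑ φ : ↥H ⧸ N →* ℂˣ, ((φ q : ℂˣ) : ℂ) := by
          rw [Finset.mul_sum]
          exact (Fintype.sum_equiv (Equiv.mulLeft φ₀) _ _ fun φ => by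
            simp [MonoidHom.mul_apply]).symm
        by_contra h0
        exact hφ₀ (Units.ext ((mul_eq_right₀ h0).1 h1.symm))
    obtain ⟨φ, hφ⟩ : ∃ φ : ↥H ⧸ N →* ℂˣ,
        ∑ a : H, ((φ (QuotientGroup.mk' N a) : ℂˣ) : ℂ) * conj ((χ : G → ℂ) a) ≠ 0 := by
      by_contra hc
      push Not at hc
      have h0 : ∑ φ : ↥H ⧸ N →* ℂˣ, ∑ a : H, ((φ (QuotientGroup.mk' N a) : ℂˣ) : ℂ) * conj ((χ : G → ℂ) a) = 0 :=
        Finset.sum_eq_zero fun φ _ => hc φ
      rw [Finset.sum_comm] at h0
      simp only [← Finset.sum_mul, horth, ite_mul, zero_mul, QuotientGroup.mk'_apply, QuotientGroup.eq_one_iff,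
        hN, mem_subgroupOf, ← Finset.sum_filter, ← Finset.mul_sum] at h0
      have h2 := (mul_eq_zero.1 h0).resolve_left (Nat.cast_ne_zero.2 Fintype.card_ne_zero)
      haveI := Fintype.ofFinite H1
      have h3 : ∑ a ∈ Finset.univ.filter (fun a : H => (a : G) ∈ H1), conj ((χ : G → ℂ) a) =
          conj (∑ b : H1, (χ : G → ℂ) b) := by
        rw [map_sum]
        exact Finset.sum_bij' (fun a ha => ⟨(a : G), (Finset.mem_filter.1 ha).2⟩) (fun b _ => ⟨(b : G), c.le b.2⟩)
          (fun _ _ => Finset.mem_univ _) (fun b _ => Finset.mem_filter.2 ⟨Finset.mem_univ _, b.2⟩)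
          (fun _ _ => rfl) (fun _ _ => rfl) fun _ _ => rfl
      rw [h3, map_eq_zero] at h2
      have h4 := avg_eq H1 χ
      rw [h2, mul_zero, eq_comm, Nat.cast_eq_zero] at h4
      omega
    set lam : ↥H →* ℂˣ := φ.comp (QuotientGroup.mk' N) with hlam
    have hl1 : ∀ a : H, (a : G) ∈ H1 → lam a = 1 := fun a ha => by
      show φ (QuotientGroup.mk' N a) = 1
      rw [QuotientGroup.mk'_apply, (QuotientGroup.eq_one_iff a).2 (mem_subgroupOf.2 ha), map_one]
    obtain ⟨m, hm, hmsum, hm2⟩ := h.exists_mult lam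
    have hval : ∀ y : X, ∑ ψ : IrrCharacter G, (m ψ : ℂ) * (ψ : G → ℂ) (t * y) = 1 := fun y => by
      rw [hmsum, h.indFun_coset lam hR1 hl1 htH ht2 y.2]
    have hu1 : ∑ ψ, (m ψ : ℝ) * x ψ = 1 := by
      have h1 := hval 1
      simp only [OneMemClass.coe_one, mul_one, hx] at h1
      apply Complex.ofReal_injective
      push_cast
      exact h1
    have hb1 : ∑ ψ ∈ B, (m ψ : ℝ) * x ψ = 1 := by
      have h1 := h.sum_coset_comb hM htS ht1 (fun ψ => (m ψ : ℂ))
      rw [Finset.sum_congr rfl fun (y : X) _ => hval y, Finset.sum_const, Finset.card_univ, nsmul_eq_mul, mul_one,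
        ← Nat.card_eq_fintype_card] at h1
      have h2 := (mul_eq_left₀ (Nat.cast_ne_zero.2 (Nat.card_pos (α := X)).ne')).1 h1.symm
      simp only [hx] at h2
      apply Complex.ofReal_injective
      push_cast
      exact h2
    have hmχ : m χ ≠ 0 := by
      intro e
      refine hφ ?_
      have h1 := hm χ
      rw [e, Nat.cast_zero, Char.classInner_indFun H _ χ.2.isClassFunction, classInner, mul_eq_zero] at h1
      exact h1.resolve_left (inv_ne_zero (Nat.cast_ne_zero.2 Nat.card_pos.ne'))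
    by_contra hx0
    obtain ⟨ψ, hψB, hψ⟩ := Finset.exists_ne_zero_of_sum_ne_zero (hb1.trans_ne one_ne_zero)
    obtain ⟨χ', hχ', hne, hχ'0⟩ : ∃ χ', χ' ∉ B ∧ χ' ≠ χ ∧ m χ' ≠ 0 := by
      by_contra hc
      push Not at hc
      have h1 := Finset.sum_sdiff (f := fun ψ => (m ψ : ℝ) * x ψ) (Finset.subset_univ B)
      have h2 : ∑ ψ ∈ Finset.univ \ B, (m ψ : ℝ) * x ψ = m χ * x χ :=
        Finset.sum_eq_single χ (fun ψ hψ hne => by
          rw [hc ψ (Finset.mem_sdiff.1 hψ).2 hne]; simp) fun hn => absurd (by simp [hχ]) hn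
      rw [h2, hb1, hu1, add_eq_right] at h1
      exact hx0 ((mul_eq_zero.1 h1).resolve_left (Nat.cast_ne_zero.2 hmχ))
    have hmψ : m ψ ≠ 0 := fun e => hψ (by simp [e])
    have h3 : ∑ φ ∈ ({χ, χ', ψ} : Finset (IrrCharacter G)), 1 ≤ ∑ φ : IrrCharacter G, m φ ^ 2 :=
      le_trans (Finset.sum_le_sum fun φ hφ => Nat.one_le_iff_ne_zero.2 (pow_ne_zero 2 (by
        simp only [Finset.mem_insert, Finset.mem_singleton] at hφ
        rcases hφ with rfl | rfl | rfl <;> assumption))) (Finset.sum_le_sum_of_subset (Finset.subset_univ _))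
    rw [Finset.sum_const, smul_eq_mul, mul_one, Finset.card_eq_three.2 ⟨χ, χ', ψ, hne.symm,
      fun e => hχ (e ▸ hψB), fun e => hχ' (e ▸ hψB), rfl⟩] at h3
    omega
  have hnonB : ∀ χ ∉ B, x χ * x χ / f χ * dR χ = 0 := by
    intro χ hχ
    rcases eq_or_ne (dR χ) 0 with e | e
    · rw [e, mul_zero]
    · have h1 : d1 χ = dR χ := by
        have := haB χ hχ
        simp only [a] at this; linarith
      have h2 : 0 < fixDim H1 χ := Nat.pos_of_ne_zero fun e' => e (by rw [← h1]; simp [d1, e'])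
      simp [hlinear χ hχ h2]
  have hcoset : ∀ χ ∉ B, dX χ = cS * dR χ := by
    intro χ hχ
    haveI := Fintype.ofFinite R
    let e : ↥(S : Subgroup G) × X → R := fun q => ⟨(q.1 : G) * q.2, mul_mem (mem_sup_left q.1.2) (hXR q.2.2)⟩
    have hbij : Function.Bijective e := by
      refine (Fintype.bijective_iff_injective_and_card e).2 ⟨?_, ?_⟩
      · rintro ⟨s, y⟩ ⟨s', y'⟩ he
        have e' : (s : G) * y = s' * y' := congrArg Subtype.val he
        have h1 : (s' : G)⁻¹ * s = (y' : G) * (y : G)⁻¹ := by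
          calc (s' : G)⁻¹ * s = (s' : G)⁻¹ * ((s : G) * y) * (y : G)⁻¹ := by group
            _ = (y' : G) * (y : G)⁻¹ := by rw [e']; group
        obtain rfl : s = s' := Subtype.ext (inv_mul_eq_one.1
          (h.sylow_inf_core (mul_mem (inv_mem s'.2) s.2) (h1 ▸ mul_mem y'.2 (inv_mem y.2)))).symm
        exact Prod.ext rfl (Subtype.ext (mul_left_cancel e'))
      · rw [← Nat.card_eq_fintype_card, ← Nat.card_eq_fintype_card, Nat.card_prod, hR, h.card_base]
    have hsum : ∑ r : R, (χ : G → ℂ) r = ∑ y : X, (χ : G → ℂ) y := by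
      rw [← Fintype.sum_equiv (Equiv.ofBijective e hbij) (fun q => (χ : G → ℂ) ((q.1 : G) * q.2))
        (fun r : R => (χ : G → ℂ) r) fun q => rfl, Fintype.sum_prod_type]
      rw [Fintype.sum_eq_single (1 : ↥(S : Subgroup G)) fun s hs => by
        rw [h.sum_coset hM s.2 (fun e => hs (Subtype.ext e)) χ, if_neg fun e => hχ (Set.mem_toFinset.2 e)]]
      simp
    have h1 := avg_eq R χ
    have h2 := avg_eq X χ
    rw [hsum] at h1
    apply Complex.ofReal_injective
    push_cast [dX, dR, cS]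
    rw [← h1, ← h2, hR, h.card_base]
    push_cast
    have : (Nat.card (S : Subgroup G) : ℂ) ≠ 0 := Nat.cast_ne_zero.2 Nat.card_pos.ne'
    field_simp
    rw [← hX]
    ring
  -- inside the block
  have sB : ∑ χ ∈ B, x χ * x χ = gC * cS := by
    have h1 := h.sum_coset_comb hM htS ht1 (fun χ => conj ((χ : G → ℂ) t))
    have hone : ∀ y : X, ∑ χ : IrrCharacter G, conj ((χ : G → ℂ) t) * (χ : G → ℂ) (t * y) =
        if y = 1 then (Nat.card C : ℂ) else 0 := by
      intro y
      simp only [mul_comm (conj ((_ : G → ℂ) t)), Char.column_orthogonality]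
      by_cases hy : y = 1
      · subst hy
        simp only [OneMemClass.coe_one, mul_one, IsConj.refl, if_true]
        rfl
      · rw [if_neg hy, if_neg]
        intro hc
        apply hy
        obtain ⟨w, hw⟩ := isConj_iff.1 hc.symm
        have h2 : (t * (y : G)) ^ 2 = 1 := by
          rw [← hw, conj_pow, show t ^ 2 = 1 from ht2 ▸ pow_orderOf_eq_one t]; group
        rw [(h.commute_core htH ht2 y.2).symm.mul_pow, show t ^ 2 = 1 from ht2 ▸ pow_orderOf_eq_one t,
          one_mul] at h2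
        exact Subtype.ext (eq_one_of_odd_sq (odd_orderOf_of_mem (odd_core H) y.2) h2)
    rw [Finset.sum_congr rfl fun (y : X) _ => hone y, Finset.sum_ite_eq' Finset.univ (1 : X),
      if_pos (Finset.mem_univ _)] at h1
    simp only [hx, Complex.conj_ofReal] at h1
    have h2 : (Nat.card C : ℝ) = (Nat.card X : ℝ) * ∑ χ ∈ B, x χ * x χ := by
      apply Complex.ofReal_injective
      push_cast
      exact h1
    rw [hcardC, Nat.cast_mul, rX, ← hgC] at h2
    refine mul_left_cancel₀ hX0 ?_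
    rw [← h2]; ring
  have hzero : ∀ χ ∈ B, x χ ≠ 0 → dX χ = f χ := by
    have hnon : ∑ χ ∈ Finset.univ \ B, x χ * x χ / f χ * dX χ = 0 := Finset.sum_eq_zero fun χ hχ => by
      have hχ' := (Finset.mem_sdiff.1 hχ).2
      rw [hcoset χ hχ', mul_left_comm, hnonB χ hχ', mul_zero]
    have h1 := Finset.sum_sdiff (f := fun χ => x χ * x χ / f χ * dX χ) (Finset.subset_univ B)
    rw [hnon, zero_add, sX] at h1
    have h2 : ∑ χ ∈ B, x χ * x χ / f χ * (f χ - dX χ) = 0 := by
      simp only [mul_sub, Finset.sum_sub_distrib]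
      rw [h1, Finset.sum_congr rfl fun χ _ => div_mul_cancel₀ (x χ * x χ) (hf χ).ne', sB, sub_self]
    have hle : ∀ χ, dX χ ≤ f χ := fun χ => Nat.cast_le.2 (le_trans (Submodule.finrank_le _)
      (le_of_eq (Module.finrank_fin_fun ℂ)))
    intro χ hχ hx0
    have h3 := (Finset.sum_eq_zero_iff_of_nonneg fun χ _ => mul_nonneg
      (div_nonneg (mul_self_nonneg (x χ)) (hf χ).le) (sub_nonneg.2 (hle χ))).1 h2 χ hχ
    simp only [mul_eq_zero, div_eq_zero_iff, (hf χ).ne', or_false, or_self, hx0, false_or, sub_eq_zero] at h3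
    exact h3.symm
  by_contra hne
  have horth : ∑ χ ∈ B, x χ * f χ = 0 := by
    have h1 := h.sum_coset_comb hM htS ht1 (fun χ => (χ : G → ℂ) 1)
    rw [Finset.sum_congr rfl (g := fun _ => (0 : ℂ)) fun (y : X) _ => by
      rw [Char.sum_degree_mul, if_neg]
      intro e
      have hy : t = (y : G)⁻¹ := eq_inv_of_mul_eq_one_left e
      exact ht1 (h.sylow_inf_core htS (hy ▸ inv_mem y.2)), Finset.sum_const_zero] at h1
    have h2 := (mul_eq_zero.1 h1.symm).resolve_left (Nat.cast_ne_zero.2 (Nat.card_pos (α := X)).ne')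
    simp only [hx, apply_one_eq_dim] at h2
    apply Complex.ofReal_injective
    push_cast [f]
    simp only [mul_comm (x _ : ℂ)]
    exact h2
  have h1B : trivChar G ∈ B := Set.mem_toFinset.2 (trivChar_mem_principal hM)
  have htriv : ∀ χ ∈ B, χ ≠ trivChar G → x χ * f χ = 0 := by
    intro χ hχ hne'
    by_contra h0
    refine hne' (eq_triv_of_fixDim hne ?_)
    have h1 : (fixDim X χ : ℝ) = (χ.2.choose : ℝ) := hzero χ hχ fun e => h0 (by rw [e, zero_mul])
    exact Nat.cast_injective h1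
  rw [Finset.sum_eq_single_of_mem _ h1B htriv] at horth
  have hx1 : x (trivChar G) = 1 := by simp [x, trivChar_coe]
  rw [hx1, one_mul] at horth
  exact (hf _).ne' horth

end Scalars

end Cfsg.Lib.AbTwo
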