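import Cfsg.Agent.Lib.AbTwo.Basic
import Cfsg.Agent.Lib.Fusion.Abelian
import Cfsg.Agent.S0217
import Cfsg.Prelude.Def_Involutions

/-!
When the 2-rank is at least three the solvable signalizer functor theorem produces a solvable strongly
embedded subgroup.
-/

set_option autoImplicit false
set_option linter.style.haveILetI false

namespace Cfsg.Lib.AbTwo

open Subgroup

universe u

variable {G : Type u} [Group G]

/-- The elements of square one of an abelian subgroup. -/
def omega (S : Subgroup G) (hS : IsMulCommutative ↥S) : Subgroup G where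
  carrier := {x | x ∈ S ∧ x ^ 2 = 1}
  mul_mem' := by
    rintro a b ⟨ha, ha2⟩ ⟨hb, hb2⟩
    exact ⟨mul_mem ha hb, by rw [Commute.mul_pow (comm_of_mem hS ha hb), ha2, hb2, one_mul]⟩
  one_mem' := ⟨one_mem S, one_pow 2⟩
  inv_mem' := by
    rintro a ⟨ha, ha2⟩
    exact ⟨inv_mem ha, by rw [inv_pow, ha2, inv_one]⟩

theorem mem_omega {S : Subgroup G} {hS : IsMulCommutative ↥S} {x : G} :
    x ∈ omega S hS ↔ x ∈ S ∧ x ^ 2 = 1 := Iff.rfl

theorem orderOf_of_mem_omega {S : Subgroup G} {hS : IsMulCommutative ↥S} {x : G} (hx : x ∈ omega S hS)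
    (h1 : x ≠ 1) : orderOf x = 2 := by
  haveI : Fact (Nat.Prime 2) := ⟨Nat.prime_two⟩
  exact orderOf_eq_prime hx.2 h1

/-- The signalizer functor `a ↦ O(C(a))`. -/
noncomputable def theta (a : G) : Subgroup G :=
  (Cfsg.oddCore ↥(centralizer ({a} : Set G))).map (centralizer ({a} : Set G)).subtype

theorem theta_le (a : G) : theta a ≤ centralizer ({a} : Set G) := map_subtype_le _

variable [Finite G]

theorem odd_theta (a : G) : Odd (Nat.card (theta a)) := by
  rw [theta, Core.card_map_subtype]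
  exact odd_oddCore

theorem conj_mem_theta {a g y : G} (hy : y ∈ theta a) : g * y * g⁻¹ ∈ theta (g * a * g⁻¹) := by
  obtain ⟨⟨c, hc⟩, hcO, rfl⟩ := hy
  set f : ↥(centralizer ({a} : Set G)) →* ↥(centralizer ({g * a * g⁻¹} : Set G)) :=
    ((MulAut.conj g).toMonoidHom.comp (centralizer ({a} : Set G)).subtype).codRestrict _ fun x =>
      mem_centralizer_singleton_iff.2 (by
        have h := mem_centralizer_singleton_iff.1 x.2
        simp only [MonoidHom.coe_comp, MulEquiv.coe_toMonoidHom, coe_subtype, Function.comp_apply,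
          MulAut.conj_apply]
        calc g * (x : G) * g⁻¹ * (g * a * g⁻¹) = g * ((x : G) * a) * g⁻¹ := by group
          _ = g * (a * (x : G)) * g⁻¹ := by rw [h]
          _ = _ := by group) with hfdef
  have hsurj : Function.Surjective f := by
    rintro ⟨y, hy⟩
    refine ⟨⟨g⁻¹ * y * g, mem_centralizer_singleton_iff.2 ?_⟩, Subtype.ext ?_⟩
    · have h := mem_centralizer_singleton_iff.1 hy
      calc g⁻¹ * y * g * a = g⁻¹ * (y * (g * a * g⁻¹)) * g := by group
        _ = g⁻¹ * ((g * a * g⁻¹) * y) * g := by rw [h]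
        _ = _ := by group
    · show g * (g⁻¹ * y * g) * g⁻¹ = y
      group
  refine ⟨f ⟨c, hc⟩, Core.map_pPrimeCore_le f hsurj (mem_map_of_mem f hcO), rfl⟩

theorem theta_normal {a : G} {c y : G} (hc : c ∈ centralizer ({a} : Set G)) (hy : y ∈ theta a) :
    c * y * c⁻¹ ∈ theta a := by
  have h := conj_mem_theta (g := c) hy
  have : c * a * c⁻¹ = a := by
    rw [mem_centralizer_singleton_iff.1 hc]; group
  rwa [this] at h

omit [Finite G] in
theorem subtype_sylow_comm (S : Sylow 2 G) (hS : IsMulCommutative ↥(S : Subgroup G)) {X : Subgroup G}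
    (hSX : (S : Subgroup G) ≤ X) : IsMulCommutative ↥((S.subtype hSX : Sylow 2 X) : Subgroup X) :=
  ⟨⟨fun x y => Subtype.ext (Subtype.ext (comm_of_mem hS (mem_subgroupOf.1 x.2) (mem_subgroupOf.1 y.2)))⟩⟩

section

variable [Fact (Nat.Prime 2)] (h : Hyp G) (S : Sylow 2 G) (hS : IsMulCommutative ↥(S : Subgroup G))
include h hS

omit h [Finite G] [Fact (Nat.Prime 2)] in
theorem sylow_le_centralizer {a : G} (ha : a ∈ (S : Subgroup G)) :
    (S : Subgroup G) ≤ centralizer ({a} : Set G) :=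
  fun _ hx => mem_centralizer_singleton_iff.2 (comm_of_mem hS hx ha)

/-- Balance. -/
theorem theta_balance {a b : G} (ha : a ∈ (S : Subgroup G)) (hb : b ∈ (S : Subgroup G)) (hb2 : orderOf b = 2) :
    theta a ⊓ centralizer ({b} : Set G) ≤ theta b := by
  set C := centralizer ({b} : Set G) with hC
  haveI := h.solv b hb2
  have hSC : (S : Subgroup G) ≤ C := sylow_le_centralizer S hS hb
  set Q := theta a ⊓ C with hQdef
  have hQC : Q ≤ C := inf_le_right
  have hle := odd_le_oddCore (S.subtype hSC) (subtype_sylow_comm S hS hSC) (Q := Q.subgroupOf C)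
    (by
      rw [Nat.card_congr (subgroupOfEquivOfLe hQC).toEquiv]
      exact (odd_theta a).of_dvd_nat (card_dvd_of_le inf_le_left))
    (fun s hs => Fusion.le_normalizer_of_conj_mem fun q hq => by
      have hs' : (s : G) ∈ (S : Subgroup G) := mem_subgroupOf.1 hs
      refine mem_subgroupOf.2 (mem_inf.2 ⟨?_, (s * q * s⁻¹).2⟩)
      exact theta_normal (sylow_le_centralizer S hS ha hs') (mem_inf.1 (mem_subgroupOf.1 hq)).1)
  intro q hq
  exact ⟨⟨q, hq.2⟩, hle (mem_subgroupOf.2 hq), rfl⟩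

theorem mem_theta_sup {a x : G} (ha : orderOf a = 2) (haS : a ∈ (S : Subgroup G))
    (hx : x ∈ centralizer ({a} : Set G)) :
    x ∈ theta a ⊔ normalizer ((S : Subgroup G) : Set G) := by
  set C := centralizer ({a} : Set G) with hC
  haveI := h.solv a ha
  have hSC : (S : Subgroup G) ≤ C := sylow_le_centralizer S hS haS
  have htop := core_sup_normalizer (S.subtype hSC) (subtype_sylow_comm S hS hSC)
  have h1 : (⊤ : Subgroup C).map C.subtype ≤ theta a ⊔ normalizer ((S : Subgroup G) : Set G) := by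
    rw [← htop, Subgroup.map_sup]
    refine sup_le_sup le_rfl ?_
    rintro _ ⟨n, hn, rfl⟩
    refine Fusion.le_normalizer_of_conj_mem fun s hs => ?_
    exact mem_subgroupOf.1 ((mem_normalizer_iff.1 hn ⟨s, hSC hs⟩).1 (mem_subgroupOf.2 hs))
  exact h1 ⟨⟨x, hx⟩, mem_top _, rfl⟩

end

theorem isSolvable_normalizer_sylow [Fact (Nat.Prime 2)] (S : Sylow 2 G)
    (hS : IsMulCommutative ↥(S : Subgroup G)) :
    Group.IsSolvable ↥(normalizer ((S : Subgroup G) : Set G)) := by
  set N := normalizer ((S : Subgroup G) : Set G)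
  haveI : ((S : Subgroup G).subgroupOf N).Normal := normal_in_normalizer
  haveI : IsMulCommutative ↥((S : Subgroup G).subgroupOf N) :=
    ⟨⟨fun a b => Subtype.ext (Subtype.ext (comm_of_mem hS (mem_subgroupOf.1 a.2) (mem_subgroupOf.1 b.2)))⟩⟩
  haveI : Group.IsSolvable ↥((S : Subgroup G).subgroupOf N) :=
    Group.isSolvable_of_comm fun a b => IsMulCommutative.is_comm.comm a b
  haveI : Group.IsSolvable (↥N ⧸ (S : Subgroup G).subgroupOf N) := by
    refine Cfsg.Agent.S0205.result (Nat.odd_iff.2 (Nat.two_dvd_ne_zero.1 fun h2 => ?_))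
    rw [← index_eq_card] at h2
    exact S.not_dvd_index (h2.trans (relIndex_dvd_index_of_le le_normalizer))
  exact Group.isSolvable_of_ker_le_range ((S : Subgroup G).subgroupOf N).subtype
    (QuotientGroup.mk' ((S : Subgroup G).subgroupOf N)) (by simp)

/-- An abelian Sylow 2-subgroup containing eight elements of square one: a solvable strongly embedded
subgroup exists. -/
theorem exists_stronglyEmbedded [IsSimpleGroup G] (hna : ¬ IsMulCommutative G) (h : Hyp G) (S : Sylow 2 G)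
    (hS : IsMulCommutative ↥(S : Subgroup G)) (h8 : 8 ≤ Nat.card (omega (S : Subgroup G) hS)) :
    ∃ H : Subgroup G, Cfsg.IsStronglyEmbedded H ∧ Group.IsSolvable ↥H ∧
      normalizer ((S : Subgroup G) : Set G) ≤ H := by
  haveI : Fact (Nat.Prime 2) := ⟨Nat.prime_two⟩
  set A := omega (S : Subgroup G) hS with hAdef
  set N := normalizer ((S : Subgroup G) : Set G) with hNdef
  set W : Subgroup G := ⨆ a : {a : G // a ∈ A ∧ a ≠ 1}, theta (a : G) with hWdef
  obtain ⟨hWodd, -⟩ := Cfsg.Agent.S0217.result (p := 2) A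
    (fun a ha b hb => comm_of_mem hS ha.1 hb.1) (fun a ha => ha.2) h8 theta
    (fun a _ _ => theta_le a) (fun a _ _ => not_dvd_of_odd (odd_theta a))
    (fun a ha _ b hb x hx => theta_normal (sylow_le_centralizer S hS ha.1 hb.1) hx)
    (fun a _ _ => isSolvable_of_odd (odd_theta a))
    (fun a ha _ b hb hb1 => theta_balance h S hS ha.1 hb.1 (orderOf_of_mem_omega hb hb1))
  have hWodd' : Odd (Nat.card W) := Nat.odd_iff.2 (Nat.two_dvd_ne_zero.1 hWodd)
  -- `N(S)` normalizes `W`
  have hNW : N ≤ normalizer (W : Set G) := by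
    intro n hn
    refine Fusion.le_normalizer_of_conj_mem fun x hx => ?_
    have hle : W ≤ W.comap (MulAut.conj n).toMonoidHom := by
      rw [hWdef]
      refine iSup_le fun a y hy => ?_
      rw [mem_comap]
      have hb : n * (a : G) * n⁻¹ ∈ A :=
        ⟨(mem_normalizer_iff.1 hn _).1 a.2.1.1, by rw [conj_pow, a.2.1.2]; group⟩
      have hb1 : n * (a : G) * n⁻¹ ≠ 1 := fun e => a.2.2 (conj_eq_one_iff.1 e)
      exact mem_iSup_of_mem (⟨n * (a : G) * n⁻¹, hb, hb1⟩ : {a : G // a ∈ A ∧ a ≠ 1})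
        (conj_mem_theta hy)
    exact hle hx
  obtain ⟨t, htA, ht1⟩ : ∃ t ∈ A, t ≠ 1 := (bot_or_exists_ne_one A).resolve_left fun e => by
    rw [e, card_bot] at h8; omega
  have ht2 := orderOf_of_mem_omega htA ht1
  haveI hWs : Group.IsSolvable ↥W := isSolvable_of_odd hWodd'
  haveI hNs : Group.IsSolvable ↥N := isSolvable_normalizer_sylow S hS
  set M := W ⊔ N with hMdef
  haveI hMs : Group.IsSolvable ↥M := isSolvable_sup hNW
  have hSM : (S : Subgroup G) ≤ M := le_normalizer.trans le_sup_right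
  have hCa : ∀ a ∈ A, a ≠ 1 → centralizer ({a} : Set G) ≤ M := fun a ha ha1 x hx =>
    sup_le_sup (show theta a ≤ W from le_iSup (fun b : {a : G // a ∈ A ∧ a ≠ 1} => theta (b : G)) ⟨a, ha, ha1⟩) le_rfl
      (mem_theta_sup h S hS (orderOf_of_mem_omega ha ha1) ha.1 hx)
  refine ⟨M, ⟨?_, ?_, ?_⟩, hMs, le_sup_right⟩
  · intro e
    haveI : Group.IsSolvable ↥(⊤ : Subgroup G) := e ▸ hMs
    haveI : Group.IsSolvable G := Group.isSolvable_of_surjective (f := (⊤ : Subgroup G).subtype)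
      fun g => ⟨⟨g, mem_top g⟩, rfl⟩
    exact hna ⟨⟨IsSimpleGroup.comm_iff_isSolvable.2 inferInstance⟩⟩
  · refine even_iff_two_dvd.2 ((dvd_trans ?_ (card_dvd_of_le hSM)))
    have h2 := (S : Subgroup G).orderOf_dvd_natCard htA.1
    rwa [ht2] at h2
  · intro g hg
    refine Nat.odd_iff.2 (Nat.two_dvd_ne_zero.1 fun h2 => hg ?_)
    obtain ⟨x, hx⟩ := exists_prime_orderOf_dvd_card' 2 h2
    rw [← Subgroup.orderOf_coe] at hx
    obtain ⟨hxM, hxg⟩ := mem_inf.1 x.2
    obtain ⟨y, hyM, hyx⟩ := hxg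
    simp only [MulEquiv.coe_toMonoidHom, MulAut.conj_apply] at hyx
    have hy2 : orderOf y = 2 := by
      rw [← hx, ← hyx]
      exact ((MulAut.conj g).orderOf_eq y).symm
    have hto : ∀ z ∈ M, orderOf z = 2 → ∃ m ∈ M, m * z * m⁻¹ ∈ A ∧ m * z * m⁻¹ ≠ 1 := by
      intro z hz hz2
      obtain ⟨P, hP⟩ := (IsPGroup.of_card (G := ↥(zpowers (⟨z, hz⟩ : M))) (p := 2) (n := 1) (by
        rw [Nat.card_zpowers, ← Subgroup.orderOf_coe, hz2, pow_one])).exists_le_sylow
      obtain ⟨m, hm⟩ := MulAction.exists_smul_eq M P (S.subtype hSM)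
      have hmem : m * ⟨z, hz⟩ * m⁻¹ ∈ ((S.subtype hSM : Sylow 2 M) : Subgroup M) := by
        rw [← hm, Sylow.coe_subgroup_smul, ← SetLike.mem_coe]
        exact ⟨⟨z, hz⟩, hP (mem_zpowers _), rfl⟩
      refine ⟨m, m.2, ⟨mem_subgroupOf.1 hmem, ?_⟩, fun e => ?_⟩
      · rw [conj_pow, show z ^ 2 = 1 from hz2 ▸ pow_orderOf_eq_one z]; group
      · rw [conj_eq_one_iff.1 e, orderOf_one] at hz2; omega
    obtain ⟨m₁, hm₁, hb₁, hb₁'⟩ := hto y hyM hy2
    obtain ⟨m₂, hm₂, hb₂, -⟩ := hto x hxM hx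
    set b₁ := m₁ * y * m₁⁻¹ with hb₁def
    set k := m₂ * g * m₁⁻¹ with hkdef
    have hk : k * b₁ * k⁻¹ = m₂ * (x : G) * m₂⁻¹ := by
      rw [hkdef, hb₁def, ← hyx]; group
    haveI := hS
    obtain ⟨n, hn, hn'⟩ := Fusion.exists_normalizer_conj_of_abelian S (g := k) hb₁.1 (by rw [hk]; exact hb₂.1)
    have hc : n⁻¹ * k ∈ centralizer ({b₁} : Set G) := mem_centralizer_singleton_iff.2 (by
      calc n⁻¹ * k * b₁ = n⁻¹ * (k * b₁ * k⁻¹) * k := by group
        _ = n⁻¹ * (n * b₁ * n⁻¹) * k := by rw [hn']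
        _ = b₁ * (n⁻¹ * k) := by group)
    have hkM : k ∈ M := by
      have := mul_mem (show n ∈ M from mem_sup_right hn) (hCa b₁ hb₁ hb₁' hc)
      rwa [mul_inv_cancel_left] at this
    have : g = m₂⁻¹ * k * m₁ := by rw [hkdef]; group
    rw [this]
    exact mul_mem (mul_mem (inv_mem hm₂) hkM) hm₁

end Cfsg.Lib.AbTwo
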