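import Cfsg.Agent.Lib.AbTwo.Semilinear

/-!
At the primitive prime the part of a two-point Sylow subgroup centralizing the involutions of `H` is
centralized by every normalizing swapper.
-/

set_option autoImplicit false
set_option linter.style.haveILetI false
set_option linter.unusedSectionVars false

namespace Cfsg.Lib.AbTwo

open Subgroup Cfsg Cfsg.Lib.Invol MulAction
open Cfsg.Lib.StrongEmb (kInv kPart invSet GoodPrime conj_mem_of_norm Frame IsSyl)

universe u

variable {G : Type u} [Group G] [Finite G] {H H1 : Subgroup G} {S : Sylow 2 G} {p : ℕ}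

theorem stabilizer_one (H : Subgroup G) : stabilizer G (QuotientGroup.mk 1 : G ⧸ H) = H := by
  ext g
  exact smul_coset_one_eq

theorem mk_eq_smul (H : Subgroup G) (g : G) : (QuotientGroup.mk g : G ⧸ H) = g • QuotientGroup.mk 1 :=
  congrArg (QuotientGroup.mk (s := H)) (mul_one g).symm

theorem conj_mem_stab {H : Subgroup G} {g y : G} {x : G ⧸ H} (hy : y ∈ stabilizer G x) :
    g * y * g⁻¹ ∈ stabilizer G (g • x) := by
  rw [mem_stabilizer_iff, mul_smul, mul_smul, inv_smul_smul, mem_stabilizer_iff.1 hy]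

theorem conj_mem_two {H : Subgroup G} {g y : G} {a b : G ⧸ H} (hy : y ∈ stabilizer G a ⊓ stabilizer G b) :
    g * y * g⁻¹ ∈ stabilizer G (g • a) ⊓ stabilizer G (g • b) :=
  mem_inf.2 ⟨conj_mem_stab (mem_inf.1 hy).1, conj_mem_stab (mem_inf.1 hy).2⟩

/-- A `p`-group of order at least the Sylow order is a Sylow subgroup of every subgroup above it. -/
theorem isSyl_of_card [Fact p.Prime] {K Q : Subgroup G} (hQ : IsPGroup p Q) (hle : Q ≤ K)
    (hc : p ^ (Nat.card G).factorization p ≤ Nat.card Q) : IsSyl p K Q :=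
  ⟨hle, le_antisymm (StrongEmb.card_le_of_le hQ hle) (le_trans (Nat.pow_le_pow_right (Fact.out : p.Prime).pos
    ((Nat.factorization_le_iff_dvd Nat.card_pos.ne' Nat.card_pos.ne').2 (card_subgroup_dvd_card K) p)) hc)⟩

namespace Setup

variable (h : Setup H S)
include h

/-- A two-point Sylow subgroup at a good prime fixes only two points and is a Sylow subgroup. -/
theorem frame_max [Fact p.Prime] (hp : p ∣ kInv H) {a b : G ⧸ H} {w : G} {P : Subgroup G}
    (F : Frame H p a b w P) :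
    (∀ c : G ⧸ H, P ≤ stabilizer G c → c = a ∨ c = b) ∧ Nat.card P = p ^ (Nat.card G).factorization p := by
  have hgood := h.goodPrime hp
  have h2 : ∀ c : G ⧸ H, P ≤ stabilizer G c → c = a ∨ c = b := by
    obtain ⟨a', b', w', P', F', hF'⟩ := StrongEmb.exists_two_fixed h.se (hgood.frameGood h.se)
    obtain ⟨g, hga, hgb⟩ := h.pretransitive F'.ne F.ne
    have hsyl : IsSyl p (stabilizer G a ⊓ stabilizer G b) (P'.map (MulAut.conj g).toMonoidHom) := by
      refine ⟨?_, ?_⟩
      · rintro _ ⟨y, hy, rfl⟩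
        rw [← hga, ← hgb]
        exact conj_mem_two (F'.syl.1 hy)
      · rw [Coprime.card_map_conj, F'.syl.2, ← hga, ← hgb, stabilizer_smul_eq_stabilizer_map_conj,
          stabilizer_smul_eq_stabilizer_map_conj, ← Subgroup.map_inf _ _ _
            (show Function.Injective (MulAut.conj g).toMonoidHom from (MulAut.conj g).injective)]
        exact congrArg (fun i => p ^ i.factorization p)
          (card_map_of_injective (f := (MulAut.conj g).toMonoidHom) (MulAut.conj g).injective).symm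
    have F'' : Frame H p a b (g * w' * g⁻¹) (P'.map (MulAut.conj g).toMonoidHom) :=
      ⟨F.ne, by rw [Invol.orderOf_conj_eq, F'.invol],
        by rw [← hga, mul_smul, mul_smul, inv_smul_smul, F'.swap, hgb], hsyl,
        le_normalizer_map (MulAut.conj g).toMonoidHom ⟨w', F'.norm, rfl⟩⟩
    refine StrongEmb.two_fixed_all h.se F'' (fun c hc => ?_) F.syl
    rcases hF' (g⁻¹ • c) (fun y hy => by
      rw [mem_stabilizer_iff, eq_inv_smul_iff, ← mul_smul, ← mul_smul]
      exact mem_stabilizer_iff.1 (hc ⟨y, hy, rfl⟩)) with e | e <;> rw [inv_smul_eq_iff] at e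
    exacts [Or.inl (e.trans hga), Or.inr (e.trans hgb)]
  refine ⟨h2, ?_⟩
  obtain ⟨Q, hQ⟩ := F.syl.isPGroup.exists_le_sylow
  rcases hQ.eq_or_lt with e | hlt
  · rw [← Q.card_eq_multiplicity]
    exact congrArg (fun K : Subgroup G => Nat.card K) e
  exfalso
  have h1 := Cfsg.Lib.FusionSys.lt_inf_normalizer_self Q.isPGroup' hlt
  refine h1.ne (F.syl.eq_of_le (Q.isPGroup'.to_le inf_le_left) ?_ h1.le).symm
  intro y hy
  obtain ⟨hyP, hyN⟩ := Subgroup.mem_inf.1 hy
  have hperm : ∀ z : G ⧸ H, P ≤ stabilizer G z → y • z = a ∨ y • z = b := fun z hz =>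
    h2 _ fun s hs => by
      rw [mem_stabilizer_iff, ← mul_smul, show s * y = y * (y⁻¹ * s * y) by group, mul_smul,
        (hz (by simpa [mul_assoc] using conj_mem_of_norm (inv_mem hyN) hs) : (y⁻¹ * s * y) • z = z)]
  obtain ⟨hfa, hfb⟩ := StrongEmb.fix_of_perm (StrongEmb.odd_of_good h.se (hgood.frameGood h.se)) Q.isPGroup' hyP F.ne
    (hperm a (le_trans F.syl.1 inf_le_left)) (hperm b (le_trans F.syl.1 inf_le_right))
  exact Subgroup.mem_inf.2 ⟨hfa, hfb⟩

end Setup

theorem relIndex_mul_card' {A B : Subgroup G} (hle : A ≤ B) : A.relIndex B * Nat.card A = Nat.card B := by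
  rw [relIndex, ← Nat.card_congr (subgroupOfEquivOfLe hle).toEquiv, index_mul_card]

namespace Scalars

variable (h : Setup H S) (c : Scalars H S H1 p)
include h c

theorem mem_of_pow {y : G} (hy : y ∈ H) {j : ℕ} (hj : y ^ (p ^ j) ∈ H1) : y ∈ H1 := by
  haveI : (H1.subgroupOf H).Normal := (normal_subgroupOf_iff_le_normalizer c.le).mpr c.norm
  set q : ↥H ⧸ H1.subgroupOf H := QuotientGroup.mk' (H1.subgroupOf H) ⟨y, hy⟩
  have h1 : orderOf q ∣ p ^ j := orderOf_dvd_of_pow_eq_one (by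
    rw [← map_pow]; exact (QuotientGroup.eq_one_iff _).2 (mem_subgroupOf.2 hj))
  have h2 : orderOf q ∣ H1.relIndex H := _root_.orderOf_dvd_natCard q
  have h3 : q = 1 := orderOf_eq_one_iff.1 (Nat.eq_one_of_dvd_coprimes
    (Nat.Coprime.pow_left j ((c.prime.coprime_iff_not_dvd).2 c.ndvd)) h1 h2)
  exact mem_subgroupOf.1 ((QuotientGroup.eq_one_iff _).1 h3)

theorem pElt_mem {P : Subgroup G} (hP : IsPGroup p P) (hle : P ≤ H) : P ≤ H1 := fun y hy => by
  obtain ⟨j, hj⟩ := hP ⟨y, hy⟩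
  refine c.mem_of_pow h (hle hy) (j := j) ?_
  rw [show y ^ p ^ j = 1 by simpa using congrArg Subtype.val hj]
  exact one_mem _

theorem card_H1 : ∃ a : ℕ, Nat.card H1 = a * Nat.card (base H S) ∧
    a.factorization p = (kInv H).factorization p := by
  obtain ⟨t, ht, ht1⟩ := h.exists_mem_omega
  have htH := h.omega_le ht
  have ht2 := orderOf_of_mem_omega ht ht1
  set C := centralizer ({t} : Set G) with hC
  have hCH : C ≤ H := fun g hg => se_centralizer h.se htH ht2 (mem_centralizer_singleton_iff.1 hg)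
  have hRC : base H S ≤ C := fun y hy => mem_centralizer_singleton_iff.2 (h.commute_omega hy ht).eq
  have hinf : H1 ⊓ C = base H S := le_antisymm
    (fun y hy => c.cent t ht2 htH y hy.1 (mem_centralizer_singleton_iff.1 hy.2)) (le_inf c.base_le hRC)
  haveI : (H1.subgroupOf H).Normal := (normal_subgroupOf_iff_le_normalizer c.le).mpr c.norm
  have hgC : H1.relIndex C ∣ H1.relIndex H := by
    rw [← relIndex_subgroupOf (H := H1) hCH]
    exact relIndex_dvd_index_of_normal (H := H1.subgroupOf H) (C.subgroupOf H)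
  obtain ⟨a, ha⟩ : ∃ a, Nat.card H1 = a * Nat.card (base H S) :=
    ⟨(base H S).relIndex H1, (relIndex_mul_card' c.base_le).symm⟩
  refine ⟨a, ha, ?_⟩
  have h1 : H1.relIndex H * Nat.card H1 = Nat.card H := relIndex_mul_card' c.le
  have h2 : H1.relIndex C * Nat.card (base H S) = Nat.card C := by
    rw [← hinf, ← inf_relIndex_right]; exact relIndex_mul_card' inf_le_right
  have h3 := h.card_centralizer_mul htH ht2
  have h4 : H1.relIndex H * a = kInv H * H1.relIndex C := by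
    refine Nat.eq_of_mul_eq_mul_right (Nat.card_pos (α := base H S)) ?_
    rw [mul_assoc, ← ha, h1, ← h3, ← hC, ← h2, mul_assoc]
  have hg0 : H1.relIndex H ≠ 0 := fun e => by
    rw [e, zero_mul] at h1; exact Nat.card_pos.ne h1
  have hgC0 : H1.relIndex C ≠ 0 := fun e => by
    rw [e, zero_mul] at h2; exact Nat.card_pos.ne h2
  have ha0 : a ≠ 0 := fun e => by rw [e, zero_mul] at ha; exact Nat.card_pos.ne' ha
  have h5 := congrArg (fun n : ℕ => n.factorization p) h4
  simp only [Nat.factorization_mul hg0 ha0, Nat.factorization_mul (StrongEmb.kInv_pos h.se).ne' hgC0,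
    Finsupp.add_apply, Nat.factorization_eq_zero_of_not_dvd c.ndvd,
    Nat.factorization_eq_zero_of_not_dvd (fun hd => c.ndvd (hd.trans hgC))] at h5
  omega

set_option maxHeartbeats 1000000 in
/-- The structure of a two-point Sylow subgroup at the primitive prime. -/
theorem frame_struct [Fact p.Prime] {β : G ⧸ H} {u : G} {P : Subgroup G}
    (F : Frame H p (QuotientGroup.mk 1) β u P) :
    (∀ y ∈ P, y ∈ base H S → Commute y u) ∧
      Nat.card ↥(P ⊓ base H S) = p ^ (Nat.card (base H S)).factorization p ∧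
      ∃ z ∈ P, u * z * u⁻¹ = z⁻¹ ∧ z ∈ H1 ∧ z ∉ base H S ∧
        ∀ x ∈ H1, (∃ j : ℕ, x ^ (p ^ j) ∈ base H S) → ∃ i : ℤ, (z ^ i)⁻¹ * x ∈ base H S := by
  classical
  obtain ⟨h2, hcard⟩ := h.frame_max c.dvd F
  have hpp := F.syl.isPGroup
  have hPodd := F.odd h.se
  have hPH : P ≤ H := fun y hy => smul_coset_one_eq.mp (mem_inf.1 (F.syl.1 hy)).1
  have hP1 := c.pElt_mem h hpp hPH
  obtain ⟨a, ha, hva⟩ := c.card_H1 h
  have ha0 : a ≠ 0 := fun e => by rw [e, zero_mul] at ha; exact Nat.card_pos.ne' ha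
  have hP : Nat.card P = kPart H p * p ^ (Nat.card (base H S)).factorization p := by
    have h1 := (isSyl_of_card hpp hP1 hcard.ge).2
    rw [ha, Nat.factorization_mul ha0 Nat.card_pos.ne', Finsupp.add_apply, pow_add, hva] at h1
    exact h1
  obtain ⟨K, iK, iKF, ψ, hψ⟩ := c.units
  set ψP : ↥P →* Kˣ := ψ.comp (Subgroup.inclusion hP1) with hψP
  have hker : ψP.ker = (base H S).subgroupOf P := by
    ext y; rw [MonoidHom.mem_ker, mem_subgroupOf]; exact hψ _
  have hsplit : Nat.card P = Nat.card ψP.range * Nat.card ↥(P ⊓ base H S) := by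
    rw [← index_ker, ← Nat.card_congr (subgroupOfEquivOfLe (inf_le_left : P ⊓ base H S ≤ P)).toEquiv,
      inf_subgroupOf_left, ← hker, index_mul_card]
  have hψa : Nat.card ψ.range = a := by
    refine Nat.eq_of_mul_eq_mul_right (Nat.card_pos (α := base H S)) ?_
    rw [← ha, ← index_ker, ← Nat.card_congr (subgroupOfEquivOfLe c.base_le).toEquiv,
      show (base H S).subgroupOf H1 = ψ.ker by ext y; rw [MonoidHom.mem_ker, mem_subgroupOf]; exact (hψ y).symm,
      index_mul_card]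
  have hKp : IsPGroup p ψP.range := hpp.of_surjective ψP.rangeRestrict ψP.rangeRestrict_surjective
  have hle_range : ψP.range ≤ ψ.range := by rintro _ ⟨y, rfl⟩; exact ⟨_, rfl⟩
  have hR_le : ∀ Q : Subgroup Kˣ, IsPGroup p Q → Q ≤ ψ.range → Nat.card Q ≤ kPart H p := by
    intro Q hQ hQle
    obtain ⟨n, hn⟩ := IsPGroup.iff_card.1 hQ
    rw [hn, kPart, ← hva]
    refine Nat.pow_le_pow_right c.prime.pos ((c.prime.pow_dvd_iff_le_factorization ha0).1 ?_)
    exact hn ▸ hψa ▸ card_dvd_of_le hQle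
  have hle_base : Nat.card ↥(P ⊓ base H S) ≤ p ^ (Nat.card (base H S)).factorization p :=
    StrongEmb.card_le_of_le (hpp.to_le inf_le_left) inf_le_right
  have hkp0 : 0 < kPart H p := pow_pos c.prime.pos _
  have hrange : Nat.card ψP.range = kPart H p := by
    refine le_antisymm (hR_le _ hKp hle_range) ?_
    refine Nat.le_of_mul_le_mul_right ?_ (pow_pos c.prime.pos ((Nat.card (base H S)).factorization p))
    rw [← hP, hsplit]
    exact Nat.mul_le_mul_left _ hle_base
  have hbase_card : Nat.card ↥(P ⊓ base H S) = p ^ (Nat.card (base H S)).factorization p := by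
    refine Nat.eq_of_mul_eq_mul_left hkp0 ?_
    rw [← hP, hsplit, hrange]
  -- the fixed points of the swapper
  set Y := P ⊓ centralizer ({u} : Set G) with hY
  have hYcard : Nat.card P = kPart H p * Nat.card Y := by
    rw [← F.ncard h.se, StrongEmb.ncard_invSet F.invol F.norm hPodd, hY,
      ← Nat.card_congr (subgroupOfEquivOfLe (inf_le_left : P ⊓ centralizer ({u} : Set G) ≤ P)).toEquiv,
      inf_subgroupOf_left, index_mul_card]
  have hconj : ∀ y ∈ P, u * y * u⁻¹ ∈ P := fun y hy => conj_mem_of_norm F.norm hy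
  have hK0 : ∀ y ∈ P, y ∈ base H S → u * y * u⁻¹ ∈ base H S → Commute y u := by
    intro y hy hyb hyu
    set K0 := (P ⊓ base H S) ⊓ (P ⊓ base H S).map (MulAut.conj u).toMonoidHom with hK0def
    have hmem : ∀ z ∈ P, z ∈ base H S → u * z * u⁻¹ ∈ base H S → z ∈ K0 := fun z hz hzb hzu =>
      mem_inf.2 ⟨mem_inf.2 ⟨hz, hzb⟩, u * z * u⁻¹, mem_inf.2 ⟨hconj z hz, hzu⟩, by
        show u * (u * z * u⁻¹) * u⁻¹ = z
        rw [show u * (u * z * u⁻¹) * u⁻¹ = (u * u) * z * (u * u)⁻¹ by group, inv_mul_self F.invol]; group⟩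
    have hnorm : u ∈ normalizer (K0 : Set G) := Subgroup.mem_normalizer_fintype fun z hz => by
      obtain ⟨hz1, hz2⟩ := mem_inf.1 hz
      obtain ⟨hzP, hzb⟩ := mem_inf.1 hz1
      obtain ⟨w, hw, rfl⟩ := hz2
      show u * (u * w * u⁻¹) * u⁻¹ ∈ K0
      have e : u * (u * w * u⁻¹) * u⁻¹ = w := by
        rw [show u * (u * w * u⁻¹) * u⁻¹ = (u * u) * w * (u * u)⁻¹ by group, inv_mul_self F.invol]; group
      rw [e]
      exact hmem w (mem_inf.1 hw).1 (mem_inf.1 hw).2 hzb
    have hK0odd : Odd (Nat.card K0) := hPodd.of_dvd_nat (card_dvd_of_le (inf_le_left.trans inf_le_left))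
    obtain ⟨j, ⟨hj, hji⟩, z, hz, hyjz⟩ := StrongEmb.exists_inv_mul_cent F.invol hnorm hK0odd (hmem y hy hyb hyu)
    obtain rfl : j = 1 := h.eq_one_of_inverted_base F.invol (mem_inf.1 (mem_inf.1 hj).1).2 hji
      (odd_orderOf_of_mem hK0odd hj)
    rw [one_mul] at hyjz
    exact hyjz ▸ hz
  have hab : ∀ x ∈ P, ∀ y ∈ P, x * y * x⁻¹ * y⁻¹ ∈ base H S := by
    intro x hx y hy
    have h1 : ψ (⟨x, hP1 hx⟩ * ⟨y, hP1 hy⟩ * ⟨x, hP1 hx⟩⁻¹ * ⟨y, hP1 hy⟩⁻¹) = 1 := by
      rw [map_mul, map_mul, map_mul, map_inv, map_inv, mul_comm (ψ ⟨x, _⟩), mul_inv_cancel_right, mul_inv_cancel]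
    exact (hψ _).1 h1
  have hYn : ∀ x ∈ P, ∀ y ∈ Y, x * y * x⁻¹ ∈ Y := by
    intro x hx y hy
    obtain ⟨hyP, hyu⟩ := mem_inf.1 hy
    have hyu' : Commute y u := mem_centralizer_singleton_iff.1 hyu
    have hc : Commute (x * y * x⁻¹ * y⁻¹) u := by
      refine hK0 _ (mul_mem (mul_mem (mul_mem hx hyP) (inv_mem hx)) (inv_mem hyP)) (hab x hx y hyP) ?_
      have e : u * (x * y * x⁻¹ * y⁻¹) * u⁻¹ =
          (u * x * u⁻¹) * (u * y * u⁻¹) * (u * x * u⁻¹)⁻¹ * (u * y * u⁻¹)⁻¹ := by group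
      rw [e, show u * y * u⁻¹ = y by rw [← hyu'.eq, mul_inv_cancel_right]]
      exact hab _ (hconj x hx) y hyP
    refine mem_inf.2 ⟨mul_mem (mul_mem hx hyP) (inv_mem hx), mem_centralizer_singleton_iff.2 ?_⟩
    have h3 := hc.mul_left hyu'
    rwa [inv_mul_cancel_right] at h3
  -- the centre of the swapper
  obtain ⟨δ, hδ⟩ := StrongEmb.exists_fix h.se F.invol
  obtain ⟨g, rfl⟩ := QuotientGroup.mk_surjective δ
  set δ : G ⧸ H := QuotientGroup.mk g with hδdef
  have hYδ : Y ≤ stabilizer G δ := fun y hy => mem_stabilizer_iff.2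
    (StrongEmb.smul_eq_of_commute h.se F.invol hδ (mem_centralizer_singleton_iff.1 (mem_inf.1 hy).2))
  have hcomm : ∀ t : G, orderOf t = 2 → t • δ = δ → ∀ y ∈ Y, Commute y t := by
    intro t ht htδ y hy
    have hu' : g⁻¹ * u * g ∈ H := smul_coset_eq_iff.mp hδ
    have ht' : g⁻¹ * t * g ∈ H := smul_coset_eq_iff.mp htδ
    have hy' : g⁻¹ * y * g ∈ H := smul_coset_eq_iff.mp (mem_stabilizer_iff.1 (hYδ hy))
    have hc : Commute (g⁻¹ * y * g) (g⁻¹ * u * g) := by
      have := Commute.map (show Commute y u from mem_centralizer_singleton_iff.1 (mem_inf.1 hy).2) (MulAut.conj g⁻¹).toMonoidHom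
      simpa [mul_assoc] using this
    have hy1 : g⁻¹ * y * g ∈ H1 := by
      obtain ⟨j, hj⟩ := hpp ⟨y, (mem_inf.1 hy).1⟩
      refine c.mem_of_pow h hy' (j := j) ?_
      have e : (g⁻¹ * y * g) ^ p ^ j = g⁻¹ * y ^ p ^ j * g := by
        simpa using conj_pow (a := g⁻¹) (b := y) (i := p ^ j)
      rw [e, show y ^ p ^ j = 1 by simpa using congrArg Subtype.val hj]
      simp
    have hyR : g⁻¹ * y * g ∈ base H S :=
      c.cent _ (by simpa [mul_assoc, F.invol] using Invol.orderOf_conj_eq g⁻¹ u) hu' _ hy1 hc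
    have ht2 : orderOf (g⁻¹ * t * g) = 2 := by simpa [mul_assoc, ht] using Invol.orderOf_conj_eq g⁻¹ t
    have := (h.commute_omega hyR (h.invol_mem_omega ht' ht2)).map (MulAut.conj g).toMonoidHom
    simpa [mul_assoc] using this
  set L := normalizer (Y : Set G) with hL
  have hPL : P ≤ L := fun x hx => Subgroup.mem_normalizer_fintype fun y hy => hYn x hx y hy
  have hEL : ∀ t : G, orderOf t = 2 → t • δ = δ → t ∈ L := fun t ht htδ =>
    Subgroup.mem_normalizer_fintype fun y hy => by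
      rwa [← (hcomm t ht htδ y hy).eq, mul_inv_cancel_right]
  obtain ⟨x, hx, hxδ⟩ : ∃ x ∈ P, x ∉ stabilizer G δ := by
    by_contra hc
    push Not at hc
    rcases h2 δ hc with e | e <;> rw [e] at hδ
    · rw [F.swap] at hδ; exact F.ne hδ.symm
    · rw [StrongEmb.swap_back F.invol F.swap] at hδ; exact F.ne hδ
  set Hd := (stabilizer G δ).subgroupOf L with hHd
  have hHdse : IsStronglyEmbedded Hd := by
    refine ⟨fun e => hxδ ?_, ?_, ?_⟩
    · exact (e ▸ mem_top (⟨x, hPL hx⟩ : L) : (⟨x, hPL hx⟩ : L) ∈ Hd)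
    · refine even_iff_two_dvd.2 ?_
      have h1 := Hd.orderOf_dvd_natCard (x := ⟨u, hEL u F.invol hδ⟩) hδ
      rwa [Subgroup.orderOf_mk, F.invol] at h1
    · intro l hl
      have hne : δ ≠ (l : G) • δ := fun e => hl (mem_subgroupOf.2 (mem_stabilizer_iff.2 e.symm))
      refine (StrongEmb.odd_two h.se hne).of_dvd_nat ?_
      refine (card_dvd_of_le (K := (stabilizer G δ ⊓ stabilizer G ((l : G) • δ)).subgroupOf L) ?_).trans
        (card_comap_dvd_of_injective _ L.subtype L.subtype_injective)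
      intro y hy
      obtain ⟨hy1, y', hy', rfl⟩ := mem_inf.1 hy
      exact mem_inf.2 ⟨hy1, conj_mem_stab hy'⟩
  set w := x * u * x⁻¹ with hwdef
  have hw : orderOf w = 2 := by rw [hwdef, Invol.orderOf_conj_eq, F.invol]
  have hwL : w ∈ L := mul_mem (mul_mem (hPL hx) (hEL u F.invol hδ)) (inv_mem (hPL hx))
  have hwδ : w • δ ≠ δ := fun e => hxδ (mem_stabilizer_iff.2 (se_fixed_unique h.se hw (x := x • δ) (y := δ)
    (by rw [hwdef, mul_smul, mul_smul, inv_smul_smul, hδ]) e))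
  set ε := w • δ with hε
  set DL := stabilizer G δ ⊓ stabilizer G ε ⊓ L with hDL
  have hYL : Y ≤ L := le_normalizer
  have hYε : Y ≤ stabilizer G ε := fun y hy => by
    rw [mem_stabilizer_iff, hε, ← mul_smul, show y * w = w * (w⁻¹ * y * w) by group, mul_smul,
      mem_stabilizer_iff.1 (hYδ (by simpa [mul_assoc] using conj_mem_of_norm (inv_mem hwL) hy))]
  -- the two-point stabilizer in the normalizer is transitive on the involutions at the centre
  have hindex : ((centralizer ({u} : Set G)).subgroupOf DL).index = kInv H := by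
    set C := (centralizer ({u} : Set G)).subgroupOf DL with hCdef
    have hC : ∀ a b : DL, a⁻¹ * b ∈ C ↔ (a : G) * u * (a : G)⁻¹ = (b : G) * u * (b : G)⁻¹ := by
      intro a b
      rw [mem_subgroupOf, mem_centralizer_singleton_iff]
      simp only [Subgroup.coe_mul, InvMemClass.coe_inv]
      constructor <;> intro e
      · calc (a : G) * u * (a : G)⁻¹ = (a : G) * (u * ((a : G)⁻¹ * b)) * (b : G)⁻¹ := by group
          _ = (a : G) * ((a : G)⁻¹ * b * u) * (b : G)⁻¹ := by rw [e]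
          _ = b * u * (b : G)⁻¹ := by group
      · calc (a : G)⁻¹ * b * u = (a : G)⁻¹ * ((b : G) * u * (b : G)⁻¹) * b := by group
          _ = (a : G)⁻¹ * ((a : G) * u * (a : G)⁻¹) * b := by rw [e]
          _ = u * ((a : G)⁻¹ * b) := by group
    have hstab : ∀ a : DL, ((a : G) * u * (a : G)⁻¹) • δ = δ := fun a => by
      have haδ : (a : G) • δ = δ := (mem_inf.1 (mem_inf.1 a.2).1).1
      rw [mul_smul, mul_smul, inv_smul_eq_iff.2 haδ.symm, hδ, haδ]
    let f : DL ⧸ C → FixSet H δ := Quotient.lift (fun a : DL =>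
        (⟨(a : G) * u * (a : G)⁻¹, by rw [Invol.orderOf_conj_eq, F.invol], hstab a⟩ : FixSet H δ))
      fun a b hab => Subtype.ext ((hC a b).1 (QuotientGroup.leftRel_apply.1 hab))
    rw [kInv, ← card_fixSet H δ]
    refine Nat.card_eq_of_bijective f ⟨?_, ?_⟩
    · intro a b
      induction a using QuotientGroup.induction_on
      induction b using QuotientGroup.induction_on
      intro e
      rw [QuotientGroup.eq]
      exact (hC _ _).2 (congrArg Subtype.val e)
    · rintro ⟨t, ht, htδ⟩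
      obtain ⟨d, hd, hdt⟩ := se_transitive hHdse (u := (⟨w, hwL⟩ : L)) (s := ⟨u, hEL u F.invol hδ⟩)
        (t := ⟨t, hEL t ht htδ⟩) (by rw [Subgroup.orderOf_mk]; exact hw) (fun e => hwδ e)
        (by rw [Subgroup.orderOf_mk]; exact F.invol) hδ (by rw [Subgroup.orderOf_mk]; exact ht) htδ
      obtain ⟨hd1, d', hd', rfl⟩ := mem_inf.1 hd
      have hdε : (w * (d' : G) * w⁻¹) ∈ stabilizer G ε := conj_mem_stab hd'
      refine ⟨QuotientGroup.mk ⟨w * (d' : G) * w⁻¹, mem_inf.2 ⟨mem_inf.2 ⟨hd1, hdε⟩,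
        mul_mem (mul_mem hwL d'.2) (inv_mem hwL)⟩⟩, Subtype.ext (show _ = (t : G) from congrArg Subtype.val hdt)⟩
  have hDLcard : kInv H * Nat.card Y ∣ Nat.card DL := by
    rw [← index_mul_card ((centralizer ({u} : Set G)).subgroupOf DL), hindex]
    refine Nat.mul_dvd_mul_left _ ?_
    have hYDL : Y ≤ DL := le_inf (le_inf hYδ hYε) hYL
    rw [← Nat.card_congr (subgroupOfEquivOfLe hYDL).toEquiv]
    exact card_dvd_of_le fun y hy => mem_subgroupOf.2 (mem_inf.1 (mem_subgroupOf.1 hy)).2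
  obtain ⟨P', hP', -⟩ := StrongEmb.exists_isSyl (p := p) (K := DL) ⊥ IsPGroup.of_bot bot_le
  have hP'card : p ^ (Nat.card G).factorization p ≤ Nat.card P' := by
    rw [← hcard, hP'.2, hYcard, kPart]
    obtain ⟨n, hn⟩ := IsPGroup.iff_card.1 (hpp.to_le (inf_le_left : Y ≤ P))
    rw [hn, ← pow_add]
    refine Nat.pow_le_pow_right c.prime.pos ((c.prime.pow_dvd_iff_le_factorization Nat.card_pos.ne').1 ?_)
    rw [pow_add]
    exact (Nat.mul_dvd_mul (Nat.ordProj_dvd _ _) (dvd_of_eq hn.symm)).trans hDLcard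
  have hsylP' : IsSyl p L P' := isSyl_of_card hP'.isPGroup (hP'.1.trans inf_le_right) hP'card
  obtain ⟨l, hl, hPl⟩ := hsylP'.exists_conj (isSyl_of_card hpp hPL hcard.ge)
  have hfix : P ≤ stabilizer G (l • δ) ∧ P ≤ stabilizer G (l • ε) := by
    refine ⟨fun y hy => ?_, fun y hy => ?_⟩ <;> rw [hPl] at hy <;> obtain ⟨y', hy', rfl⟩ := hy <;>
      refine conj_mem_stab ?_
    exacts [(mem_inf.1 (mem_inf.1 (hP'.1 hy')).1).1, (mem_inf.1 (mem_inf.1 (hP'.1 hy')).1).2]
  -- the fixed points centralize the involutions at both points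
  have hcentα : ∀ t : G, orderOf t = 2 → t ∈ H → ∀ y ∈ Y, Commute y t := by
    intro t ht htH y hy
    have hpush : ∀ m ∈ L, t • (m • δ) = m • δ → Commute y t := by
      intro m hm hmt
      have h1 : (m⁻¹ * t * m) • δ = δ := by rw [mul_smul, mul_smul, hmt, inv_smul_smul]
      have h2' := hcomm (m⁻¹ * t * m) (by simpa [mul_assoc, ht] using Invol.orderOf_conj_eq m⁻¹ t) h1
        (m⁻¹ * y * m) (by simpa using conj_mem_of_norm (inv_mem hm) hy)
      have := h2'.map (MulAut.conj m).toMonoidHom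
      simpa [mul_assoc] using this
    have htα : t • (QuotientGroup.mk 1 : G ⧸ H) = QuotientGroup.mk 1 := smul_coset_one_eq.mpr htH
    rcases h2 _ hfix.1 with e | e
    · exact hpush l hl (by rw [e]; exact htα)
    · rcases h2 _ hfix.2 with e' | e'
      · exact hpush (l * w) (mul_mem hl hwL) (by rw [mul_smul, ← hε, e']; exact htα)
      · exact absurd (MulAction.injective l (e'.trans e.symm)) hwδ
  have hYbase : Y ≤ base H S := fun y hy => h.mem_base_of_commute (hPH (mem_inf.1 hy).1) fun t ht => by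
    rcases h.mem_omega_iff.1 ht with rfl | ⟨ht2, htH⟩
    · exact Commute.one_right y
    · exact hcentα t ht2 htH y hy
  have hYeq : Y = P ⊓ base H S := Subgroup.eq_of_le_of_card_ge (le_inf inf_le_left hYbase) (by
    refine le_of_eq (Nat.eq_of_mul_eq_mul_left hkp0 ?_)
    rw [← hYcard, hsplit, hrange])
  refine ⟨fun y hy hyb => ?_, hbase_card, ?_⟩
  · have : y ∈ Y := hYeq ▸ mem_inf.2 ⟨hy, hyb⟩
    exact mem_centralizer_singleton_iff.1 (mem_inf.1 this).2
  obtain ⟨⟨z₀, hz₀⟩, hgen⟩ := (inferInstance : IsCyclic ψP.range).exists_generator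
  obtain ⟨y, rfl⟩ := hz₀
  obtain ⟨j, ⟨hj, hji⟩, v, hv, hyv⟩ := StrongEmb.exists_inv_mul_cent F.invol F.norm hPodd y.2
  have hvP : v ∈ P := by
    rw [show v = j⁻¹ * (y : G) by rw [hyv]; group]
    exact mul_mem (inv_mem hj) y.2
  have hvb : v ∈ base H S := hYbase (mem_inf.2 ⟨hvP, mem_centralizer_singleton_iff.2 hv.eq⟩)
  have hjy : ψP ⟨j, hj⟩ = ψP y := by
    have e : y = ⟨j, hj⟩ * ⟨v, hvP⟩ := Subtype.ext hyv
    rw [e, map_mul, show ψP ⟨v, hvP⟩ = 1 from (hψ _).2 hvb, mul_one]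
  have hone : (1 : ℕ) < kPart H p := Nat.one_lt_pow
    (c.prime.factorization_pos_of_dvd (StrongEmb.kInv_pos h.se).ne' c.dvd).ne' c.prime.one_lt
  refine ⟨j, hj, hji, hP1 hj, fun hjb => ?_, ?_⟩
  · have h1 : ψP y = 1 := hjy ▸ (hψ _).2 hjb
    have h4 : ψP.range = ⊥ := eq_bot_iff.2 fun q hq => by
      obtain ⟨i, hi⟩ := mem_zpowers_iff.1 (hgen ⟨q, hq⟩)
      have := congrArg Subtype.val hi
      simp only [SubgroupClass.coe_zpow, h1, one_zpow] at this
      exact mem_bot.2 this.symm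
    rw [h4, card_bot] at hrange
    omega
  · rintro x hx ⟨i, hi⟩
    have hxp : IsPGroup p (zpowers (ψ ⟨x, hx⟩)) := by
      have : ψ ⟨x, hx⟩ ^ p ^ i = 1 := by rw [← map_pow, hψ]; exact hi
      obtain ⟨e, -, he⟩ := (Nat.dvd_prime_pow c.prime).1 (orderOf_dvd_of_pow_eq_one this)
      exact IsPGroup.of_card (n := e) (by rw [Nat.card_zpowers, he])
    have hsup : zpowers (ψ ⟨x, hx⟩) ⊔ ψP.range = ψP.range :=
      (Subgroup.eq_of_le_of_card_ge le_sup_right (by
        rw [hrange]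
        exact hR_le _ (hxp.to_sup_of_normal_right hKp)
          (sup_le (zpowers_le.2 ⟨_, rfl⟩) hle_range))).symm
    obtain ⟨k, hk⟩ := mem_zpowers_iff.1 (hgen ⟨ψ ⟨x, hx⟩, hsup ▸ mem_sup_left (mem_zpowers _)⟩)
    have hk' : ψP y ^ k = ψ ⟨x, hx⟩ := by simpa using congrArg Subtype.val hk
    refine ⟨k, (hψ ((⟨j, hP1 hj⟩ ^ k)⁻¹ * ⟨x, hx⟩)).1 ?_⟩
    rw [map_mul, map_inv, map_zpow, show ψ ⟨j, hP1 hj⟩ = ψP y from hjy, hk', inv_mul_cancel]

end Scalars

end Cfsg.Lib.AbTwo
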