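import Cfsg.Agent.Lib.AbTwo.CharBase
import Cfsg.Agent.Lib.AbTwo.SylowP

/-!
Linear characters of `H` trivial on the scalar part, induced to the group.
-/

set_option autoImplicit false
set_option linter.style.haveILetI false
set_option linter.unusedSectionVars false

namespace Cfsg.Lib.AbTwo

open Subgroup Cfsg Cfsg.Lib.Invol MulAction Cfsg.Lib.Block
open Cfsg.Lib.StrongEmb (kInv)
open Cfsg.Lib.StrongEmb.TwoNilp (rep rep_char resRep fixDim avg_eq apply_one_eq_dim permChar classInner_permChar
  isClassFunction_permChar)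
open scoped ComplexConjugate

universe u

variable {G : Type u} [Group G] [Fintype G] {H : Subgroup G} {S : Sylow 2 G}

/-- An irreducible character fixed by a non-trivial subgroup of a simple group is principal. -/
theorem eq_triv_of_fixDim [IsSimpleGroup G] {K : Subgroup G} (hK : K ≠ ⊥) {χ : IrrCharacter G}
    (hd : fixDim K χ = χ.2.choose) : χ = trivChar G := by
  classical
  haveI := Fintype.ofFinite K
  have htop : (resRep K χ).invariants = ⊤ :=
    Submodule.eq_top_of_finrank_eq (by rw [Module.finrank_fin_fun]; exact hd)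
  have hker : K ≤ MonoidHom.ker (rep χ) := fun y hy => by
    rw [MonoidHom.mem_ker]
    exact LinearMap.ext fun v => (Representation.mem_invariants _ v).1
      (htop.symm ▸ Submodule.mem_top : v ∈ (resRep K χ).invariants) ⟨y, hy⟩
  rcases (inferInstance : (MonoidHom.ker (rep χ)).Normal).eq_bot_or_eq_top with e | e
  · exact absurd (eq_bot_iff.2 (e ▸ hker)) hK
  have hall : ∀ g : G, (χ : G → ℂ) g = (χ : G → ℂ) 1 := fun g => by
    have hg : (rep χ) g = (rep χ) 1 := by
      rw [map_one, MonoidHom.mem_ker.1 (e ▸ mem_top g : g ∈ MonoidHom.ker (rep χ))]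
    rw [← rep_char χ, Representation.character, Representation.character, hg]
  have h1 := Char.classInner_irr_self χ.2
  simp only [classInner, hall, Finset.sum_const, Finset.card_univ, nsmul_eq_mul, apply_one_eq_dim,
    Complex.conj_natCast, ← Nat.card_eq_fintype_card] at h1
  rw [← mul_assoc, inv_mul_cancel₀ (Nat.cast_ne_zero.2 Nat.card_pos.ne'), one_mul] at h1
  have h2 : χ.2.choose = 1 := Nat.eq_one_of_mul_eq_one_left (by exact_mod_cast h1)
  refine Subtype.ext (funext fun g => ?_)
  rw [hall g, apply_one_eq_dim, h2, Nat.cast_one, trivChar_coe]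

theorem re_mul_conj (a : ℂ) : (a * conj a).re = ‖a‖ ^ 2 := by
  rw [Complex.mul_conj, Complex.ofReal_re, Complex.normSq_eq_norm_sq]

theorem re_classInner_le (F P : G → ℂ) (hle : ∀ g, ‖F g‖ ≤ ‖P g‖) :
    (classInner F F).re ≤ (classInner P P).re := by
  simp only [classInner, Finset.mul_sum, Complex.re_sum]
  refine Finset.sum_le_sum fun g _ => ?_
  rw [show (Nat.card G : ℂ)⁻¹ = (((Nat.card G : ℝ)⁻¹ : ℝ) : ℂ) by push_cast; rfl, Complex.re_ofReal_mul,
    Complex.re_ofReal_mul, re_mul_conj, re_mul_conj]
  exact mul_le_mul_of_nonneg_left (pow_le_pow_left₀ (norm_nonneg _) (hle g) 2) (by positivity)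

namespace Setup

variable (h : Setup H S)
include h

/-- The two-point stabilizers and the index. -/
theorem card_two {β : G ⧸ H} (hβ : QuotientGroup.mk 1 ≠ β) :
    (H.index - 1) * Nat.card ↥(stabilizer G (QuotientGroup.mk 1 : G ⧸ H) ⊓ stabilizer G β) = Nat.card H := by
  classical
  haveI : Fintype (G ⧸ H) := Fintype.ofFinite _
  set D := stabilizer G (QuotientGroup.mk 1 : G ⧸ H) ⊓ stabilizer G β with hD
  have hDH : D ≤ H := fun y hy => smul_coset_one_eq.mp (mem_inf.1 hy).1
  rw [← index_mul_card (D.subgroupOf H), Nat.card_congr (subgroupOfEquivOfLe hDH).toEquiv]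
  congr 1
  have hidx : H.index - 1 = Nat.card {x : G ⧸ H // x ≠ QuotientGroup.mk 1} := by
    rw [index, Nat.card_eq_fintype_card, Nat.card_eq_fintype_card, Fintype.card_subtype_compl,
      Fintype.card_subtype_eq]
  have hmove : ∀ a : H, (a : G) • β ≠ QuotientGroup.mk 1 := fun a e => hβ
    (MulAction.injective (a : G) ((smul_coset_one_eq.mpr a.2).trans e.symm))
  rw [hidx, index]
  refine (Nat.card_eq_of_bijective (Quotient.lift
    (fun a : H => (⟨(a : G) • β, hmove a⟩ : {x : G ⧸ H // x ≠ QuotientGroup.mk 1}))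
    fun a b hab => Subtype.ext (Eq.symm ?_)) ⟨?_, ?_⟩).symm
  · have h1 := (mem_inf.1 (mem_subgroupOf.1 (QuotientGroup.leftRel_apply.1 hab))).2
    rw [mem_stabilizer_iff, Subgroup.coe_mul, InvMemClass.coe_inv, mul_smul, inv_smul_eq_iff] at h1
    exact h1
  · intro a b
    induction a using QuotientGroup.induction_on
    induction b using QuotientGroup.induction_on
    rename_i a b
    intro e
    rw [QuotientGroup.eq]
    refine mem_subgroupOf.2 (mem_inf.2 ⟨?_, ?_⟩)
    · rw [stabilizer_one]; exact mul_mem (inv_mem a.2) b.2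
    · rw [mem_stabilizer_iff, Subgroup.coe_mul, InvMemClass.coe_inv, mul_smul, inv_smul_eq_iff]
      exact (congrArg Subtype.val e).symm
  · rintro ⟨γ, hγ⟩
    obtain ⟨g, hg1, hg2⟩ := h.pretransitive hβ (Ne.symm hγ)
    exact ⟨QuotientGroup.mk ⟨g, smul_coset_one_eq.mp hg1⟩, Subtype.ext hg2⟩

theorem card_two_eq {γ β : G ⧸ H} (hγ : QuotientGroup.mk 1 ≠ γ) (hβ : QuotientGroup.mk 1 ≠ β) :
    Nat.card ↥(stabilizer G (QuotientGroup.mk 1 : G ⧸ H) ⊓ stabilizer G γ) =
      Nat.card ↥(stabilizer G (QuotientGroup.mk 1 : G ⧸ H) ⊓ stabilizer G β) := by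
  have h1 := h.card_two hγ
  rw [← h.card_two hβ] at h1
  refine Nat.eq_of_mul_eq_mul_left (Nat.pos_of_ne_zero fun e => ?_) h1
  have h2 := h.card_two hβ
  rw [e, zero_mul] at h2
  exact Nat.card_pos.ne h2

/-- The permutation character has norm two. -/
theorem norm_permChar : classInner (permChar H) (permChar H) = 2 := by
  classical
  haveI := Fintype.ofFinite H
  set α : G ⧸ H := QuotientGroup.mk 1
  obtain ⟨β, hβ⟩ := StrongEmb.exists_ne h.se α
  set D := stabilizer G α ⊓ stabilizer G β with hD
  rw [Char.classInner_eq_sum (isClassFunction_permChar H)]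
  simp only [classInner_permChar, Complex.conj_natCast]
  calc ∑ χ : IrrCharacter G, (fixDim H χ : ℂ) * fixDim H χ
      = (Nat.card H : ℂ)⁻¹ * ∑ a : H, permChar H (a : G) := by
        simp only [← sum_fixDim_mul]
        rw [Finset.sum_comm, Finset.mul_sum]
        refine Finset.sum_congr rfl fun χ _ => ?_
        rw [← Finset.mul_sum, mul_left_comm, avg_eq]
    _ = (Nat.card H : ℂ)⁻¹ * ((Nat.card H : ℂ)⁻¹ *
          ∑ g : G, ((Finset.univ.filter fun a : H => g * (a : G) * g⁻¹ ∈ H).card : ℂ)) := by
        simp only [permChar, ← Finset.mul_sum]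
        rw [Finset.sum_comm]
        simp only [Finset.sum_boole]
    _ = 2 := by
        have hval : ∀ g : G, (Finset.univ.filter fun a : H => g * (a : G) * g⁻¹ ∈ H).card =
            if g ∈ H then Nat.card H else Nat.card D := by
          intro g
          split_ifs with hg
          · rw [Finset.filter_true_of_mem fun a _ => mul_mem (mul_mem hg a.2) (inv_mem hg), Finset.card_univ,
              Nat.card_eq_fintype_card]
          · have hne : α ≠ g⁻¹ • α := fun e => hg (by
              have h1 : g • α = α := by conv_lhs => rw [e, smul_inv_smul]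
              exact smul_coset_one_eq.mp h1)
            rw [hD, ← h.card_two_eq hne hβ.symm, ← Fintype.card_subtype, ← Nat.card_eq_fintype_card]
            exact Nat.card_congr
              { toFun := fun a => ⟨a.1, mem_inf.2 ⟨smul_coset_one_eq.mpr a.1.2, by
                  have h1 := smul_coset_one_eq.mpr a.2
                  rw [mul_smul, mul_smul] at h1
                  rw [mem_stabilizer_iff, eq_inv_smul_iff]
                  exact h1⟩⟩
                invFun := fun y => ⟨⟨y.1, smul_coset_one_eq.mp (mem_inf.1 y.2).1⟩, smul_coset_one_eq.mp (by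
                  rw [mul_smul, mul_smul, mem_stabilizer_iff.1 (mem_inf.1 y.2).2, smul_inv_smul])⟩
                left_inv := fun a => rfl
                right_inv := fun y => rfl }
        simp only [hval, Nat.cast_ite, Finset.sum_ite, Finset.sum_const, nsmul_eq_mul, Finset.filter_not,
          Finset.card_univ_sdiff, ← Fintype.card_subtype, ← Nat.card_eq_fintype_card]
        have hG : Nat.card G - Nat.card H = Nat.card H * (H.index - 1) := by
          rw [← H.card_mul_index, Nat.mul_sub, mul_one]
        rw [hG, Nat.cast_mul (Nat.card H) (H.index - 1), mul_assoc, ← Nat.cast_mul (H.index - 1), hD, h.card_two hβ.symm]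
        have h0 : (Nat.card H : ℂ) ≠ 0 := Nat.cast_ne_zero.2 Nat.card_pos.ne'
        field_simp
        ring

/-- An induced linear character of `H` has at most norm two. -/
theorem norm_indFun (lam : ↥H →* ℂˣ) :
    (classInner (indFun H fun a => (lam a : ℂ)) (indFun H fun a => (lam a : ℂ))).re ≤ 2 := by
  classical
  refine (re_classInner_le _ (permChar H) fun g => ?_).trans (le_of_eq (by rw [h.norm_permChar]; norm_num))
  simp only [indFun, permChar, norm_mul, norm_inv, Complex.norm_natCast]
  refine mul_le_mul_of_nonneg_left ?_ (by positivity)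
  refine (norm_sum_le _ _).trans (le_of_eq ?_)
  rw [Finset.sum_boole, Complex.norm_natCast, ← Finset.sum_boole]
  refine Fintype.sum_equiv (Equiv.inv G) _ _ fun x => ?_
  simp only [Equiv.inv_apply, inv_inv]
  by_cases hx : x⁻¹ * g * x ∈ H
  · rw [Char.extendByZero_of_mem _ _ hx, if_pos hx]
    exact Char.norm_eq_one_of_pow_orderOf (g := (⟨_, hx⟩ : H))
      (by rw [← Units.val_pow_eq_pow_val, ← map_pow, pow_orderOf_eq_one, map_one, Units.val_one])
  · rw [Char.extendByZero_of_notMem _ _ hx, if_neg hx, norm_zero]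

theorem indFun_coset (lam : ↥H →* ℂˣ) {K : Subgroup G} (hRK : base H S ≤ K)
    (hlam : ∀ a : H, (a : G) ∈ K → lam a = 1) {t : G} (ht : t ∈ H) (ht2 : orderOf t = 2) {x : G}
    (hx : x ∈ core H) : indFun H (fun a => (lam a : ℂ)) (t * x) = 1 := by
  classical
  have key : ∀ g : G, extendByZero H (fun a => (lam a : ℂ)) (g⁻¹ * (t * x) * g) =
      if g ∈ H then 1 else 0 := by
    intro g
    split_ifs with hg
    · have hb : g⁻¹ * (t * x) * g ∈ base H S := by
        simpa using (h.conj_coset_mem_iff ht ht2 le_rfl h.base_le hx g⁻¹).2 (inv_mem hg)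
      rw [Char.extendByZero_of_mem _ _ (h.base_le hb), hlam _ (hRK hb), Units.val_one]
    · refine Char.extendByZero_of_notMem _ _ fun hm => hg ?_
      have := (h.conj_coset_mem_iff ht ht2 h.base_le le_rfl hx g⁻¹).1 (by simpa using hm)
      exact inv_mem_iff.1 this
  simp only [indFun, key, Finset.sum_boole, ← Fintype.card_subtype, ← Nat.card_eq_fintype_card]
  exact inv_mul_cancel₀ (Nat.cast_ne_zero.2 Nat.card_pos.ne')

/-- The multiplicities in an induced linear character. -/
theorem exists_mult (lam : ↥H →* ℂˣ) : ∃ c : IrrCharacter G → ℕ,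
    (∀ χ : IrrCharacter G, classInner (indFun H fun a => (lam a : ℂ)) (χ : G → ℂ) = (c χ : ℂ)) ∧
    (∀ z, ∑ χ : IrrCharacter G, (c χ : ℂ) * (χ : G → ℂ) z = indFun H (fun a => (lam a : ℂ)) z) ∧
    ∑ χ : IrrCharacter G, c χ ^ 2 ≤ 2 := by
  classical
  haveI := Fintype.ofFinite H
  have hc : ∀ χ : IrrCharacter G, ∃ n : ℕ, classInner (indFun H fun a => (lam a : ℂ)) (χ : G → ℂ) = n :=
    fun χ => (Char.isCharacter_indFun H (Char.isIrrCharacter_linear lam).isCharacter).exists_nat_classInner
      χ.2.isCharacter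
  choose c hc using hc
  refine ⟨c, hc, fun z => ?_, ?_⟩
  · conv_rhs => rw [Char.eq_sum_classInner (Char.isClassFunction_indFun H fun a => (lam a : ℂ))]
    simp only [Finset.sum_apply, Pi.smul_apply, smul_eq_mul, hc]
  · have h1 := h.norm_indFun lam
    rw [Char.classInner_eq_sum (Char.isClassFunction_indFun H fun a => (lam a : ℂ))] at h1
    simp only [hc, Complex.conj_natCast, ← Nat.cast_mul, ← Nat.cast_sum, Complex.natCast_re] at h1
    simp only [pow_two]
    exact_mod_cast h1

end Setup

end Cfsg.Lib.AbTwo
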