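import Cfsg.Agent.Lib.AbTwo.CoreTrivial
import Cfsg.Agent.Lib.Char.Central
import Mathlib.RingTheory.RootsOfUnity.Lemmas

/-!
The strongly embedded subgroup acts on the involutions by scalars only.
-/

set_option autoImplicit false
set_option linter.style.haveILetI false
set_option linter.unusedSectionVars false
set_option maxHeartbeats 1000000

namespace Cfsg.Lib.AbTwo

open Subgroup Cfsg Cfsg.Lib.Invol MulAction Cfsg.Lib.Block
open Cfsg.Lib.StrongEmb (kInv invSet)
open Cfsg.Lib.StrongEmb.TwoNilp (fixDim avg_eq apply_one_eq_dim)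
open scoped ComplexConjugate

universe u

theorem succ_lt_two_pow : ∀ v : ℕ, 2 ≤ v → v + 1 < 2 ^ v := by
  intro v hv
  induction v, hv using Nat.le_induction with
  | base => norm_num
  | succ w hw ih => rw [pow_succ]; omega

theorem eq_one_of_integral_ratio {η Z : ℂ} {o d n : ℕ} (hη : η ^ o = 1) (ho : Odd o) (hd : 0 < d)
    (hdn : 2 * d ≤ n) (hZ : IsIntegral ℤ Z) (he : (n : ℂ) * Z = (η - 1) * d) : η = 1 := by
  by_contra h1
  have hfin : IsOfFinOrder η := isOfFinOrder_iff_pow_eq_one.2 ⟨o, ho.pos, hη⟩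
  have hodd : Odd (orderOf η) := ho.of_dvd_nat (orderOf_dvd_of_pow_eq_one hη)
  have hne1 : orderOf η ≠ 1 := fun e => h1 (orderOf_eq_one_iff.1 e)
  have hpos := hfin.orderOf_pos
  obtain ⟨w, hw⟩ : ∃ w, orderOf η = w + 1 := ⟨orderOf η - 1, by omega⟩
  have hw2 : 2 ≤ w := by
    obtain ⟨i, hi⟩ := hodd
    omega
  have hprim : IsPrimitiveRoot η (w + 1) := hw ▸ IsPrimitiveRoot.orderOf η
  set P := ∏ i ∈ Finset.range w, Z * ∑ j ∈ Finset.range (i + 1), η ^ j with hP
  have hηint : IsIntegral ℤ η := ⟨Polynomial.X ^ o - 1, Polynomial.monic_X_pow_sub_C 1 ho.pos.ne', by simp [hη]⟩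
  have hPint : IsIntegral ℤ P := IsIntegral.prod _ fun i _ => hZ.mul (IsIntegral.sum _ fun j _ => hηint.pow j)
  have hkey : (n : ℂ) ^ w * ((-1) ^ w * P) = (d : ℂ) ^ w * (w + 1) := by
    rw [← hprim.prod_pow_sub_one_eq_order, hP,
      show ((n : ℂ) ^ w) = ∏ i ∈ Finset.range w, (n : ℂ) by simp,
      show ((d : ℂ) ^ w) = ∏ i ∈ Finset.range w, (d : ℂ) by simp,
      mul_left_comm, ← Finset.prod_mul_distrib, mul_left_comm _ ((-1 : ℂ) ^ w), ← Finset.prod_mul_distrib]
    refine congrArg _ (Finset.prod_congr rfl fun i _ => ?_)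
    rw [← mul_assoc, he, ← geom_sum_mul η (i + 1)]
    ring
  have hn0 : (n : ℂ) ≠ 0 := Nat.cast_ne_zero.2 (by omega)
  set q : ℚ := (d : ℚ) ^ w * (w + 1) / (n : ℚ) ^ w with hq
  have hqP : (q : ℂ) = (-1) ^ w * P := by
    rw [hq]
    push_cast
    rw [div_eq_iff (pow_ne_zero _ hn0), ← hkey, mul_comm]
  obtain ⟨m, hm⟩ := Char.exists_int_of_isIntegral_rat (q := q) (by
    rw [hqP]; exact ((isIntegral_one.neg).pow w).mul hPint)
  have hnq : (0 : ℚ) < n := by exact_mod_cast (by omega : 0 < n)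
  have hdq : (0 : ℚ) < d := by exact_mod_cast hd
  have hq0 : 0 < q := by rw [hq]; positivity
  have hq1 : q < 1 := by
    rw [hq, div_lt_one (pow_pos hnq w)]
    have h2 : w + 1 < 2 ^ w := succ_lt_two_pow w hw2
    calc (d : ℚ) ^ w * (w + 1) < (d : ℚ) ^ w * 2 ^ w :=
          mul_lt_mul_of_pos_left (by exact_mod_cast h2) (pow_pos hdq w)
      _ = (2 * d : ℚ) ^ w := by rw [mul_pow, mul_comm]
      _ ≤ (n : ℚ) ^ w := pow_le_pow_left₀ (by positivity) (by exact_mod_cast hdn) w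
  rw [hm] at hq0 hq1
  have a1 : (0 : ℤ) < m := by exact_mod_cast hq0
  have a2 : m < (1 : ℤ) := by exact_mod_cast hq1
  omega

variable {G : Type u} [Group G] [Fintype G] {H H1 : Subgroup G} {S : Sylow 2 G} {p : ℕ}

namespace Scalars

variable (h : Setup H S) (c : Scalars H S H1 p)
include h c

theorem base_eq : base H S = (S : Subgroup G) := by
  rw [base, (c.core_eq_bot h).1, sup_bot_eq]

theorem sylow_two_trivial {β : G ⧸ H} (hβ : QuotientGroup.mk 1 ≠ β) {y : G}
    (hy : y ∈ stabilizer G (QuotientGroup.mk 1 : G ⧸ H) ⊓ stabilizer G β) (hyS : y ∈ (S : Subgroup G)) : y = 1 := by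
  obtain ⟨j, hj⟩ := S.2 ⟨y, hyS⟩
  have h1 : orderOf y ∣ 2 ^ j := orderOf_dvd_of_pow_eq_one (by simpa using congrArg Subtype.val hj)
  exact orderOf_eq_one_iff.1 (Nat.eq_one_of_dvd_coprimes
    (Nat.Coprime.pow_right j (odd_orderOf_of_mem (StrongEmb.odd_two h.se hβ) hy).coprime_two_right) dvd_rfl h1)

/-- The scalar part of a two-point stabilizer is the set of elements inverted by a swapper. -/
theorem two_scalar {β : G ⧸ H} (hβ : QuotientGroup.mk 1 ≠ β) {u : G} (hu : orderOf u = 2)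
    (hsw : u • (QuotientGroup.mk 1 : G ⧸ H) = β) :
    let D := stabilizer G (QuotientGroup.mk 1 : G ⧸ H) ⊓ stabilizer G β
    Nat.card ↥(D ⊓ H1) = kInv H ∧ (∀ y ∈ D ⊓ H1, u * y * u⁻¹ = y⁻¹) ∧
      ∀ x ∈ H1, ∃ e ∈ D ⊓ H1, e⁻¹ * x ∈ (S : Subgroup G) := by
  intro D
  classical
  have hinj : Function.Injective (fun q : ↥(D ⊓ H1) × ↥(S : Subgroup G) =>
      (⟨(q.1 : G) * q.2, mul_mem (mem_inf.1 q.1.2).2 (c.base_le (mem_sup_left q.2.2))⟩ : H1)) := by
    rintro ⟨d, s⟩ ⟨d', s'⟩ he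
    have e' : (d : G) * s = d' * s' := congrArg Subtype.val he
    have h1 : (d' : G)⁻¹ * d = (s' : G) * (s : G)⁻¹ := by
      calc (d' : G)⁻¹ * d = (d' : G)⁻¹ * ((d : G) * s) * (s : G)⁻¹ := by group
        _ = (s' : G) * (s : G)⁻¹ := by rw [e']; group
    obtain rfl : d = d' := Subtype.ext (inv_mul_eq_one.1 (c.sylow_two_trivial h hβ
      (mul_mem (inv_mem (mem_inf.1 d'.2).1) (mem_inf.1 d.2).1) (h1 ▸ mul_mem s'.2 (inv_mem s.2)))).symm
    exact Prod.ext rfl (Subtype.ext (mul_left_cancel e'))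
  have hle := Nat.card_le_card_of_injective _ hinj
  rw [Nat.card_prod, (c.core_eq_bot h).2] at hle
  have hle' := Nat.le_of_mul_le_mul_right hle Nat.card_pos
  have hsub : invSet u D ⊆ (D ⊓ H1 : Subgroup G) := fun j hj =>
    mem_inf.2 ⟨hj.1, c.inverted_mem h hβ hu hsw hj.1 hj.2⟩
  have hge : kInv H ≤ Nat.card ↥(D ⊓ H1) := by
    rw [← StrongEmb.ncard_invSet_two h.se hβ hu hsw, ← SetLike.coe_sort_coe, Nat.card_coe_set_eq]
    exact Set.ncard_le_ncard hsub (Set.toFinite _)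
  have heq := le_antisymm hle' hge
  refine ⟨heq, fun y hy => ?_, fun x hx => ?_⟩
  · have hseteq : invSet u D = ((D ⊓ H1 : Subgroup G) : Set G) := Set.eq_of_subset_of_ncard_le hsub (by
      rw [← Nat.card_coe_set_eq, SetLike.coe_sort_coe, heq, ← StrongEmb.ncard_invSet_two h.se hβ hu hsw])
      (Set.toFinite _)
    exact (hseteq.symm ▸ hy : y ∈ invSet u D).2
  · haveI := Fintype.ofFinite H1
    haveI := Fintype.ofFinite ↥(D ⊓ H1)
    have hsurj := ((Fintype.bijective_iff_injective_and_card _).2 ⟨hinj, by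
      rw [← Nat.card_eq_fintype_card, ← Nat.card_eq_fintype_card, Nat.card_prod, (c.core_eq_bot h).2, heq]⟩).2
    obtain ⟨⟨e, s⟩, he⟩ := hsurj ⟨x, hx⟩
    refine ⟨e, e.2, ?_⟩
    rw [show x = (e : G) * s from (congrArg Subtype.val he).symm, inv_mul_cancel_left]
    exact s.2

/-- The Sylow subgroup is regular away from its point. -/
theorem regular {y z : G ⧸ H} (hy : y ≠ QuotientGroup.mk 1) (hz : z ≠ QuotientGroup.mk 1) :
    ∃! s : ↥(S : Subgroup G), (s : G) • y = z := by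
  classical
  haveI : Fintype (G ⧸ H) := Fintype.ofFinite _
  set α : G ⧸ H := QuotientGroup.mk 1
  set D := stabilizer G α ⊓ stabilizer G y with hD
  obtain ⟨u, hu, hsw⟩ := StrongEmb.exists_swapper h.se hy.symm
  obtain ⟨-, -, hdec⟩ := c.two_scalar h hy.symm hu hsw
  have hDH : D ≤ H := fun v hv => smul_coset_one_eq.mp (mem_inf.1 hv).1
  have hsurj : Function.Surjective (fun q : ↥D × ↥(S : Subgroup G) =>
      (⟨(q.1 : G) * q.2, mul_mem (hDH q.1.2) (h.sylow_le q.2.2)⟩ : H)) := by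
    rintro ⟨x, hx⟩
    obtain ⟨d, hd, hdx⟩ := c.cover h hy.symm hx
    obtain ⟨e, he, hes⟩ := hdec _ hdx
    exact ⟨(⟨d * e, mul_mem hd (mem_inf.1 he).1⟩, ⟨e⁻¹ * (d⁻¹ * x), hes⟩), Subtype.ext (by
      show d * e * (e⁻¹ * (d⁻¹ * x)) = x; group)⟩
  have h1 := Nat.card_le_card_of_surjective _ hsurj
  rw [Nat.card_prod, ← h.card_two hy.symm, mul_comm] at h1
  have hle : H.index - 1 ≤ Nat.card (S : Subgroup G) :=
    Nat.le_of_mul_le_mul_left h1 (Nat.card_pos (α := D))
  have hfix : ∀ s : ↥(S : Subgroup G), (s : G) • y ≠ α := fun s e => hy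
    (MulAction.injective (s : G) (e.trans (smul_coset_one_eq.mpr (h.sylow_le s.2)).symm))
  let f : ↥(S : Subgroup G) → {x : G ⧸ H // x ≠ α} := fun s => ⟨(s : G) • y, hfix s⟩
  have hf : Function.Injective f := fun a b e => by
    have e' : (a : G) • y = (b : G) • y := congrArg Subtype.val e
    have hab : (b : G)⁻¹ * a ∈ D := mem_inf.2
      ⟨smul_coset_one_eq.mpr (mul_mem (inv_mem (h.sylow_le b.2)) (h.sylow_le a.2)),
        by rw [mem_stabilizer_iff, mul_smul, e', inv_smul_smul]⟩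
    exact Subtype.ext (inv_mul_eq_one.1 (c.sylow_two_trivial h hy.symm hab (mul_mem (inv_mem b.2) a.2))).symm
  have hbij := (Fintype.bijective_iff_injective_and_card f).2 ⟨hf, le_antisymm (Fintype.card_le_of_injective f hf) (by
    rw [Fintype.card_subtype_compl, Fintype.card_subtype_eq, ← Nat.card_eq_fintype_card, ← Nat.card_eq_fintype_card]
    exact hle)⟩
  obtain ⟨s, hs⟩ := hbij.2 ⟨z, hz⟩
  exact ⟨s, congrArg Subtype.val hs, fun s' hs' => hf (Subtype.ext (hs'.trans (congrArg Subtype.val hs).symm))⟩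

theorem card_sylow : Nat.card (S : Subgroup G) + 1 = H.index := by
  classical
  haveI : Fintype (G ⧸ H) := Fintype.ofFinite _
  obtain ⟨y, hy⟩ := StrongEmb.exists_ne h.se (QuotientGroup.mk 1)
  have hfix : ∀ s : ↥(S : Subgroup G), (s : G) • y ≠ QuotientGroup.mk 1 := fun s e => hy
    (MulAction.injective (s : G) (e.trans (smul_coset_one_eq.mpr (h.sylow_le s.2)).symm))
  have hb : Function.Bijective (fun s : ↥(S : Subgroup G) =>
      (⟨(s : G) • y, hfix s⟩ : {x : G ⧸ H // x ≠ QuotientGroup.mk 1})) := by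
    refine ⟨fun a b e => ?_, fun z => ?_⟩
    · obtain ⟨s, -, hs⟩ := c.regular h hy (hfix b)
      exact (hs a (congrArg Subtype.val e)).trans (hs b rfl).symm
    · obtain ⟨s, hs, -⟩ := c.regular h hy z.2
      exact ⟨s, Subtype.ext hs⟩
  rw [Nat.card_congr (Equiv.ofBijective _ hb), Nat.card_eq_fintype_card, Fintype.card_subtype_compl,
    Fintype.card_subtype_eq, index, Nat.card_eq_fintype_card]
  have := Fintype.card_pos (α := G ⧸ H)
  omega

set_option maxHeartbeats 2000000 in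
/-- There is no field automorphism. -/
theorem scalar_eq : H1 = H := by
  classical
  by_contra hne
  haveI := h.simple
  haveI : Fact (Nat.Prime 2) := ⟨Nat.prime_two⟩
  haveI : Fintype H := Fintype.ofFinite H
  haveI : Fintype (G ⧸ H) := Fintype.ofFinite _
  set N := H1.subgroupOf H with hN
  haveI : N.Normal := (normal_subgroupOf_iff_le_normalizer c.le).mpr c.norm
  letI : CommGroup (↥H ⧸ N) := { (inferInstance : Group (↥H ⧸ N)) with
    mul_comm := fun a b => by
      obtain ⟨a, rfl⟩ := QuotientGroup.mk'_surjective N a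
      obtain ⟨b, rfl⟩ := QuotientGroup.mk'_surjective N b
      have h1 : QuotientGroup.mk' N (a * b * a⁻¹ * b⁻¹) = 1 :=
        (QuotientGroup.eq_one_iff _).2 (mem_subgroupOf.2 (c.comm a a.2 b b.2))
      rw [map_mul, map_mul, map_mul, map_inv, map_inv, mul_inv_eq_one, mul_inv_eq_iff_eq_mul] at h1
      exact h1 }
  haveI : NeZero (Monoid.exponent (↥H ⧸ N)) := ⟨Monoid.exponent_ne_zero_of_finite⟩
  obtain ⟨g₀, hg₀, hg₀1⟩ := SetLike.exists_of_lt (lt_of_le_of_ne c.le hne)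
  obtain ⟨φ, hφ⟩ := CommGroup.exists_apply_ne_one_of_hasEnoughRootsOfUnity (↥H ⧸ N) ℂ
    (a := QuotientGroup.mk' N ⟨g₀, hg₀⟩) fun e => hg₀1 (mem_subgroupOf.1 ((QuotientGroup.eq_one_iff _).1 e))
  set lam : ↥H →* ℂˣ := φ.comp (QuotientGroup.mk' N) with hlam
  have hl1 : ∀ a : H, (a : G) ∈ H1 → lam a = 1 := fun a ha => by
    show φ (QuotientGroup.mk' N a) = 1
    rw [QuotientGroup.mk'_apply, (QuotientGroup.eq_one_iff a).2 (mem_subgroupOf.2 ha), map_one]
  obtain ⟨m, hm, hmsum, hm2⟩ := h.exists_mult lam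
  -- the orders of the values are odd
  have hodd : ∀ a : H, ∃ o : ℕ, Odd o ∧ ((lam a : ℂˣ) : ℂ) ^ o = 1 := by
    intro a
    refine ⟨N.index, ?_, ?_⟩
    · refine Nat.odd_iff.2 (Nat.two_dvd_ne_zero.1 fun h2 => ?_)
      refine (S.subtype h.sylow_le).not_dvd_index (h2.trans (index_dvd_of_le ?_))
      exact fun x hx => mem_subgroupOf.2 (c.base_le (mem_sup_left (mem_subgroupOf.1 hx)))
    · rw [← Units.val_pow_eq_pow_val, ← map_pow, hl1 _ (mem_subgroupOf.1 (N.pow_index_mem a)), Units.val_one]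
  set α : G ⧸ H := QuotientGroup.mk 1 with hα
  obtain ⟨t, htE, ht1⟩ := h.exists_mem_omega
  have htH := h.omega_le htE
  have ht2 := orderOf_of_mem_omega htE ht1
  have hmem : ∀ {v : G}, v ∈ Char.classFinset t ↔ orderOf v = 2 := fun {v} => mem_classFinset_iff h ht2
  have hlamS : ∀ {v : G} (hv : v ∈ H) {j : ℕ}, orderOf v = 2 ^ j → lam ⟨v, hv⟩ = 1 := fun {v} hv {j} hj =>
    hl1 _ (c.base_le (h.two_elt_mem_base hv hj))
  -- involutions moving the point the same way
  have hswap : ∀ a b : G, orderOf a = 2 → orderOf b = 2 → a ∉ H → ∀ hab : a * b ∈ H, lam ⟨a * b, hab⟩ = 1 := by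
    intro a b ha hb haH hab
    obtain ⟨hne', hD, hinv⟩ := c.mul_mem_of_mem h ha hb hab haH
    exact hl1 _ (c.inverted_mem h hne' ha rfl hD hinv)
  set w : G → ℂ := extendByZero H (fun a => (lam a : ℂ)) with hw
  have hwH : ∀ {z : G} (hz : z ∈ H), w z = (lam ⟨z, hz⟩ : ℂ) := fun hz => Char.extendByZero_of_mem _ _ hz
  have hw0 : ∀ {z : G}, z ∉ H → w z = 0 := fun hz => Char.extendByZero_of_notMem _ _ hz
  have hwsum : ∀ χ : IrrCharacter G, ∑ z : G, w z * conj ((χ : G → ℂ) z) = (Nat.card H : ℂ) * m χ := by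
    intro χ
    rw [← hm, Char.classInner_indFun H _ χ.2.isClassFunction, classInner, ← mul_assoc,
      mul_inv_cancel₀ (Nat.cast_ne_zero.2 Nat.card_pos.ne'), one_mul]
    exact Char.sum_extendByZero H _ fun z => conj ((χ : G → ℂ) z)
  -- the formula at an element of the Sylow subgroup
  have formula : ∀ τ ∈ (S : Subgroup G), τ ≠ 1 → ∃ η : ℂ, (∃ o, Odd o ∧ η ^ o = 1) ∧
      (orderOf τ = 2 → η = 1) ∧
      ∑ χ : IrrCharacter G, (χ : G → ℂ) τ * (m χ : ℂ) = 1 ∧
      (H.index : ℂ) * ∑ χ : IrrCharacter G, (χ : G → ℂ) t * (χ : G → ℂ) τ / (χ : G → ℂ) 1 * (m χ : ℂ) =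
        1 + ((H.index : ℂ) - 1) * η := by
    intro τ hτ hτ1
    have hτH : τ ∈ H := h.sylow_le hτ
    obtain ⟨jτ, hjτ⟩ : ∃ j, orderOf τ = 2 ^ j := by
      obtain ⟨j, hj⟩ := IsPGroup.iff_orderOf.1 S.2 ⟨τ, hτ⟩
      exact ⟨j, by rw [← hj, Subgroup.orderOf_mk]⟩
    have hτfix : ∀ γ : G ⧸ H, τ • γ = γ → γ = α := by
      intro γ hγ
      by_contra hγα
      exact hτ1 (c.sylow_two_trivial h (Ne.symm hγα) (mem_inf.2 ⟨smul_coset_one_eq.mpr hτH, hγ⟩) hτ)
    have hconjH : ∀ g : G, g * τ * g⁻¹ ∈ H ↔ g ∈ H := by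
      refine fun g => ⟨fun hg => ?_, fun hg => mul_mem (mul_mem hg hτH) (inv_mem hg)⟩
      have h1 := smul_coset_one_eq.mpr hg
      rw [mul_smul, mul_smul] at h1
      have h2 := hτfix (g⁻¹ • α) (MulAction.injective g (by
        show g • (τ • g⁻¹ • α) = g • g⁻¹ • α
        rw [smul_inv_smul]; exact h1))
      rw [inv_smul_eq_iff] at h2
      exact smul_coset_one_eq.mp h2.symm
    have hclassv : ∀ {v : G}, v ∈ Char.classFinset τ → orderOf v = 2 ^ jτ := fun {v} hv => by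
      obtain ⟨g, rfl⟩ := isConj_iff.1 (Char.mem_classFinset.1 hv)
      rw [Invol.orderOf_conj_eq, hjτ]
    -- a swapper and a conjugate moving the point the same way
    set Kτ := Char.classFinset τ with hKτ
    obtain ⟨β, hβ⟩ := StrongEmb.exists_ne h.se α
    obtain ⟨g₁, hg₁⟩ := QuotientGroup.mk_surjective β
    set v₀ := g₁ * τ * g₁⁻¹ with hv₀
    have hg₁H : g₁ ∉ H := fun e => hβ (by rw [← hg₁, mk_eq_smul]; exact smul_coset_one_eq.mpr e)
    have hv₀H : v₀ ∉ H := fun e => hg₁H ((hconjH g₁).1 e)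
    have hv₀α : v₀ • α ≠ α := fun e => hv₀H (smul_coset_one_eq.mp e)
    obtain ⟨u₀, hu₀, hu₀α⟩ := StrongEmb.exists_swapper h.se hv₀α.symm
    have huv₀ : u₀ * v₀ ∈ H := smul_coset_one_eq.mp (by rw [mul_smul, ← hu₀α, ← mul_smul, Invol.inv_mul_self hu₀, one_smul])
    set η : ℂ := (lam ⟨u₀ * v₀, huv₀⟩ : ℂ) with hη
    have hconst : ∀ v ∈ Kτ, v ∉ H → ∀ a, orderOf a = 2 → ∀ hav : a * v ∈ H,
        (lam ⟨a * v, hav⟩ : ℂ) = η := by
      intro v hv hvH a ha hav
      obtain ⟨g, rfl⟩ := isConj_iff.1 (Char.mem_classFinset.1 hv)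
      have hgH : g ∉ H := fun e => hvH ((hconjH g).2 e)
      have hne1 : g₁⁻¹ • α ≠ α := fun e => hg₁H (inv_mem_iff.1 (smul_coset_one_eq.mp e))
      have hne2 : g⁻¹ • α ≠ α := fun e => hgH (inv_mem_iff.1 (smul_coset_one_eq.mp e))
      obtain ⟨s, hs, -⟩ := c.regular h hne1 hne2
      set d := g * (s : G) * g₁⁻¹ with hd
      have hdH : d ∈ H := smul_coset_one_eq.mp (by rw [hd, mul_smul, mul_smul, hs, smul_inv_smul])
      have hdv : d * v₀ * d⁻¹ = g * τ * g⁻¹ := by
        rw [hd, hv₀]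
        calc g * (s : G) * g₁⁻¹ * (g₁ * τ * g₁⁻¹) * (g * (s : G) * g₁⁻¹)⁻¹
            = g * ((s : G) * τ) * (s : G)⁻¹ * g⁻¹ := by group
          _ = g * τ * g⁻¹ := by rw [comm_of_mem h.abelian s.2 hτ]; group
      set a' := d * u₀ * d⁻¹ with ha'
      have ha'2 : orderOf a' = 2 := by rw [ha', Invol.orderOf_conj_eq, hu₀]
      have ha'v : a' * (g * τ * g⁻¹) ∈ H := by
        rw [← hdv, ha', show d * u₀ * d⁻¹ * (d * v₀ * d⁻¹) = d * (u₀ * v₀) * d⁻¹ by group]
        exact mul_mem (mul_mem hdH huv₀) (inv_mem hdH)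
      have haa : a * a' ∈ H := by
        have e : a * a' = (a * (g * τ * g⁻¹)) * (a' * (g * τ * g⁻¹))⁻¹ := by
          rw [mul_inv_rev, Invol.inv_eq_self ha'2]; group
        rw [e]; exact mul_mem hav (inv_mem ha'v)
      have haH : a ∉ H := fun e => hvH (by simpa using mul_mem (inv_mem e) hav)
      have e1 : (⟨a * (g * τ * g⁻¹), hav⟩ : H) = ⟨a * a', haa⟩ * ⟨a' * (g * τ * g⁻¹), ha'v⟩ := Subtype.ext (by
        show a * (g * τ * g⁻¹) = a * a' * (a' * (g * τ * g⁻¹))
        rw [mul_assoc a a', ← mul_assoc a' a', Invol.inv_mul_self ha'2, one_mul])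
      have e2 : (⟨a' * (g * τ * g⁻¹), ha'v⟩ : H) = ⟨d, hdH⟩ * ⟨u₀ * v₀, huv₀⟩ * ⟨d, hdH⟩⁻¹ := Subtype.ext (by
        show a' * (g * τ * g⁻¹) = d * (u₀ * v₀) * d⁻¹
        rw [← hdv, ha']; group)
      rw [e1, map_mul, hswap a a' ha ha'2 haH haa, one_mul, e2, map_mul, map_mul, map_inv,
        mul_comm (lam ⟨d, hdH⟩), mul_inv_cancel_right]
    -- the count
    set r := (Kτ.filter fun v => v ∈ H).card with hr
    have hrcard : r * H.index = Kτ.card := by
      have hr' : r = (Char.classFinset (⟨τ, hτH⟩ : H)).card := by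
        rw [hr]
        refine Finset.card_bij' (fun v hv => ⟨v, (Finset.mem_filter.1 hv).2⟩) (fun v _ => (v : G)) (fun v hv => ?_)
          (fun v hv => ?_) (fun _ _ => rfl) fun _ _ => rfl
        · obtain ⟨hv1, hv2⟩ := Finset.mem_filter.1 hv
          obtain ⟨g, rfl⟩ := isConj_iff.1 (Char.mem_classFinset.1 hv1)
          exact Char.mem_classFinset.2 (isConj_iff.2 ⟨⟨g, (hconjH g).1 hv2⟩, Subtype.ext rfl⟩)
        · obtain ⟨g, rfl⟩ := isConj_iff.1 (Char.mem_classFinset.1 hv)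
          exact Finset.mem_filter.2 ⟨Char.mem_classFinset.2 (isConj_iff.2 ⟨g, rfl⟩), (g * ⟨τ, hτH⟩ * g⁻¹).2⟩
      have hcen : centralizer ({(⟨τ, hτH⟩ : H)} : Set H) = (centralizer ({τ} : Set G)).subgroupOf H := by
        ext y
        rw [mem_centralizer_singleton_iff, mem_subgroupOf, mem_centralizer_singleton_iff]
        exact ⟨fun e => congrArg Subtype.val e, fun e => Subtype.ext e⟩
      rw [hr', Char.card_classFinset, hcen, hKτ, Char.card_classFinset]
      exact relIndex_mul_index (h.centralizer_le hτ hτ1)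
    have hinner : ∀ v ∈ Kτ, ∑ a ∈ Char.classFinset t, w (a * v) =
        (kInv H : ℂ) * (if v ∈ H then 1 else η) := by
      intro v hv
      have hfilter : ((Char.classFinset t).filter fun a => a * v ∈ H).card = kInv H := by
        have hiff : ∀ a, a ∈ (Char.classFinset t).filter (fun a => a * v ∈ H) ↔
            orderOf a = 2 ∧ a • α = v • α := by
          intro a
          rw [Finset.mem_filter, hmem]
          refine and_congr_right fun ha => ?_
          rw [← smul_coset_one_eq, mul_smul]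
          exact ⟨fun e => (StrongEmb.swap_back ha e).trans rfl, fun e => by rw [← e, ← mul_smul, Invol.inv_mul_self ha, one_smul]⟩
        rw [← Nat.card_eq_finsetCard, Nat.card_congr (Equiv.subtypeEquivRight hiff)]
        rcases eq_or_ne (v • α) α with e | e
        · rw [e]; exact card_fixSet H _
        · exact (se_swap h.se (Ne.symm e)).1
      rw [← Finset.sum_filter_of_ne (p := fun a => a * v ∈ H) fun a _ ha => by_contra fun e => ha (hw0 e),
        Finset.sum_congr rfl (g := fun _ => if v ∈ H then (1 : ℂ) else η) fun a ha => ?_, Finset.sum_const,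
        hfilter, nsmul_eq_mul]
      obtain ⟨ha1, ha2⟩ := Finset.mem_filter.1 ha
      rw [hwH ha2]
      split_ifs with hvH
      · have haH : a ∈ H := by simpa using mul_mem ha2 (inv_mem hvH)
        rw [show (⟨a * v, ha2⟩ : H) = ⟨a, haH⟩ * ⟨v, hvH⟩ from rfl, map_mul,
          hlamS haH (j := 1) (by rw [hmem.1 ha1, pow_one]), hlamS hvH (hclassv hv), mul_one, Units.val_one]
      · exact hconst v hv hvH a (hmem.1 ha1) ha2
    refine ⟨η, hodd _, fun hτ2 => ?_, ?_, ?_⟩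
    · have hv₀2 : orderOf v₀ = 2 := by rw [hv₀, Invol.orderOf_conj_eq, hτ2]
      rw [hη, hswap u₀ v₀ hu₀ hv₀2 (fun e => hv₀H (by simpa using mul_mem (inv_mem e) huv₀)) huv₀, Units.val_one]
    · simp only [mul_comm ((_ : G → ℂ) τ)]
      rw [hmsum]
      have key : ∀ g : G, extendByZero H (fun a => (lam a : ℂ)) (g⁻¹ * τ * g) = if g ∈ H then 1 else 0 := by
        intro g
        have hg' : g⁻¹ * τ * g ∈ H ↔ g ∈ H := by
          have := hconjH g⁻¹
          rwa [inv_inv, inv_mem_iff] at this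
        split_ifs with hg
        · rw [Char.extendByZero_of_mem _ _ (hg'.2 hg), hlamS _ (j := jτ) (by
            rw [← hjτ]; simpa using Invol.orderOf_conj_eq g⁻¹ τ), Units.val_one]
        · exact Char.extendByZero_of_notMem _ _ fun e => hg (hg'.1 e)
      simp only [indFun, key, Finset.sum_boole, ← Fintype.card_subtype, ← Nat.card_eq_fintype_card]
      exact inv_mul_cancel₀ (Nat.cast_ne_zero.2 Nat.card_pos.ne')
    · have hP := pair_formula t τ w
      rw [Finset.sum_product_right, Finset.sum_congr rfl hinner, ← Finset.mul_sum, Finset.sum_ite,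
        Finset.sum_const, Finset.sum_const, nsmul_eq_mul, nsmul_eq_mul, mul_one, ← hr] at hP
      have hKt : (Char.classFinset t).card = H.index * kInv H := by
        rw [Char.card_classFinset]
        refine Nat.eq_of_mul_eq_mul_right (Nat.card_pos (α := centralizer ({t} : Set G))) ?_
        rw [index_mul_card, mul_assoc, h.card_centralizer_mul htH ht2, index_mul_card]
      have hnot : (Kτ.filter fun v => v ∉ H).card = r * (H.index - 1) := by
        have h1 := Finset.card_filter_add_card_filter_not (s := Kτ) (fun v => v ∈ H)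
        rw [← hr, ← hrcard] at h1
        have h2 : r * (H.index - 1) + r = r * H.index := by
          rw [← Nat.mul_succ]
          congr 1
          have : H.index ≠ 0 := index_ne_zero_of_finite
          omega
        omega
      simp only [hwsum, ← hKτ] at hP
      rw [hKt, ← hrcard, hnot, Nat.cast_mul, Nat.cast_mul, Nat.cast_mul,
        Nat.cast_sub (Nat.pos_of_ne_zero index_ne_zero_of_finite), Nat.cast_one] at hP
      have hr0 : (r : ℂ) ≠ 0 := Nat.cast_ne_zero.2 (Finset.card_ne_zero.2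
        ⟨τ, Finset.mem_filter.2 ⟨Char.mem_classFinset.2 (IsConj.refl _), hτH⟩⟩)
      have hk0 : (kInv H : ℂ) ≠ 0 := Nat.cast_ne_zero.2 (StrongEmb.kInv_pos h.se).ne'
      have hH0 : (Nat.card H : ℂ) ≠ 0 := Nat.cast_ne_zero.2 Nat.card_pos.ne'
      have hn0 : (H.index : ℂ) ≠ 0 := Nat.cast_ne_zero.2 index_ne_zero_of_finite
      rw [← index_mul_card H, Nat.cast_mul] at hP
      rw [Finset.sum_congr rfl (g := fun χ : IrrCharacter G =>
        (Nat.card H : ℂ) * ((χ : G → ℂ) t * (χ : G → ℂ) τ / (χ : G → ℂ) 1 * (m χ : ℂ))) fun χ _ => by ring,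
        ← Finset.mul_sum] at hP
      field_simp at hP
      rw [hP]
      congr 1
      exact Finset.sum_congr rfl fun χ _ => by ring
  -- the constituents
  obtain ⟨ηt, -, hηt, hsum_t, hform_t⟩ := formula t htE.1 ht1
  rw [hηt ht2] at hform_t
  have hm1 : ∀ χ, m χ ≤ 1 := fun χ => by
    by_contra hc
    have h1 := (Finset.single_le_sum (f := fun ψ : IrrCharacter G => m ψ ^ 2) (fun _ _ => Nat.zero_le _)
      (Finset.mem_univ χ)).trans hm2
    have h4 : 2 ^ 2 ≤ m χ ^ 2 := Nat.pow_le_pow_left (Nat.lt_of_not_le hc) 2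
    omega
  set T := Finset.univ.filter fun χ : IrrCharacter G => m χ = 1 with hT
  have hTsum : ∀ F : IrrCharacter G → ℂ, ∑ χ, F χ * (m χ : ℂ) = ∑ χ ∈ T, F χ := by
    intro F
    rw [hT, Finset.sum_filter]
    refine Finset.sum_congr rfl fun χ _ => ?_
    rcases Nat.le_one_iff_eq_zero_or_eq_one.1 (hm1 χ) with e | e <;> simp [e]
  have hTcard : T.card ≤ 2 := by
    refine le_trans ?_ hm2
    rw [Finset.card_eq_sum_ones]
    exact le_trans (le_of_eq (Finset.sum_congr rfl fun χ hχ => by rw [(Finset.mem_filter.1 hχ).2, one_pow]))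
      (Finset.sum_le_sum_of_subset (Finset.subset_univ _))
  have hdeg : ∑ χ ∈ T, (χ : G → ℂ) 1 = (H.index : ℂ) := by
    rw [← hTsum]
    simp only [mul_comm ((_ : G → ℂ) 1)]
    rw [hmsum, Char.indFun_apply_one, map_one, Units.val_one, mul_one]
  rw [hTsum] at hsum_t hform_t
  rw [mul_one, add_sub_cancel] at hform_t
  have hn0 : (H.index : ℂ) ≠ 0 := Nat.cast_ne_zero.2 index_ne_zero_of_finite
  have hn1 : (H.index : ℂ) - 1 ≠ 0 := sub_ne_zero.2 fun e => h.se.1 (index_eq_one.1 (by exact_mod_cast e))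
  have hform_t' : ∑ χ ∈ T, (χ : G → ℂ) t * (χ : G → ℂ) t / (χ : G → ℂ) 1 = 1 :=
    (mul_eq_left₀ hn0).1 hform_t
  obtain ⟨χa, χb, hab, hTab⟩ : ∃ χa χb, χa ≠ χb ∧ T = {χa, χb} := by
    rw [← Finset.card_eq_two]
    rcases Nat.lt_or_ge T.card 2 with hlt | hge
    · exfalso
      rcases Nat.lt_or_ge T.card 1 with h0 | h1
      · rw [Finset.card_eq_zero.1 (Nat.lt_one_iff.1 h0), Finset.sum_empty] at hsum_t
        exact zero_ne_one hsum_t
      · obtain ⟨χ, hχ⟩ := Finset.card_eq_one.1 (le_antisymm (Nat.lt_succ_iff.1 hlt) h1)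
        rw [hχ, Finset.sum_singleton] at hsum_t hform_t' hdeg
        rw [hsum_t, mul_one, one_div, hdeg] at hform_t'
        exact hn1 (sub_eq_zero.2 (inv_eq_one.1 hform_t'))
    · omega
  obtain ⟨χ1, χ2, h12, hT12, hdle⟩ : ∃ χ1 χ2 : IrrCharacter G, χ1 ≠ χ2 ∧ T = {χ1, χ2} ∧
      χ1.2.choose ≤ χ2.2.choose := by
    rcases le_total χa.2.choose χb.2.choose with e | e
    · exact ⟨χa, χb, hab, hTab, e⟩
    · exact ⟨χb, χa, hab.symm, hTab.trans (Finset.pair_comm _ _), e⟩
  set d1 : ℕ := χ1.2.choose with hd1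
  set d2 : ℕ := χ2.2.choose with hd2
  have hdsum : d1 + d2 = H.index := by
    rw [hT12, Finset.sum_pair h12, apply_one_eq_dim, apply_one_eq_dim] at hdeg
    exact_mod_cast hdeg
  have hd1pos : 0 < d1 := Nat.pos_of_ne_zero fun e => χ1.2.apply_one_ne_zero (by
    rw [apply_one_eq_dim, ← hd1, e, Nat.cast_zero])
  have hd10 : (d1 : ℂ) ≠ 0 := Nat.cast_ne_zero.2 hd1pos.ne'
  have hd20 : (d2 : ℂ) ≠ 0 := Nat.cast_ne_zero.2 (by omega)
  have hnd : (H.index : ℂ) = d1 + d2 := by rw [← hdsum]; push_cast; rfl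
  set x1 := (χ1 : G → ℂ) t with hx1
  set x2 := (χ2 : G → ℂ) t with hx2
  have hx12 : x2 = 1 - x1 := by
    rw [hT12, Finset.sum_pair h12] at hsum_t
    linear_combination hsum_t
  rw [hT12, Finset.sum_pair h12, apply_one_eq_dim, apply_one_eq_dim, ← hd1, ← hd2, ← hx1, ← hx2,
    div_add_div _ _ hd10 hd20, div_eq_one_iff_eq (mul_ne_zero hd10 hd20), hx12] at hform_t'
  set D' := x1 * (H.index : ℂ) - d1 with hD'
  have hDsq : D' * D' = d1 * d2 * ((H.index : ℂ) - 1) := by
    rw [hD', hnd]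
    linear_combination ((d1 : ℂ) + d2) * hform_t'
  have hD0 : D' ≠ 0 := fun e => by
    rw [e, mul_zero] at hDsq
    rcases mul_eq_zero.1 hDsq.symm with e' | e'
    · rcases mul_eq_zero.1 e' with e'' | e''
      exacts [hd10 e'', hd20 e'']
    · exact hn1 e'
  have hval : ∀ τ ∈ (S : Subgroup G), τ ≠ 1 → (χ1 : G → ℂ) τ = x1 ∧ (χ2 : G → ℂ) τ = x2 := by
    intro τ hτ hτ1
    obtain ⟨η, ⟨o, ho, hηo⟩, -, hs, hf⟩ := formula τ hτ hτ1
    rw [hTsum, hT12, Finset.sum_pair h12] at hs hf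
    rw [← hx1, ← hx2, apply_one_eq_dim, apply_one_eq_dim, ← hd1, ← hd2] at hf
    set y1 := (χ1 : G → ℂ) τ with hy1
    have hy2 : (χ2 : G → ℂ) τ = 1 - y1 := by linear_combination hs
    rw [hy2, hx12] at hf
    field_simp at hf
    have h1 : (H.index : ℂ) * (y1 - x1) * D' = (η - 1) * (D' * D') := by
      rw [hDsq, hD']
      rw [hnd] at hf ⊢
      linear_combination hf - ((d1 : ℂ) + d2) * hform_t'
    have h2 : (H.index : ℂ) * (y1 - x1) = (η - 1) * D' := mul_right_cancel₀ hD0 (by rw [h1]; ring)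
    have hηint : IsIntegral ℤ η := ⟨Polynomial.X ^ o - 1, Polynomial.monic_X_pow_sub_C 1 ho.pos.ne', by simp [hηo]⟩
    have hη1 : η = 1 := eq_one_of_integral_ratio (Z := (η - 1) * x1 - (y1 - x1)) (n := H.index) (d := d1) hηo ho
      hd1pos (by omega)
      (((hηint.sub isIntegral_one).mul (χ1.2.isCharacter.mem_algInt t)).sub
        (IsIntegral.sub (χ1.2.isCharacter.mem_algInt τ) (χ1.2.isCharacter.mem_algInt t)))
      (by rw [hD'] at h2; linear_combination -h2)
    rw [hη1, sub_self, zero_mul, mul_eq_zero, or_iff_right hn0, sub_eq_zero] at h2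
    exact ⟨h2, by rw [hy2, h2, hx12]⟩
  -- the restriction to the Sylow subgroup
  letI : CommGroup ↥(S : Subgroup G) := { (inferInstance : Group ↥(S : Subgroup G)) with
    mul_comm := fun a b => Subtype.ext (comm_of_mem h.abelian a.2 b.2) }
  haveI : NeZero (Monoid.exponent ↥(S : Subgroup G)) := ⟨Monoid.exponent_ne_zero_of_finite⟩
  obtain ⟨μ, hμ⟩ := CommGroup.exists_apply_ne_one_of_hasEnoughRootsOfUnity ↥(S : Subgroup G) ℂ
    (a := (⟨t, htE.1⟩ : ↥(S : Subgroup G))) fun e => ht1 (congrArg Subtype.val e)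
  haveI : Fintype ↥(S : Subgroup G) := Fintype.ofFinite _
  have hμ0 : ∑ s : ↥(S : Subgroup G), conj ((μ s : ℂˣ) : ℂ) = 0 := by
    rw [← map_sum, map_eq_zero]
    by_contra h0
    refine hμ (Units.ext ((mul_eq_right₀ h0).1 ?_))
    rw [Finset.mul_sum]
    exact Fintype.sum_equiv (Equiv.mulLeft (⟨t, htE.1⟩ : ↥(S : Subgroup G))) _ _ fun s => by simp [map_mul]
  have hN : ∀ (χ : IrrCharacter G) (x : ℂ), (∀ τ ∈ (S : Subgroup G), τ ≠ 1 → (χ : G → ℂ) τ = x) →
      ∃ N : ℕ, (χ : G → ℂ) 1 - x = (Nat.card (S : Subgroup G) : ℂ) * N := by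
    intro χ x hx
    obtain ⟨N, hN⟩ := (χ.2.isCharacter.comp (S : Subgroup G).subtype).exists_nat_classInner
      (Char.isIrrCharacter_linear μ).isCharacter
    refine ⟨N, ?_⟩
    rw [← hN, classInner, ← mul_assoc, mul_inv_cancel₀ (Nat.cast_ne_zero.2 Nat.card_pos.ne'), one_mul]
    have e : ∀ s : ↥(S : Subgroup G), (χ : G → ℂ) ((S : Subgroup G).subtype s) * conj ((μ s : ℂˣ) : ℂ) =
        x * conj ((μ s : ℂˣ) : ℂ) + if s = 1 then (χ : G → ℂ) 1 - x else 0 := by
      intro s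
      split_ifs with hs
      · subst hs; simp
      · rw [add_zero, coe_subtype, hx s s.2 fun e => hs (Subtype.ext e)]
    simp only [e, Finset.sum_add_distrib, ← Finset.mul_sum, hμ0, mul_zero, zero_add, Finset.sum_ite_eq',
      Finset.mem_univ, if_true]
  obtain ⟨N1, hN1⟩ := hN χ1 x1 fun τ hτ hτ1 => (hval τ hτ hτ1).1
  obtain ⟨N2, hN2⟩ := hN χ2 x2 fun τ hτ hτ1 => (hval τ hτ hτ1).2
  have hS0 : (Nat.card (S : Subgroup G) : ℂ) ≠ 0 := Nat.cast_ne_zero.2 Nat.card_pos.ne'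
  have hNN : N1 + N2 = 1 := by
    have h1 : (Nat.card (S : Subgroup G) : ℂ) * ((N1 : ℂ) + N2) = Nat.card (S : Subgroup G) * 1 := by
      rw [mul_add, ← hN1, ← hN2, apply_one_eq_dim, apply_one_eq_dim, ← hd1, ← hd2, hx12]
      have h2 : ((Nat.card (S : Subgroup G) + 1 : ℕ) : ℂ) = ((d1 + d2 : ℕ) : ℂ) := by rw [hdsum, c.card_sylow h]
      push_cast at h2
      linear_combination -h2
    exact_mod_cast mul_left_cancel₀ hS0 h1
  obtain ⟨χ, hχT, hχval⟩ : ∃ χ ∈ T, ∀ τ ∈ (S : Subgroup G), (χ : G → ℂ) τ = (χ : G → ℂ) 1 := by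
    rcases Nat.eq_zero_or_pos N1 with e | e
    · refine ⟨χ1, by simp [hT12], fun τ hτ => ?_⟩
      rcases eq_or_ne τ 1 with rfl | hτ1
      · rfl
      · rw [(hval τ hτ hτ1).1]
        rw [e, Nat.cast_zero, mul_zero, sub_eq_zero] at hN1
        exact hN1.symm
    · refine ⟨χ2, by simp [hT12], fun τ hτ => ?_⟩
      rcases eq_or_ne τ 1 with rfl | hτ1
      · rfl
      · rw [(hval τ hτ hτ1).2]
        rw [show N2 = 0 by omega, Nat.cast_zero, mul_zero, sub_eq_zero] at hN2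
        exact hN2.symm
  have hd : fixDim (S : Subgroup G) χ = χ.2.choose := by
    have h1 := avg_eq (S : Subgroup G) χ
    rw [Finset.sum_congr rfl (g := fun _ => (χ : G → ℂ) 1) fun (s : ↥(S : Subgroup G)) _ => hχval s s.2,
      Finset.sum_const, Finset.card_univ, nsmul_eq_mul, ← Nat.card_eq_fintype_card, inv_mul_cancel_left₀ hS0,
      apply_one_eq_dim] at h1
    exact_mod_cast h1.symm
  have htriv := eq_triv_of_fixDim (fun e => ht1 (mem_bot.1 (e ▸ htE.1))) hd
  subst htriv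
  have h1 := hm (trivChar G)
  rw [(Finset.mem_filter.1 hχT).2, Char.classInner_indFun H _ (trivChar G).2.isClassFunction] at h1
  simp only [trivChar_coe] at h1
  rw [Char.classInner_irr_ne (Char.isIrrCharacter_linear lam) Char.isIrrCharacter_one
    (fun e => hφ (Units.ext (by
      have e' := congrFun e ⟨g₀, hg₀⟩
      simpa [hlam] using e')))] at h1
  exact zero_ne_one (h1.trans Nat.cast_one)

end Scalars

end Cfsg.Lib.AbTwo
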