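import Cfsg.Agent.Lib.AbTwo.Basic
import Cfsg.Agent.Lib.Group.MinimalNormalFactor
import Cfsg.Agent.Lib.A4Stab.Local

/-!
Reduction to simple groups.
-/

set_option autoImplicit false
set_option linter.style.haveILetI false

namespace Cfsg.Lib.AbTwo

open Subgroup

universe u

variable {G : Type u} [Group G] [Finite G]

/-- The hypothesis passes to the quotient by an odd normal subgroup. -/
theorem Hyp.quotient (h : Hyp G) (N : Subgroup G) [N.Normal] (hN : Odd (Nat.card N)) : Hyp (G ⧸ N) := by
  haveI : Fact (Nat.Prime 2) := ⟨Nat.prime_two⟩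
  set f := QuotientGroup.mk' N with hf
  have hsurj : Function.Surjective f := QuotientGroup.mk'_surjective _
  constructor
  · obtain ⟨S⟩ : Nonempty (Sylow 2 G) := inferInstance
    refine abelian_of_one (S.mapSurjective hsurj) ⟨⟨?_⟩⟩
    rintro ⟨_, a, ha, rfl⟩ ⟨_, b, hb, rfl⟩
    exact Subtype.ext (by
      simp only [MulMemClass.coe_mul]; rw [← map_mul, comm_of_mem (h.abelian S) ha hb, map_mul])
  · intro t ht
    obtain ⟨g, rfl⟩ := hsurj t
    obtain ⟨x, hx, hxg⟩ := A4Stab.exists_involution_lift N hN g ht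
    rw [← hxg]
    haveI := h.solv x hx
    have hP : IsPGroup 2 ↥(zpowers x) := IsPGroup.of_card (n := 1) (by rw [Nat.card_zpowers, hx, pow_one])
    have hc := Sig.centralizer_map_mk' (p := 2) N (Nat.coprime_two_right.2 hN) hP
    rw [MonoidHom.map_zpowers, zpowers_eq_closure, zpowers_eq_closure, centralizer_closure, centralizer_closure] at hc
    have hle : centralizer ({f x} : Set (G ⧸ N)) ≤ (centralizer ({x} : Set G)).map f := by
      rw [hf, hc]
    let φ := (f.comp (centralizer ({x} : Set G)).subtype).rangeRestrict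
    haveI : Group.IsSolvable ↥(f.comp (centralizer ({x} : Set G)).subtype).range :=
      Group.isSolvable_of_surjective (MonoidHom.rangeRestrict_surjective (f.comp (centralizer ({x} : Set G)).subtype))
    have hr : (centralizer ({x} : Set G)).map f ≤ (f.comp (centralizer ({x} : Set G)).subtype).range := by
      rw [MonoidHom.range_comp, range_subtype]
    exact Group.isSolvable_of_isSolvable_injective (f := inclusion (hle.trans hr)) (inclusion_injective _)

theorem exists_involution_of_nonsolvable {H : Subgroup G} (h : ¬ Group.IsSolvable ↥H) :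
    ∃ t ∈ H, orderOf t = 2 := by
  haveI : Fact (Nat.Prime 2) := ⟨Nat.prime_two⟩
  obtain ⟨t, ht⟩ := exists_prime_orderOf_dvd_card' (G := ↥H) 2 (by
    by_contra h2
    exact h (isSolvable_of_odd (Nat.odd_iff.2 (Nat.two_dvd_ne_zero.1 h2))))
  exact ⟨t, t.2, by rw [Subgroup.orderOf_coe, ht]⟩

omit [Finite G] in
theorem isSolvable_of_le {H K : Subgroup G} (hle : H ≤ K) (hK : Group.IsSolvable ↥K) : Group.IsSolvable ↥H :=
  Group.isSolvable_of_isSolvable_injective (f := inclusion hle) (inclusion_injective _)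

section Core

variable (h : Hyp G) (hO : Cfsg.oddCore G = ⊥) (hns : ¬ Group.IsSolvable G)
include h hO hns

theorem eq_bot_of_solvable_normal (M : Subgroup G) [M.Normal] (hM : Group.IsSolvable ↥M) : M = ⊥ := by
  haveI : Fact (Nat.Prime 2) := ⟨Nat.prime_two⟩
  by_contra hne
  obtain ⟨N, hNn, hNM, hNne, hNmin⟩ := Group.MinFactor.exists_minimal_normal (inferInstance : M.Normal) hne
  haveI := isSolvable_of_le hNM hM
  haveI := hNn
  obtain ⟨p, k, hp, hcard⟩ : ∃ p k : ℕ, p.Prime ∧ Nat.card N = p ^ k := by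
    have hmin : Core.IsMinNormal N := ⟨hNn, hNne, fun R hR hle => (eq_or_ne R ⊥).imp_right (hNmin R hR hle)⟩
    obtain ⟨-, p, hp, -, hpg⟩ := Core.minimal_solvable_elementary hmin inferInstance
    haveI := Fact.mk hp
    obtain ⟨k, hk⟩ := IsPGroup.iff_card.1 hpg
    exact ⟨p, k, hp, hk⟩
  rcases eq_or_ne p 2 with rfl | hp2
  · have hN2 : IsPGroup 2 ↥N := IsPGroup.of_card hcard
    obtain ⟨S⟩ : Nonempty (Sylow 2 G) := inferInstance
    have hNS : N ≤ (S : Subgroup G) := (Core.le_pCore hN2).trans (Core.pCore_le_sylow S)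
    set C := centralizer (N : Set G)
    have hSC : (S : Subgroup G) ≤ C := fun s hs =>
      mem_centralizer_iff.2 fun a ha => comm_of_mem (h.abelian S) (hNS ha) hs
    obtain ⟨t, htN, ht⟩ : ∃ t ∈ N, orderOf t = 2 := by
      obtain ⟨t, ht⟩ := exists_prime_orderOf_dvd_card' (G := ↥N) 2 (by
        rw [hcard]
        refine dvd_pow_self 2 ?_
        rintro rfl
        exact hNne (Subgroup.eq_bot_of_card_eq _ (by rw [hcard, pow_zero])))
      exact ⟨t, t.2, by rw [Subgroup.orderOf_coe, ht]⟩
    haveI : Group.IsSolvable ↥C := isSolvable_of_le (fun c hc => mem_centralizer_singleton_iff.2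
      (mem_centralizer_iff.1 hc t htN).symm) (h.solv t ht)
    haveI : C.Normal := normal_centralizer
    haveI : Group.IsSolvable (G ⧸ C) := by
      refine Cfsg.Agent.S0205.result (Nat.odd_iff.2 (Nat.two_dvd_ne_zero.1 fun h2 => ?_))
      rw [← index_eq_card] at h2
      exact S.not_dvd_index (h2.trans (index_dvd_of_le hSC))
    exact hns (Group.isSolvable_of_ker_le_range C.subtype (QuotientGroup.mk' C) (by simp))
  · refine hNne (le_bot_iff.1 (hO ▸ Core.le_pPrimeCore' hNn ?_))
    rw [hcard]
    exact Nat.Coprime.pow_left k ((Nat.coprime_primes hp Nat.prime_two).2 hp2)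

theorem exists_simple_normal : ∃ N : Subgroup G, N.Normal ∧ IsSimpleGroup ↥N ∧ ¬ IsMulCommutative ↥N ∧
    centralizer (N : Set G) = ⊥ := by
  have htop : (⊤ : Subgroup G) ≠ ⊥ := fun e => hns (by
    refine Group.isSolvable_of_comm fun a b => ?_
    rw [mem_bot.1 (e ▸ mem_top a : a ∈ (⊥ : Subgroup G)), one_mul, mul_one])
  obtain ⟨N, hNn, -, hNne, hNmin⟩ := Group.MinFactor.exists_minimal_normal (inferInstance : (⊤ : Subgroup G).Normal) htop
  haveI := hNn
  have hNns : ¬ Group.IsSolvable ↥N := fun e => hNne (eq_bot_of_solvable_normal h hO hns N e)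
  obtain ⟨t, htN, ht⟩ := exists_involution_of_nonsolvable hNns
  have hC : centralizer (N : Set G) = ⊥ := by
    haveI : (centralizer (N : Set G)).Normal := normal_centralizer
    refine eq_bot_of_solvable_normal h hO hns _ (isSolvable_of_le (fun c hc => ?_) (h.solv t ht))
    exact mem_centralizer_singleton_iff.2 (mem_centralizer_iff.1 hc t htN).symm
  refine ⟨N, hNn, ?_, fun e => hNns ?_, hC⟩
  swap
  · exact Group.isSolvable_of_comm fun a b => e.is_comm.comm a b
  haveI : Nontrivial ↥N := (nontrivial_iff_ne_bot N).2 hNne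
  -- a minimal `N`-invariant subgroup is normal in `G`
  obtain ⟨M, hM⟩ := Group.MinFactor.exists_factor hNne
  have hMns : ¬ Group.IsSolvable ↥M := by
    intro e
    haveI : (M.subgroupOf N).Normal := ⟨fun a ha g => mem_subgroupOf.2 (hM.norm g g.2 a (mem_subgroupOf.1 ha))⟩
    haveI := e
    have hMs : Group.IsSolvable ↥(M.subgroupOf N) :=
      Group.isSolvable_of_isSolvable_injective (f := (subgroupOfEquivOfLe hM.le).toMonoidHom) (MulEquiv.injective _)
    have hR : M.subgroupOf N ≤ solvRad ↥N := le_solvRad hMs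
    obtain ⟨hrn, hrs⟩ := solvRad_mem (G := ↥N)
    haveI := hrn
    haveI : (solvRad ↥N).Characteristic := characteristic_iff_map_le.2 fun φ => by
      haveI : ((solvRad ↥N).map φ.toMonoidHom).Normal := hrn.map _ φ.surjective
      haveI := hrs
      exact le_solvRad (Group.isSolvable_of_surjective (MonoidHom.subgroupMap_surjective φ.toMonoidHom (solvRad ↥N)))
    haveI : ((solvRad ↥N).map N.subtype).Normal := Core.normal_map_char_of_normal _
    haveI := hrs
    have hR' := eq_bot_of_solvable_normal h hO hns ((solvRad ↥N).map N.subtype)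
      (Group.isSolvable_of_surjective (MonoidHom.subgroupMap_surjective N.subtype (solvRad ↥N)))
    rw [map_eq_bot_iff_of_injective _ (subtype_injective N)] at hR'
    refine hM.ne (eq_bot_iff.2 fun x hx => ?_)
    have h1 : (⟨x, hM.le hx⟩ : ↥N) ∈ solvRad ↥N := hR (mem_subgroupOf.2 hx)
    rw [hR', mem_bot] at h1
    exact mem_bot.2 (congrArg Subtype.val h1)
  obtain ⟨s, hsM, hs⟩ := exists_involution_of_nonsolvable hMns
  have hconj : ∀ g : G, M.map (MulAut.conj g).toMonoidHom = M := by
    intro g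
    have hMg := hM.conj g
    set M' := M.map (MulAut.conj g).toMonoidHom
    by_contra hne
    have hdis : M' ⊓ M = ⊥ := by
      by_contra hd
      exact hne ((hMg.min _ inf_le_left (fun n hn x hx => mem_inf.2 ⟨hMg.norm n hn x hx.1, hM.norm n hn x hx.2⟩) hd).symm.trans
        (hM.min _ inf_le_right (fun n hn x hx => mem_inf.2 ⟨hMg.norm n hn x hx.1, hM.norm n hn x hx.2⟩) hd))
    have hle : M' ≤ centralizer ({s} : Set G) := fun y hy => by
      refine mem_centralizer_singleton_iff.2 ?_
      have h1 : y * s * y⁻¹ * s⁻¹ ∈ M' ⊓ M := mem_inf.2 ⟨by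
        rw [show y * s * y⁻¹ * s⁻¹ = y * (s * y⁻¹ * s⁻¹) by group]
        exact mul_mem hy (hMg.norm s (hM.le hsM) _ (inv_mem hy)),
        mul_mem (hM.norm y (hMg.le hy) s hsM) (inv_mem hsM)⟩
      rw [hdis, mem_bot] at h1
      calc y * s = (y * s * y⁻¹ * s⁻¹) * s * y := by group
        _ = s * y := by rw [h1, one_mul]
    refine hMns ?_
    haveI := isSolvable_of_le hle (h.solv s hs)
    exact Group.isSolvable_of_isSolvable_injective (f := (M.equivMapOfInjective (MulAut.conj g).toMonoidHom (MulAut.conj g).injective).toMonoidHom)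
      (MulEquiv.injective _)
  have hMn : M.Normal := ⟨fun a ha g => by
    have h1 : g * a * g⁻¹ ∈ M.map (MulAut.conj g).toMonoidHom := ⟨a, ha, rfl⟩
    rwa [hconj g] at h1⟩
  have hMN : M = N := hNmin M hMn hM.le hM.ne
  refine IsSimpleGroup.mk fun R hR => ?_
  by_cases hb : R = ⊥
  · exact Or.inl hb
  refine Or.inr ?_
  have hRM := hM.min (R.map N.subtype) (by rw [hMN]; exact map_subtype_le R) (by
    rintro n hn _ ⟨r, hr, rfl⟩
    exact ⟨⟨n, hn⟩ * r * ⟨n, hn⟩⁻¹, hR.conj_mem r hr _, rfl⟩)
    (fun e => hb ((map_eq_bot_iff_of_injective _ (subtype_injective N)).1 e))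
  rw [hMN] at hRM
  refine eq_top_iff.2 fun x _ => ?_
  have hx : (x : G) ∈ R.map N.subtype := by rw [hRM]; exact x.2
  obtain ⟨r, hr, he⟩ := hx
  exact Subtype.ext he ▸ hr

end Core

/-- The theorem for a group follows from the theorem for simple groups of no larger order. -/
theorem concl_of_simple
    (H : ∀ (T : Type u) [Group T] [Finite T] [IsSimpleGroup T], Nat.card T ≤ Nat.card G →
      ¬ IsMulCommutative T → Hyp T → IsGoodPSL T)
    (h : Hyp G) : Concl G := by
  by_cases hs : Group.IsSolvable G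
  · exact Or.inl hs
  refine Or.inr ?_
  have hq := h.quotient (Cfsg.oddCore G) odd_oddCore
  have hns : ¬ Group.IsSolvable (G ⧸ Cfsg.oddCore G) := fun e => hs (by
    haveI := e
    haveI := isSolvable_of_odd (odd_oddCore (G := G))
    exact Group.isSolvable_of_ker_le_range (Cfsg.oddCore G).subtype (QuotientGroup.mk' (Cfsg.oddCore G)) (by simp))
  obtain ⟨N, hNn, hNs, hNa, hNc⟩ := exists_simple_normal hq Core.pPrimeCore_quotient_eq_bot hns
  haveI := hNs
  obtain ⟨F, i, j, hF, he⟩ := H ↥N
    ((Nat.le_of_dvd Nat.card_pos (card_subgroup_dvd_card N)).trans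
      (Nat.le_of_dvd Nat.card_pos (card_quotient_dvd_card (Cfsg.oddCore G)))) hNa (hq.subgroup N)
  exact ⟨F, i, j, hF, N, hNn, he, hNc⟩

end Cfsg.Lib.AbTwo
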