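import Cfsg.Agent.Lib.AbTwo.Setting
import Cfsg.Agent.S3360
import Cfsg.Agent.S2904
import Mathlib.FieldTheory.Fixed
import Mathlib.Data.Nat.GCD.Basic

/-!
The involutions of `H` form the additive group of a field on which `H` acts by semilinear maps; the scalar
part and a primitive prime of the field.
-/

set_option autoImplicit false
set_option linter.style.haveILetI false
set_option linter.unusedSectionVars false

namespace Cfsg.Lib.AbTwo

open Subgroup Cfsg Cfsg.Lib.Invol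
open Cfsg.Lib.StrongEmb (kInv)

universe u

section Field

variable {F : Type} [Field F] [Fintype F]

theorem card_fixed_field {m : ℕ} (hF : Fintype.card F = 2 ^ m) (Φ : Subgroup (RingAut F)) :
    ∃ l : ℕ, l * Nat.card Φ = m ∧ Nat.card (FixedPoints.subfield Φ F) = 2 ^ l := by
  haveI : Finite (RingAut F) := Finite.of_injective (fun σ : RingAut F => (σ : F → F)) DFunLike.coe_injective
  letI : Fintype Φ := Fintype.ofFinite Φ
  haveI : FaithfulSMul Φ F := ⟨fun {a b} hab => Subtype.ext (RingEquiv.ext hab)⟩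
  have h1 := FixedPoints.finrank_eq_card Φ F
  have h2 : Nat.card F = Nat.card (FixedPoints.subfield Φ F) ^ Fintype.card Φ := by
    rw [← h1]; exact Module.natCard_eq_pow_finrank
  rw [Nat.card_eq_fintype_card, hF] at h2
  obtain ⟨l, -, hl⟩ := (Nat.dvd_prime_pow Nat.prime_two).1
    (h2 ▸ dvd_pow_self _ Fintype.card_ne_zero : Nat.card (FixedPoints.subfield Φ F) ∣ 2 ^ m)
  refine ⟨l, ?_, hl⟩
  rw [hl, ← pow_mul] at h2
  rw [Nat.card_eq_fintype_card]
  exact ((Nat.pow_right_injective le_rfl) h2).symm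

theorem ringAut_comm (a b : RingAut F) : a * b = b * a := by
  obtain ⟨g, hg⟩ := (inferInstance : IsCyclic Fˣ).exists_generator
  have hpow : ∀ c : RingAut F, ∃ i : ℤ, c (g : F) = ((g ^ i : Fˣ) : F) := fun c => by
    obtain ⟨i, hi⟩ := mem_zpowers_iff.1 (hg (Units.mapEquiv c.toMulEquiv g))
    exact ⟨i, (congrArg (fun v : Fˣ => (v : F)) hi).symm⟩
  obtain ⟨i, hi⟩ := hpow a
  obtain ⟨j, hj⟩ := hpow b
  have hz : ∀ (c : RingAut F) (i : ℤ), c ((g ^ i : Fˣ) : F) = (c (g : F)) ^ i := fun c i => by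
    rw [Units.val_zpow_eq_zpow_val, map_zpow₀]
  apply RingEquiv.ext
  intro x
  rcases eq_or_ne x 0 with rfl | hx
  · simp
  obtain ⟨n, hn⟩ := mem_zpowers_iff.1 (hg (Units.mk0 x hx))
  have hx' : x = ((g ^ n : Fˣ) : F) := by rw [hn]; rfl
  have hab : a (b (g : F)) = b (a (g : F)) := by
    rw [hi, hj, hz, hz, hi, hj, ← Units.val_zpow_eq_zpow_val, ← Units.val_zpow_eq_zpow_val, ← zpow_mul,
      ← zpow_mul, mul_comm]
  rw [hx']
  show a (b _) = b (a _)
  rw [hz, hz, map_zpow₀, map_zpow₀, hab]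

theorem eq_one_of_fixed {m p j : ℕ} (hp : p.Prime) (hF : Fintype.card F = 2 ^ m)
    (hprim : ∀ l, l ∣ m → l < m → Odd (m / l) → ¬ p ∣ 2 ^ l - 1) {σ : RingAut F} (hσ : Odd (orderOf σ))
    {ζ : F} (hfix : σ ζ = ζ) (h1 : ζ ≠ 1) (hpow : ζ ^ (p ^ j) = 1) : σ = 1 := by
  obtain ⟨l, hlm, hL⟩ := card_fixed_field hF (zpowers σ)
  rw [Nat.card_zpowers] at hlm
  set L := FixedPoints.subfield (zpowers σ) F with hLdef
  have hmem : ζ ∈ L := by
    intro g
    obtain ⟨g, hg⟩ := g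
    show g ζ = ζ
    obtain ⟨n, rfl⟩ := mem_zpowers_iff.1 hg
    have : zpowers σ ≤ MulAction.stabilizer (RingAut F) ζ := zpowers_le.2 hfix
    exact this hg
  have hz0 : (⟨ζ, hmem⟩ : L) ≠ 0 := fun e => by
    have e' : ζ = 0 := congrArg Subtype.val e
    rw [e', zero_pow (pow_ne_zero _ hp.ne_zero)] at hpow
    exact zero_ne_one hpow
  haveI : Fintype L := Fintype.ofFinite L
  have hLc : ζ ^ (2 ^ l - 1) = 1 := by
    have := FiniteField.pow_card_sub_one_eq_one (⟨ζ, hmem⟩ : L) hz0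
    rw [← Nat.card_eq_fintype_card, hL] at this
    simpa using congrArg Subtype.val this
  have hdvd : p ∣ 2 ^ l - 1 := by
    obtain ⟨i, -, hi⟩ := (Nat.dvd_prime_pow hp).1 (orderOf_dvd_of_pow_eq_one hpow)
    rcases i with _ | i
    · exact absurd (orderOf_eq_one_iff.1 (by rw [hi, pow_zero])) h1
    · exact (dvd_pow_self p i.succ_ne_zero).trans (hi ▸ orderOf_dvd_of_pow_eq_one hLc)
  rw [← orderOf_eq_one_iff]
  by_contra hne
  have hpos : 0 < l := by
    rcases Nat.eq_zero_or_pos l with rfl | hl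
    · have : 0 < m := by
        rcases Nat.eq_zero_or_pos m with rfl | hm
        · have := Fintype.one_lt_card (α := F); rw [hF, pow_zero] at this; omega
        · exact hm
      omega
    · exact hl
  have hσ2 : 2 ≤ orderOf σ := by
    have := hσ.pos; omega
  refine hprim l (Dvd.intro _ hlm) ?_ ?_ hdvd
  · rw [← hlm]; exact lt_mul_of_one_lt_right hpos hσ2
  · rw [← hlm, Nat.mul_div_cancel_left _ hpos]; exact hσ

end Field

/-- A prime dividing `2 ^ m - 1`, neither `m` nor `2 ^ l - 1` for a proper divisor `l` of odd index. -/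
theorem exists_prim {m : ℕ} (hm : 3 ≤ m) : ∃ p : ℕ, p.Prime ∧ p ∣ 2 ^ m - 1 ∧ ¬ p ∣ m ∧
    ∀ l, l ∣ m → l < m → Odd (m / l) → ¬ p ∣ 2 ^ l - 1 := by
  by_cases h6 : m = 6
  · subst h6
    refine ⟨7, by norm_num, by norm_num, by norm_num, fun l _ hl => ?_⟩
    interval_cases l <;> simp_all [Nat.odd_iff]
  obtain ⟨r, hr, hrd, hprim⟩ := Cfsg.Agent.S2904.result 2 m (by norm_num) (by omega)
    (fun e => h6 e.2) (fun e => by omega)
  have hr2 : r ≠ 2 := by
    rintro rfl
    have : 2 ∣ 2 ^ m := dvd_pow_self 2 (by omega)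
    have := Nat.one_le_two_pow (n := m)
    omega
  refine ⟨r, hr, hrd, fun hrm => ?_, fun l hlm hl hodd hd => ?_⟩
  · have hfer : r ∣ 2 ^ (r - 1) - 1 := by
      have h := Nat.ModEq.pow_totient ((Nat.coprime_primes Nat.prime_two hr).2 (Ne.symm hr2))
      rw [Nat.totient_prime hr] at h
      exact (Nat.modEq_iff_dvd' Nat.one_le_two_pow).1 h.symm
    have hg : r ∣ 2 ^ Nat.gcd m (r - 1) - 1 :=
      Nat.pow_sub_one_gcd_pow_sub_one 2 m (r - 1) ▸ Nat.dvd_gcd hrd hfer
    have h2 := hr.two_le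
    rcases (Nat.gcd_le_left (r - 1) (show 0 < m by omega)).lt_or_eq with hlt | heq
    · exact hprim _ (Nat.gcd_pos_of_pos_left _ (by omega)) hlt hg
    · have h3 := Nat.le_of_dvd (by omega) (heq ▸ Nat.gcd_dvd_right m (r - 1) : m ∣ r - 1)
      have := Nat.le_of_dvd (by omega) hrm
      omega
  · exact hprim l (Nat.pos_of_dvd_of_pos hlm (by omega)) hl hd

variable {G : Type u} [Group G]

/-- The scalar part of `H` on the involutions, and a primitive prime. -/
structure Scalars (H : Subgroup G) (S : Sylow 2 G) (H1 : Subgroup G) (p : ℕ) : Prop where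
  le : H1 ≤ H
  base_le : base H S ≤ H1
  norm : H ≤ normalizer (H1 : Set G)
  comm : ∀ a ∈ H, ∀ b ∈ H, a * b * a⁻¹ * b⁻¹ ∈ H1
  cent : ∀ t : G, orderOf t = 2 → t ∈ H → ∀ y ∈ H1, Commute y t → y ∈ base H S
  units : ∃ (F : Type) (_ : Field F) (_ : Fintype F) (ψ : ↥H1 →* Fˣ), ∀ x, ψ x = 1 ↔ (x : G) ∈ base H S
  prime : p.Prime
  dvd : p ∣ kInv H
  ndvd : ¬ p ∣ H1.relIndex H
  key : ∀ a ∈ H, ∀ z ∈ H1, z ∉ base H S → (∃ j : ℕ, z ^ (p ^ j) ∈ base H S) →
    a * z * a⁻¹ * z⁻¹ ∈ base H S → a ∈ H1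

variable [Finite G]

set_option maxHeartbeats 1000000 in
theorem Setup.exists_scalars {H : Subgroup G} {S : Sylow 2 G} (h : Setup H S) :
    ∃ H1 p, Scalars H S H1 p := by
  classical
  haveI : Fact (Nat.Prime 2) := ⟨Nat.prime_two⟩
  haveI := h.solv
  set E := omega (S : Subgroup G) h.abelian with hE
  letI : CommGroup ↥E := { (inferInstance : Group ↥E) with
    mul_comm := fun a b => Subtype.ext (comm_of_mem h.abelian a.2.1 b.2.1) }
  letI : Module (ZMod 2) (Additive ↥E) := AddCommGroup.zmodModule fun x => by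
    apply Additive.toMul.injective
    exact Subtype.ext (by simpa [two_nsmul, pow_two] using x.toMul.2.2)
  haveI : Nontrivial (Additive ↥E) := by
    obtain ⟨t, ht, ht1⟩ := h.exists_mem_omega
    exact ⟨⟨Additive.ofMul ⟨t, ht⟩, 0, fun e => ht1 (congrArg Subtype.val e)⟩⟩
  -- the action by conjugation
  let act : ↥H → (Additive ↥E ≃+ Additive ↥E) := fun a =>
    { toFun := fun v => Additive.ofMul ⟨(a : G) * v.toMul * (a : G)⁻¹, h.conj_omega a.2 v.toMul.2⟩
      invFun := fun v => Additive.ofMul ⟨(a : G)⁻¹ * v.toMul * (a : G),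
        by simpa using h.conj_omega (inv_mem a.2) v.toMul.2⟩
      left_inv := fun v => Additive.toMul.injective (Subtype.ext (by
        show (a : G)⁻¹ * ((a : G) * v.toMul * (a : G)⁻¹) * a = v.toMul
        group))
      right_inv := fun v => Additive.toMul.injective (Subtype.ext (by
        show (a : G) * ((a : G)⁻¹ * v.toMul * (a : G)) * (a : G)⁻¹ = v.toMul
        group))
      map_add' := fun v w => Additive.toMul.injective (Subtype.ext (by
        show (a : G) * ((v.toMul : G) * w.toMul) * (a : G)⁻¹ =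
          (a : G) * v.toMul * (a : G)⁻¹ * ((a : G) * w.toMul * (a : G)⁻¹)
        group)) }
  let ρ₀ : ↥H →* (Additive ↥E ≃ₗ[ZMod 2] Additive ↥E) :=
    { toFun := fun a => { act a with map_smul' := fun c x => ZMod.map_smul (act a).toAddMonoidHom c x }
      map_one' := by
        ext v
        show (1 : G) * v.toMul * (1 : G)⁻¹ = v.toMul
        group
      map_mul' := fun a b => by
        ext v
        show (a : G) * b * v.toMul * ((a : G) * b)⁻¹ = (a : G) * ((b : G) * v.toMul * (b : G)⁻¹) * (a : G)⁻¹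
        group }
  have hact : ∀ (a : ↥H) (v : Additive ↥E), ((ρ₀ a v).toMul : G) = (a : G) * v.toMul * (a : G)⁻¹ :=
    fun a v => rfl
  have hone : ∀ v : Additive ↥E, v ≠ 0 → (v.toMul : G) ≠ 1 := fun v hv e => hv (Subtype.ext e)
  haveI : Finite (Additive ↥E ≃ₗ[ZMod 2] Additive ↥E) :=
    Finite.of_injective (fun e => (e : Additive ↥E → Additive ↥E)) DFunLike.coe_injective
  rcases Cfsg.Agent.S3360.result 2 (V := Additive ↥E) (G := ρ₀.range)
      (Group.isSolvable_of_surjective ρ₀.rangeRestrict_surjective) ρ₀.range.subtype Subtype.val_injective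
      (fun v w hv hw => by
        obtain ⟨d, hd, hdt⟩ := h.modData.exists_conj (h.omega_le v.toMul.2)
          (orderOf_of_mem_omega v.toMul.2 (hone v hv)) (h.omega_le w.toMul.2)
          (orderOf_of_mem_omega w.toMul.2 (hone w hw))
        exact ⟨⟨ρ₀ ⟨d, hd⟩, _, rfl⟩, Additive.toMul.injective (Subtype.ext hdt)⟩) with
    ⟨F, iF, iFF, e, hsemi⟩ | hbad
  swap
  · exfalso
    have hp : IsPGroup 2 ↥E := S.2.to_le fun x hx => hx.1
    obtain ⟨k, hk⟩ := hp.exists_card_eq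
    have hc : Nat.card (Additive ↥E) = 2 ^ k := hk
    have hb := h.big
    rw [← hE, hk] at hb
    rcases k with _ | k
    · simp at hb
    rw [hc, pow_succ] at hbad
    simp only [Set.mem_insert_iff, Set.mem_singleton_iff] at hbad
    omega
  have hsemi' : ∀ a : ↥H, ∃ (c : F) (σ : RingAut F), ∀ v, e (ρ₀ a v) = c * σ (e v) := fun a =>
    hsemi ⟨ρ₀ a, a, rfl⟩
  choose co sg hsg using hsemi'
  obtain ⟨v₁, hv₁⟩ : ∃ v, e v = 1 := ⟨e.symm 1, e.apply_symm_apply 1⟩
  have hco : ∀ a, co a ≠ 0 := by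
    intro a e0
    have h1 := hsg a v₁
    rw [e0, zero_mul, map_eq_zero_iff e e.injective, map_eq_zero_iff (ρ₀ a) (ρ₀ a).injective] at h1
    rw [h1, map_zero] at hv₁
    exact zero_ne_one hv₁
  have huniq : ∀ (a : ↥H) (c : F) (σ : RingAut F), (∀ v, e (ρ₀ a v) = c * σ (e v)) → co a = c ∧ sg a = σ := by
    intro a c σ hc
    have h1 := (hsg a v₁).symm.trans (hc v₁)
    rw [hv₁, map_one, map_one, mul_one, mul_one] at h1
    refine ⟨h1, RingEquiv.ext fun x => ?_⟩
    obtain ⟨v, rfl⟩ := e.surjective x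
    have h2 := (hsg a v).symm.trans (hc v)
    rw [h1] at h2
    exact mul_left_cancel₀ (h1 ▸ hco a) h2
  have hmul : ∀ a b : ↥H, co (a * b) = co a * sg a (co b) ∧ sg (a * b) = sg a * sg b := fun a b =>
    huniq (a * b) _ _ fun v => by
      rw [map_mul, LinearEquiv.mul_apply, hsg, hsg, map_mul, mul_assoc]
      rfl
  let σh : ↥H →* RingAut F := MonoidHom.mk' sg fun a b => (hmul a b).2
  have hbase : ∀ a : ↥H, (a : G) ∈ base H S ↔ co a = 1 ∧ sg a = 1 := by
    intro a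
    constructor
    · intro ha
      refine huniq a 1 1 fun v => ?_
      rw [one_mul]
      show e (ρ₀ a v) = e v
      congr 1
      refine Additive.toMul.injective (Subtype.ext ?_)
      rw [hact]
      exact mul_inv_eq_of_eq_mul (h.commute_omega ha v.toMul.2).eq
    · rintro ⟨h1, h2⟩
      refine h.mem_base_of_commute a.2 fun x hx => ?_
      have h3 := hsg a (Additive.ofMul ⟨x, hx⟩)
      rw [h1, h2, one_mul] at h3
      have h4 := congrArg (fun v : Additive ↥E => (v.toMul : G)) (e.injective h3)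
      simp only [hact, toMul_ofMul] at h4
      exact mul_inv_eq_iff_eq_mul.1 h4
  set H1 : Subgroup G := σh.ker.map H.subtype with hH1
  have hmem : ∀ a : ↥H, (a : G) ∈ H1 ↔ sg a = 1 := by
    intro a
    constructor
    · rintro ⟨b, hb, hba⟩
      rwa [← H.subtype_injective hba]
    · intro ha; exact ⟨a, ha, rfl⟩
  have hle : H1 ≤ H := map_subtype_le _
  obtain ⟨m, hm⟩ : ∃ m, Nat.card ↥E = 2 ^ m := (S.2.to_le fun x hx => hx.1 : IsPGroup 2 ↥E).exists_card_eq
  have hm3 : 3 ≤ m := by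
    by_contra hlt
    have := h.big
    rw [← hE, hm] at this
    have : 2 ^ m ≤ 2 ^ 2 := Nat.pow_le_pow_right two_pos (show m ≤ 2 by omega)
    omega
  have hF : Fintype.card F = 2 ^ m := by
    rw [← Nat.card_eq_fintype_card, ← Nat.card_congr e.toEquiv, ← hm]; rfl
  obtain ⟨p, hp, hpk, hpm, hprim⟩ := exists_prim hm3
  have hodd : ∀ a : ↥H, Odd (orderOf (sg a)) := by
    intro a
    set R := (base H S).subgroupOf H with hR
    haveI : R.Normal := (normal_subgroupOf_iff_le_normalizer h.base_le).mpr h.base_norm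
    have hidx : Odd R.index := by
      refine Nat.odd_iff.2 (Nat.two_dvd_ne_zero.1 fun h2 => ?_)
      refine (S.subtype h.sylow_le).not_dvd_index (h2.trans (index_dvd_of_le ?_))
      exact fun x hx => mem_subgroupOf.2 (mem_sup_left (mem_subgroupOf.1 hx))
    refine hidx.of_dvd_nat (orderOf_dvd_of_pow_eq_one ?_)
    show σh a ^ R.index = 1
    rw [← map_pow]
    exact ((hbase _).1 (mem_subgroupOf.1 (R.pow_index_mem a))).2
  let φ : ↥H1 →* Fˣ := MonoidHom.mk' (fun x => Units.mk0 (co ⟨x, hle x.2⟩) (hco _)) fun x y => Units.ext (by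
    show co (⟨x, hle x.2⟩ * ⟨y, hle y.2⟩) = co ⟨x, hle x.2⟩ * co ⟨y, hle y.2⟩
    rw [(hmul _ _).1, (hmem ⟨x, hle x.2⟩).1 x.2]
    rfl)
  have hφ : ∀ x : ↥H1, φ x = 1 ↔ (x : G) ∈ base H S := fun x => by
    rw [show (x : G) = ((⟨x, hle x.2⟩ : ↥H) : G) from rfl, hbase, and_iff_left ((hmem ⟨x, hle x.2⟩).1 x.2),
      Units.ext_iff]
    rfl
  refine ⟨H1, p, ⟨hle, fun x hx => (hmem ⟨x, h.base_le hx⟩).2 ((hbase ⟨x, h.base_le hx⟩).1 hx).2, ?_, ?_, ?_,
    ⟨F, iF, iFF, φ, hφ⟩, hp, ?_, ?_, ?_⟩⟩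
  · intro a ha
    refine Fusion.le_normalizer_of_conj_mem fun x hx => ?_
    obtain ⟨y, hy, rfl⟩ := hx
    exact ⟨⟨a, ha⟩ * y * ⟨a, ha⟩⁻¹, (MonoidHom.normal_ker σh).conj_mem _ hy _, rfl⟩
  · intro a ha b hb
    refine (hmem (⟨a, ha⟩ * ⟨b, hb⟩ * ⟨a, ha⟩⁻¹ * ⟨b, hb⟩⁻¹)).2 ?_
    show σh _ = 1
    rw [map_mul, map_mul, map_mul, map_inv, map_inv, ringAut_comm (σh ⟨a, ha⟩), mul_inv_cancel_right,
      mul_inv_cancel]
  · intro t ht2 htH y hy hc
    refine (hbase ⟨y, hle hy⟩).2 ⟨?_, (hmem ⟨y, hle hy⟩).1 hy⟩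
    set v : Additive ↥E := Additive.ofMul ⟨t, h.invol_mem_omega htH ht2⟩ with hv
    have hv0 : v ≠ 0 := fun e0 => Invol.ne_one ht2 (congrArg (fun v : Additive ↥E => (v.toMul : G)) e0)
    have h1 := hsg ⟨y, hle hy⟩ v
    rw [show ρ₀ ⟨y, hle hy⟩ v = v from Additive.toMul.injective (Subtype.ext
      (mul_inv_eq_of_eq_mul hc.eq)), (hmem ⟨y, hle hy⟩).1 hy] at h1
    exact (mul_eq_right₀ ((map_ne_zero_iff e e.injective).2 hv0)).1 h1.symm
  · rwa [show kInv H = 2 ^ m - 1 by rw [← hm, hE, h.card_omega]; omega]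
  · have hrel : H1.relIndex H = Nat.card σh.range := by
      rw [← index_ker σh, hH1, relIndex, subgroupOf, comap_map_eq_self_of_injective H.subtype_injective]
    rw [hrel]
    obtain ⟨l, hl, -⟩ := card_fixed_field hF σh.range
    exact fun hd => hpm (hl ▸ hd.mul_left l)
  · rintro a ha z hz hzb ⟨j, hj⟩ hcm
    set A : ↥H := ⟨a, ha⟩
    set Z : ↥H := ⟨z, hle hz⟩
    have hZ : sg Z = 1 := (hmem Z).1 hz
    refine (hmem A).2 (eq_one_of_fixed hp hF hprim (hodd A) (ζ := co Z) (j := j) ?_ ?_ ?_)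
    · have hcc := (hbase (A * Z * A⁻¹ * Z⁻¹)).1 hcm
      have hcAZ : co (A * Z * A⁻¹) = sg A (co Z) := by
        have h1 := (hmul A A⁻¹).1
        rw [mul_inv_cancel, ((hbase 1).1 (one_mem _)).1] at h1
        rw [(hmul (A * Z) A⁻¹).1, (hmul A Z).1, (hmul A Z).2, hZ, mul_one, mul_right_comm, ← h1, one_mul]
      have h2 := (hmul (A * Z * A⁻¹ * Z⁻¹) Z).1
      rw [inv_mul_cancel_right, hcAZ, hcc.1, hcc.2, one_mul] at h2
      exact h2
    · intro e0
      exact hzb ((hbase Z).2 ⟨e0, hZ⟩)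
    · have h1 : φ ⟨z, hz⟩ ^ (p ^ j) = 1 := by rw [← map_pow, hφ]; exact hj
      simpa [φ, Z] using congrArg Units.val h1

end Cfsg.Lib.AbTwo
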