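import Cfsg.Agent.Lib.AbTwo.Embedded
import Cfsg.Agent.Lib.StrongEmb.Core

/-!
The setting: a solvable strongly embedded subgroup containing the normalizer of an abelian Sylow 2-subgroup
with at least eight elements of square one.
-/

set_option autoImplicit false
set_option linter.style.haveILetI false
set_option linter.unusedSectionVars false

namespace Cfsg.Lib.AbTwo

open Subgroup Cfsg Cfsg.Lib.Invol MulAction
open Cfsg.Lib.StrongEmb (kInv kPart invSet GoodPrime ModData conj_mem_of_norm)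

universe u

variable {G : Type u} [Group G]

/-- A solvable strongly embedded subgroup over an abelian Sylow 2-subgroup of rank at least three. -/
structure Setup (H : Subgroup G) (S : Sylow 2 G) : Prop where
  se : IsStronglyEmbedded H
  solv : Group.IsSolvable ↥H
  abelian : IsMulCommutative ↥(S : Subgroup G)
  norm : normalizer ((S : Subgroup G) : Set G) ≤ H
  big : 8 ≤ Nat.card (omega (S : Subgroup G) abelian)
  simple : IsSimpleGroup G

/-- The odd core of a subgroup, inside the group. -/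
def core (H : Subgroup G) : Subgroup G := (Cfsg.oddCore ↥H).map H.subtype

/-- The core extended by the Sylow subgroup. -/
def base (H : Subgroup G) (S : Sylow 2 G) : Subgroup G := (S : Subgroup G) ⊔ core H

theorem core_le (H : Subgroup G) : core H ≤ H := map_subtype_le _

variable [Finite G]

theorem odd_core (H : Subgroup G) : Odd (Nat.card (core H)) := by
  rw [core, Core.card_map_subtype]; exact odd_oddCore

theorem core_norm (H : Subgroup G) : H ≤ normalizer (core H : Set G) := by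
  intro g hg
  refine Fusion.le_normalizer_of_conj_mem fun x hx => ?_
  obtain ⟨y, hy, rfl⟩ := hx
  exact ⟨⟨g, hg⟩ * y * ⟨g, hg⟩⁻¹, (inferInstance : (Cfsg.oddCore ↥H).Normal).conj_mem _ hy _, rfl⟩

theorem odd_orderOf_of_mem {K : Subgroup G} (hK : Odd (Nat.card K)) {y : G} (hy : y ∈ K) : Odd (orderOf y) :=
  hK.of_dvd_nat (K.orderOf_dvd_natCard hy)

theorem eq_one_of_odd_sq {y : G} (ho : Odd (orderOf y)) (h2 : y ^ 2 = 1) : y = 1 := by
  rcases (Nat.dvd_prime Nat.prime_two).1 (orderOf_dvd_of_pow_eq_one h2) with h | h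
  · exact orderOf_eq_one_iff.1 h
  · rw [h] at ho; exact absurd ho (by decide)

namespace Setup

variable {H : Subgroup G} {S : Sylow 2 G} (h : Setup H S)
include h

theorem sylow_le : (S : Subgroup G) ≤ H := le_normalizer.trans h.norm

theorem base_le : base H S ≤ H := sup_le h.sylow_le (core_le H)

theorem mem_base {y : G} : y ∈ base H S ↔ ∃ s ∈ (S : Subgroup G), ∃ x ∈ core H, s * x = y :=
  Core.mem_sup_of_le_normalizer (h.sylow_le.trans (core_norm H))

theorem sylow_inf_core {y : G} (hs : y ∈ (S : Subgroup G)) (hx : y ∈ core H) : y = 1 := by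
  obtain ⟨k, hk⟩ := S.2 ⟨y, hs⟩
  have h1 : orderOf y ∣ 2 ^ k := orderOf_dvd_of_pow_eq_one (by simpa using congrArg Subtype.val hk)
  exact orderOf_eq_one_iff.1 (Nat.eq_one_of_dvd_coprimes
    (Nat.Coprime.pow_right k (odd_orderOf_of_mem (odd_core H) hx).coprime_two_right) dvd_rfl h1)

theorem card_base : Nat.card (base H S) = Nat.card (S : Subgroup G) * Nat.card (core H) := by
  rw [← Nat.card_prod]
  refine (Nat.card_congr (Equiv.ofBijective
    (fun p : ↥(S : Subgroup G) × ↥(core H) => (⟨(p.1 : G) * (p.2 : G), mul_mem (mem_sup_left p.1.2) (mem_sup_right p.2.2)⟩ :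
      base H S)) ⟨?_, ?_⟩)).symm
  · rintro ⟨a, b⟩ ⟨a', b'⟩ e
    have e' : (a : G) * b = a' * b' := congrArg Subtype.val e
    have h1 : (a' : G)⁻¹ * a = (b' : G) * (b : G)⁻¹ := by
      calc (a' : G)⁻¹ * a = (a' : G)⁻¹ * ((a : G) * b) * (b : G)⁻¹ := by group
        _ = (b' : G) * (b : G)⁻¹ := by rw [e']; group
    have h2 := h.sylow_inf_core (mul_mem (inv_mem a'.2) a.2) (h1 ▸ mul_mem b'.2 (inv_mem b.2))
    have ha : a = a' := Subtype.ext (inv_mul_eq_one.1 h2).symm
    subst ha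
    exact Prod.ext rfl (Subtype.ext (mul_left_cancel e'))
  · rintro ⟨y, hy⟩
    obtain ⟨s, hs, x, hx, rfl⟩ := h.mem_base.1 hy
    exact ⟨(⟨s, hs⟩, ⟨x, hx⟩), rfl⟩

/-- The base is the preimage of the normal image of the Sylow subgroup modulo the core. -/
theorem mem_base_iff {y : G} (hy : y ∈ H) : y ∈ base H S ↔
    QuotientGroup.mk' (Cfsg.oddCore ↥H) ⟨y, hy⟩ ∈
      ((S.subtype h.sylow_le : Sylow 2 H) : Subgroup H).map (QuotientGroup.mk' (Cfsg.oddCore ↥H)) := by
  constructor
  · intro hb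
    obtain ⟨s, hs, x, hx, rfl⟩ := h.mem_base.1 hb
    obtain ⟨x', hx', rfl⟩ := hx
    refine ⟨⟨s, h.sylow_le hs⟩, mem_subgroupOf.2 hs, QuotientGroup.eq.2 ?_⟩
    have e : (⟨s, h.sylow_le hs⟩ : ↥H)⁻¹ * ⟨s * H.subtype x', hy⟩ = x' := Subtype.ext (by simp)
    exact e.symm ▸ hx'
  · rintro ⟨s, hs, e⟩
    refine h.mem_base.2 ⟨s, mem_subgroupOf.1 hs, ((s⁻¹ * ⟨y, hy⟩ : ↥H) : G),
      ⟨_, QuotientGroup.eq.1 e, rfl⟩, ?_⟩
    simp

theorem base_norm : H ≤ normalizer (base H S : Set G) := by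
  intro g hg
  refine Fusion.le_normalizer_of_conj_mem fun y hy => ?_
  haveI := h.solv
  haveI : Fact (Nat.Prime 2) := ⟨Nat.prime_two⟩
  have hn := (sylow_image (S.subtype h.sylow_le) (subtype_sylow_comm S h.abelian h.sylow_le)).1
  have hyH := h.base_le hy
  rw [h.mem_base_iff (mul_mem (mul_mem hg hyH) (inv_mem hg))]
  have : (⟨g * y * g⁻¹, mul_mem (mul_mem hg hyH) (inv_mem hg)⟩ : ↥H) = ⟨g, hg⟩ * ⟨y, hyH⟩ * ⟨g, hg⟩⁻¹ :=
    Subtype.ext (by simp)
  rw [this, map_mul, map_mul, map_inv]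
  exact hn.conj_mem _ ((h.mem_base_iff hyH).1 hy) _

theorem conj_base {g y : G} (hg : g ∈ H) (hy : y ∈ base H S) : g * y * g⁻¹ ∈ base H S :=
  conj_mem_of_norm (h.base_norm hg) hy

/-- Elements of 2-power order of `H` are conjugate into the Sylow subgroup. -/
theorem exists_conj_sylow {z : G} (hz : z ∈ H) {k : ℕ} (hk : orderOf z = 2 ^ k) :
    ∃ m ∈ H, m * z * m⁻¹ ∈ (S : Subgroup G) := by
  haveI : Fact (Nat.Prime 2) := ⟨Nat.prime_two⟩
  obtain ⟨P, hP⟩ := (IsPGroup.of_card (G := ↥(zpowers (⟨z, hz⟩ : H))) (p := 2) (n := k) (by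
    rw [Nat.card_zpowers, ← Subgroup.orderOf_coe, hk])).exists_le_sylow
  obtain ⟨m, hm⟩ := MulAction.exists_smul_eq H P (S.subtype h.sylow_le)
  have hmem : m * ⟨z, hz⟩ * m⁻¹ ∈ ((S.subtype h.sylow_le : Sylow 2 H) : Subgroup H) := by
    rw [← hm, Sylow.coe_subgroup_smul, ← SetLike.mem_coe]
    exact ⟨⟨z, hz⟩, hP (mem_zpowers _), rfl⟩
  exact ⟨m, m.2, mem_subgroupOf.1 hmem⟩

theorem two_elt_mem_base {z : G} (hz : z ∈ H) {k : ℕ} (hk : orderOf z = 2 ^ k) : z ∈ base H S := by
  obtain ⟨m, hm, hmz⟩ := h.exists_conj_sylow hz hk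
  have := h.conj_base (inv_mem hm) (mem_sup_left hmz : m * z * m⁻¹ ∈ base H S)
  rwa [show m⁻¹ * (m * z * m⁻¹) * m⁻¹⁻¹ = z by group] at this

theorem exists_mem_omega : ∃ t ∈ omega (S : Subgroup G) h.abelian, t ≠ 1 :=
  (bot_or_exists_ne_one _).resolve_left fun e => by
    have := h.big; rw [e, card_bot] at this; omega

theorem faith : ∀ g : G, (∀ x : G ⧸ H, g • x = x) → g = 1 := by
  haveI := h.simple
  intro g hg
  set K : Subgroup G :=
    { carrier := {g | ∀ x : G ⧸ H, g • x = x}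
      mul_mem' := fun {a b} ha hb x => by rw [mul_smul, hb, ha]
      one_mem' := fun x => one_smul _ x
      inv_mem' := fun {a} ha x => by rw [inv_smul_eq_iff, ha] } with hK
  haveI hKn : K.Normal := ⟨fun a ha c x => by rw [mul_smul, mul_smul, ha, smul_inv_smul]⟩
  rcases hKn.eq_bot_or_eq_top with e | e
  · exact mem_bot.1 (e ▸ (show g ∈ K from hg))
  · exfalso
    refine h.se.1 (eq_top_iff.2 fun a _ => ?_)
    exact smul_coset_one_eq.mp ((e ▸ mem_top a : a ∈ K) (QuotientGroup.mk 1))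

theorem modData : ModData H (core H) where
  se := h.se
  faith := h.faith
  le := core_le H
  norm := core_norm H
  odd := odd_core H
  comm := fun s t hs ht hs2 ht2 => by
    have key : ∀ z ∈ H, orderOf z = 2 → z ∈ base H S := fun z hz hz2 =>
      h.two_elt_mem_base hz (k := 1) (by rw [hz2, pow_one])
    haveI := h.solv
    set f := QuotientGroup.mk' (Cfsg.oddCore ↥H) with hf
    obtain ⟨a, ha, ea⟩ := (h.mem_base_iff hs).1 (key s hs hs2)
    obtain ⟨b, hb, eb⟩ := (h.mem_base_iff ht).1 (key t ht ht2)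
    have hcomm : f ⟨s, hs⟩ * f ⟨t, ht⟩ = f ⟨t, ht⟩ * f ⟨s, hs⟩ := by
      rw [← ea, ← eb, ← map_mul, ← map_mul]
      exact congrArg f (Subtype.ext (comm_of_mem h.abelian (mem_subgroupOf.1 ha) (mem_subgroupOf.1 hb)))
    have h2 : f (⟨s, hs⟩ * ⟨t, ht⟩ * (⟨s, hs⟩ * ⟨t, ht⟩)) = 1 := by
      rw [map_mul, map_mul, mul_assoc, ← mul_assoc (f ⟨t, ht⟩), ← hcomm, mul_assoc, ← map_mul f ⟨t, ht⟩,
        show (⟨t, ht⟩ : ↥H) * ⟨t, ht⟩ = 1 from Subtype.ext (inv_mul_self ht2), map_one, mul_one, ← map_mul,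
        show (⟨s, hs⟩ : ↥H) * ⟨s, hs⟩ = 1 from Subtype.ext (inv_mul_self hs2), map_one]
    exact ⟨_, (QuotientGroup.eq_one_iff _).1 h2, rfl⟩
  four := by
    obtain ⟨s, hs, hs1⟩ := h.exists_mem_omega
    obtain ⟨t, ht, ht1, hts⟩ : ∃ t ∈ omega (S : Subgroup G) h.abelian, t ≠ 1 ∧ t ≠ s := by
      by_contra hc
      push Not at hc
      have hle : ((omega (S : Subgroup G) h.abelian : Subgroup G) : Set G).ncard ≤ ({1, s} : Set G).ncard := by
        refine Set.ncard_le_ncard (fun x hx => ?_) (Set.toFinite _)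
        rcases eq_or_ne x 1 with e | e
        · simp [e]
        · simp [hc x hx e]
      rw [← Nat.card_coe_set_eq] at hle
      have h2 : ({1, s} : Set G).ncard ≤ 2 := (Set.ncard_insert_le _ _).trans (by simp)
      have hbig : 8 ≤ Nat.card ↥((omega (S : Subgroup G) h.abelian : Subgroup G) : Set G) := h.big
      omega
    exact ⟨s, t, h.sylow_le hs.1, h.sylow_le ht.1, orderOf_of_mem_omega hs hs1, orderOf_of_mem_omega ht ht1,
      hts.symm, comm_of_mem h.abelian hs.1 ht.1⟩

theorem commute_core {u x : G} (hu : u ∈ H) (hu2 : orderOf u = 2) (hx : x ∈ core H) : Commute x u :=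
  h.modData.commute_core hu hu2 hx

theorem commute_invol {s t : G} (hs : s ∈ H) (ht : t ∈ H) (hs2 : orderOf s = 2) (ht2 : orderOf t = 2) :
    Commute s t := h.modData.commute_invol hs ht hs2 ht2

/-- The involutions of `H` are the non-identity elements of square one of the Sylow subgroup. -/
theorem invol_mem_omega {u : G} (hu : u ∈ H) (hu2 : orderOf u = 2) : u ∈ omega (S : Subgroup G) h.abelian := by
  obtain ⟨s, hs, x, hx, e⟩ := h.mem_base.1 (h.two_elt_mem_base hu (k := 1) (by rw [hu2, pow_one]))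
  have hc := h.commute_core hu hu2 hx
  have hs' : s = u * x⁻¹ := by rw [← e]; group
  have h1 : s ^ 2 = x⁻¹ ^ 2 := by
    rw [hs', hc.inv_left.symm.mul_pow, show u ^ 2 = 1 from hu2 ▸ pow_orderOf_eq_one u, one_mul]
  have h2 : x⁻¹ ^ 2 = 1 := h.sylow_inf_core (h1 ▸ pow_mem hs 2) (pow_mem (inv_mem hx) 2)
  have h3 := eq_one_of_odd_sq (odd_orderOf_of_mem (odd_core H) (inv_mem hx)) h2
  rw [h3, mul_one] at hs'
  exact ⟨hs' ▸ hs, hu2 ▸ pow_orderOf_eq_one u⟩

theorem omega_le : omega (S : Subgroup G) h.abelian ≤ H := fun _ hx => h.sylow_le hx.1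

theorem conj_omega {g e : G} (hg : g ∈ H) (he : e ∈ omega (S : Subgroup G) h.abelian) :
    g * e * g⁻¹ ∈ omega (S : Subgroup G) h.abelian := by
  rcases eq_or_ne e 1 with rfl | h1
  · simp
  exact h.invol_mem_omega (mul_mem (mul_mem hg (h.omega_le he)) (inv_mem hg))
    (by rw [Invol.orderOf_conj_eq]; exact orderOf_of_mem_omega he h1)

theorem mem_omega_iff {e : G} : e ∈ omega (S : Subgroup G) h.abelian ↔ e = 1 ∨ orderOf e = 2 ∧ e ∈ H := by
  constructor
  · intro he
    exact (eq_or_ne e 1).imp_right fun h1 => ⟨orderOf_of_mem_omega he h1, h.omega_le he⟩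
  · rintro (rfl | ⟨h2, heH⟩)
    · exact one_mem _
    · exact h.invol_mem_omega heH h2

theorem card_omega : Nat.card (omega (S : Subgroup G) h.abelian) = kInv H + 1 := by
  classical
  haveI : Fintype G := Fintype.ofFinite G
  have e : (Finset.univ.filter fun x => x ∈ omega (S : Subgroup G) h.abelian) =
      insert 1 (Finset.univ.filter fun x : G => orderOf x = 2 ∧ x ∈ H) := by
    ext x
    simp [h.mem_omega_iff]
  have hc := congrArg Finset.card e
  rw [Finset.card_insert_of_notMem (by simp), ← Fintype.card_subtype, ← Fintype.card_subtype,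
    ← Nat.card_eq_fintype_card, ← Nat.card_eq_fintype_card] at hc
  exact hc

theorem seven_le_kInv : 7 ≤ kInv H := by
  have := h.big; rw [h.card_omega] at this; omega

theorem commute_omega {y e : G} (hy : y ∈ base H S) (he : e ∈ omega (S : Subgroup G) h.abelian) :
    Commute y e := by
  rcases eq_or_ne e 1 with rfl | h1
  · exact Commute.one_right y
  obtain ⟨s, hs, x, hx, rfl⟩ := h.mem_base.1 hy
  exact Commute.mul_left (comm_of_mem h.abelian hs he.1)
    (h.commute_core (h.omega_le he) (orderOf_of_mem_omega he h1) hx)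

/-- The elements of `H` centralizing the elements of square one lie in the base. -/
theorem mem_base_of_commute {y : G} (hy : y ∈ H)
    (hc : ∀ e ∈ omega (S : Subgroup G) h.abelian, Commute y e) : y ∈ base H S := by
  haveI := h.solv
  haveI : Fact (Nat.Prime 2) := ⟨Nat.prime_two⟩
  -- the odd part centralizes the image of the Sylow subgroup
  have hodd : ∀ z ∈ H, (∀ e ∈ omega (S : Subgroup G) h.abelian, Commute z e) → Odd (orderOf z) →
      z ∈ base H S := by
    intro z hz hzc hzo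
    set f := QuotientGroup.mk' (Cfsg.oddCore ↥H) with hf
    have hn := sylow_image (S.subtype h.sylow_le) (subtype_sylow_comm S h.abelian h.sylow_le)
    rw [h.mem_base_iff hz]
    refine hn.2 (mem_centralizer_iff.2 ?_)
    rintro _ ⟨s, hs, rfl⟩
    obtain ⟨j, hj⟩ := S.2 ⟨(s : G), mem_subgroupOf.1 hs⟩
    have hj' : (s : G) ^ 2 ^ j = 1 := by simpa using congrArg Subtype.val hj
    clear hj
    induction j generalizing s with
    | zero =>
      rw [pow_zero, pow_one] at hj'
      rw [show s = 1 from Subtype.ext hj', map_one, one_mul, mul_one]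
    | succ j ih =>
      set w := f ⟨z, hz⟩ with hw
      have h2 : f (s ^ 2) * w = w * f (s ^ 2) := ih (s ^ 2) (pow_mem hs 2) (by
        rw [SubgroupClass.coe_pow, ← pow_mul, ← pow_succ']; exact hj')
      set T := ((S.subtype h.sylow_le : Sylow 2 H) : Subgroup H).map f with hT
      have hTc : ∀ a ∈ T, ∀ b ∈ T, Commute a b := by
        rintro _ ⟨a, ha, rfl⟩ _ ⟨b, hb, rfl⟩
        rw [Commute, SemiconjBy, ← map_mul, ← map_mul]
        exact congrArg f (Subtype.ext (comm_of_mem h.abelian (mem_subgroupOf.1 ha) (mem_subgroupOf.1 hb)))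
      have hsT : f s ∈ T := mem_map_of_mem f hs
      set c := (f s)⁻¹ * (w * f s * w⁻¹) with hcdef
      have hcT : c ∈ T := mul_mem (inv_mem hsT) (hn.1.conj_mem _ hsT _)
      have hc2 : c ^ 2 = 1 := by
        rw [hcdef, (hTc _ (inv_mem hsT) _ (hn.1.conj_mem _ hsT _)).mul_pow, conj_pow, ← map_pow, ← h2,
          inv_pow, ← map_pow]
        group
      obtain ⟨a, ha, hac⟩ := hcT
      have ha2 : (a : G) ^ 2 ∈ core H := ⟨a ^ 2, (QuotientGroup.eq_one_iff _).1 (by
        show f (a ^ 2) = 1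
        rw [map_pow, hac, hc2]), SubgroupClass.coe_pow a 2⟩
      have haE : (a : G) ∈ omega (S : Subgroup G) h.abelian :=
        ⟨mem_subgroupOf.1 ha, h.sylow_inf_core (pow_mem (mem_subgroupOf.1 ha) 2) ha2⟩
      have hwc : Commute w c := by
        rw [← hac, hw, Commute, SemiconjBy, ← map_mul, ← map_mul]
        exact congrArg f (Subtype.ext (hzc _ haE).eq)
      have hpow : ∀ i : ℕ, w ^ i * f s * (w ^ i)⁻¹ = f s * c ^ i := by
        intro i
        induction i with
        | zero => simp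
        | succ i ihi =>
          have h1 : w * f s * w⁻¹ = f s * c := by rw [hcdef]; group
          calc w ^ (i + 1) * f s * (w ^ (i + 1))⁻¹ = w * (w ^ i * f s * (w ^ i)⁻¹) * w⁻¹ := by group
            _ = (w * f s * w⁻¹) * (w * c ^ i * w⁻¹) := by rw [ihi]; group
            _ = f s * c ^ (i + 1) := by
              rw [h1, (hwc.pow_right i).eq, mul_inv_cancel_right, mul_assoc, ← pow_succ']
      have h3 : c ^ orderOf z = 1 := by
        have h4 := hpow (orderOf z)
        rw [← map_pow, show (⟨z, hz⟩ : ↥H) ^ orderOf z = 1 from Subtype.ext (by simp [pow_orderOf_eq_one]),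
          map_one, one_mul, inv_one, mul_one] at h4
        exact mul_eq_left.1 h4.symm
      obtain ⟨i, hi⟩ := hzo
      rw [hi, pow_succ, pow_mul, hc2, one_pow, one_mul] at h3
      have h5 : w * f s * w⁻¹ = f s := by
        have := h3
        rw [hcdef, inv_mul_eq_one] at this
        exact this.symm
      exact (mul_inv_eq_iff_eq_mul.1 h5).symm
  obtain ⟨a, b, hb, hab⟩ := Nat.exists_eq_pow_mul_and_not_dvd (orderOf_pos y).ne' 2 (by norm_num)
  have hbpos : b ≠ 0 := fun e => hb (e ▸ dvd_zero 2)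
  have h1 : y ^ b ∈ base H S := h.two_elt_mem_base (pow_mem hy _) (k := a) (by
    rw [orderOf_pow_of_dvd hbpos (hab ▸ dvd_mul_left b _), hab, Nat.mul_div_cancel _ (Nat.pos_of_ne_zero hbpos)])
  have h2 : y ^ (2 ^ a) ∈ base H S := hodd _ (pow_mem hy _) (fun e he => (hc e he).pow_left _) (by
    rw [orderOf_pow_of_dvd (pow_ne_zero _ two_ne_zero) (hab ▸ dvd_mul_right _ b), hab,
      Nat.mul_div_cancel_left _ (pow_pos two_pos a)]
    exact Nat.odd_iff.2 (Nat.two_dvd_ne_zero.1 hb))
  have hcop : Nat.Coprime (2 ^ a) b := Nat.Coprime.pow_left a ((Nat.prime_two.coprime_iff_not_dvd).2 hb)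
  have hy' : y = (y ^ (2 ^ a)) ^ (Nat.gcdA (2 ^ a) b) * (y ^ b) ^ (Nat.gcdB (2 ^ a) b) := by
    conv_lhs => rw [← zpow_one y]
    rw [← zpow_natCast y (2 ^ a), ← zpow_natCast y b, ← zpow_mul, ← zpow_mul, ← zpow_add,
      ← Nat.gcd_eq_gcd_ab, hcop.gcd_eq_one]
    rfl
  rw [hy']
  exact mul_mem (zpow_mem h2 _) (zpow_mem h1 _)

theorem centralizer_le {s : G} (hs : s ∈ (S : Subgroup G)) (hs1 : s ≠ 1) :
    centralizer ({s} : Set G) ≤ H := by
  intro g hg
  obtain ⟨k, hk⟩ := S.2 ⟨s, hs⟩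
  have hd : orderOf s ∣ 2 ^ k := orderOf_dvd_of_pow_eq_one (by simpa using congrArg Subtype.val hk)
  obtain ⟨j, -, hj⟩ := (Nat.dvd_prime_pow Nat.prime_two).1 hd
  obtain ⟨i, rfl⟩ : ∃ i, j = i + 1 := Nat.exists_eq_succ_of_ne_zero fun e => hs1
    (orderOf_eq_one_iff.1 (by rw [hj, e, pow_zero]))
  have h2 : orderOf (s ^ 2 ^ i) = 2 := by
    rw [orderOf_pow_of_dvd (pow_ne_zero _ two_ne_zero) (hj ▸ pow_dvd_pow 2 i.le_succ), hj, pow_succ,
      Nat.mul_div_cancel_left _ (pow_pos two_pos i)]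
  exact se_centralizer h.se (pow_mem (h.sylow_le hs) _) h2
    (Commute.pow_right (mem_centralizer_singleton_iff.1 hg) _)

/-- The signalizer of an element of the Sylow subgroup is its centralizer in the core. -/
theorem mem_theta_iff {s y : G} (hs : s ∈ (S : Subgroup G)) (hs1 : s ≠ 1) :
    y ∈ theta s ↔ Commute y s ∧ y ∈ core H := by
  constructor
  · intro hy
    refine ⟨mem_centralizer_singleton_iff.1 (theta_le s hy), ?_⟩
    haveI := h.solv
    haveI : Fact (Nat.Prime 2) := ⟨Nat.prime_two⟩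
    have hle : theta s ≤ H := (theta_le s).trans (h.centralizer_le hs hs1)
    have h1 := odd_le_oddCore (S.subtype h.sylow_le) (subtype_sylow_comm S h.abelian h.sylow_le)
      (Q := (theta s).subgroupOf H)
      (by rw [Nat.card_congr (subgroupOfEquivOfLe hle).toEquiv]; exact odd_theta s)
      (fun a ha => Fusion.le_normalizer_of_conj_mem fun q hq => mem_subgroupOf.2 (by
        have ha' : (a : G) ∈ (S : Subgroup G) := mem_subgroupOf.1 ha
        exact theta_normal (sylow_le_centralizer S h.abelian hs ha') (mem_subgroupOf.1 hq)))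
    exact ⟨⟨y, hle hy⟩, h1 (mem_subgroupOf.2 hy), rfl⟩
  · rintro ⟨hc, hy⟩
    set C := centralizer ({s} : Set G) with hC
    have hyC : y ∈ C := mem_centralizer_singleton_iff.2 hc
    refine ⟨⟨y, hyC⟩, Core.le_pPrimeCore' (N := (core H).subgroupOf C) ?_ ?_ (mem_subgroupOf.2 hy), rfl⟩
    · exact ⟨fun a ha c => mem_subgroupOf.2
        (conj_mem_of_norm (core_norm H (h.centralizer_le hs hs1 c.2)) (mem_subgroupOf.1 ha))⟩
    · refine Nat.coprime_two_right.2 ?_
      refine (odd_core H).of_dvd_nat ?_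
      exact card_comap_dvd_of_injective _ C.subtype C.subtype_injective

/-- An element fixing a point and inverted by an involution fixing it is trivial if it has odd order. -/
theorem inv_fix_trivial {u j : G} {x : G ⧸ H} (hu2 : orderOf u = 2) (hu : u • x = x) (hj : j • x = x)
    (hinv : u * j * u⁻¹ = j⁻¹) (hodd : Odd (orderOf j)) : j = 1 := by
  obtain ⟨g, rfl⟩ := QuotientGroup.mk_surjective x
  have hu' : g⁻¹ * u * g ∈ H := smul_coset_eq_iff.mp hu
  have hj' : g⁻¹ * j * g ∈ H := smul_coset_eq_iff.mp hj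
  have ha2 : orderOf (g⁻¹ * u * g) = 2 := by
    simpa [mul_assoc, hu2] using Invol.orderOf_conj_eq g⁻¹ u
  have hb2 : orderOf ((g⁻¹ * j * g) * (g⁻¹ * u * g) * (g⁻¹ * j * g)⁻¹) = 2 := by
    rw [Invol.orderOf_conj_eq, ha2]
  have hc := h.commute_invol hu' (mul_mem (mul_mem hj' hu') (inv_mem hj')) ha2 hb2
  have e : (g⁻¹ * u * g) * ((g⁻¹ * j * g) * (g⁻¹ * u * g) * (g⁻¹ * j * g)⁻¹) = g⁻¹ * (j⁻¹ * j⁻¹) * g := by
    calc _ = g⁻¹ * ((u * j * u⁻¹) * (u * u) * j⁻¹) * g := by group
      _ = _ := by rw [hinv, inv_mul_self hu2]; group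
  have h1 : (g⁻¹ * (j⁻¹ * j⁻¹) * g) ^ 2 = 1 := by
    rw [← e, hc.mul_pow, show (g⁻¹ * u * g) ^ 2 = 1 from ha2 ▸ pow_orderOf_eq_one _, one_mul,
      show ((g⁻¹ * j * g) * (g⁻¹ * u * g) * (g⁻¹ * j * g)⁻¹) ^ 2 = 1 from hb2 ▸ pow_orderOf_eq_one _]
  have h2 : (j⁻¹ * j⁻¹) ^ 2 = 1 := by
    rw [pow_two] at h1
    calc (j⁻¹ * j⁻¹) ^ 2 = g * (g⁻¹ * (j⁻¹ * j⁻¹) * g * (g⁻¹ * (j⁻¹ * j⁻¹) * g)) * g⁻¹ := by
          rw [pow_two]; group
      _ = 1 := by rw [h1]; group
  rw [← pow_two, ← pow_mul, inv_pow, inv_eq_one] at h2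
  have h3 : orderOf j ∣ 2 ^ 2 := orderOf_dvd_of_pow_eq_one (by simpa using h2)
  exact orderOf_eq_one_iff.1 (Nat.eq_one_of_dvd_coprimes
    (Nat.Coprime.pow_right 2 hodd.coprime_two_right) dvd_rfl h3)

/-- No involution centralizes a non-identity element of odd order inverted by an involution. -/
theorem eq_one_of_inverted {u i j : G} (hu2 : orderOf u = 2) (hi2 : orderOf i = 2)
    (hinv : u * j * u⁻¹ = j⁻¹) (hij : Commute i j) (hodd : Odd (orderOf j)) : j = 1 := by
  have pair : ∀ a b : G, orderOf a = 2 → orderOf b = 2 → Commute a b → a * j * a⁻¹ = j⁻¹ → Commute b j →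
      j = 1 := by
    intro a b ha hb hab hainv hbj
    obtain ⟨x, hx⟩ := StrongEmb.exists_fix h.se hb
    exact h.inv_fix_trivial ha (StrongEmb.smul_eq_of_commute h.se hb hx hab)
      (StrongEmb.smul_eq_of_commute h.se hb hx hbj.symm) hainv hodd
  -- the elements fixing or inverting `j`
  let T : Subgroup G :=
    { carrier := {y | y * j * y⁻¹ = j ∨ y * j * y⁻¹ = j⁻¹}
      one_mem' := Or.inl (by simp)
      mul_mem' := fun {a b} ha hb => by
        show a * b * j * (a * b)⁻¹ = j ∨ a * b * j * (a * b)⁻¹ = j⁻¹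
        rw [show a * b * j * (a * b)⁻¹ = a * (b * j * b⁻¹) * a⁻¹ by group]
        rcases hb with hb | hb <;> rw [hb]
        · exact ha
        · rw [← conj_inv]
          rcases ha with ha | ha <;> rw [ha]
          · exact Or.inr rfl
          · exact Or.inl (inv_inv j)
      inv_mem' := fun {a} ha => by
        show a⁻¹ * j * a⁻¹⁻¹ = j ∨ a⁻¹ * j * a⁻¹⁻¹ = j⁻¹
        rw [inv_inv]
        rcases ha with ha | ha
        · exact Or.inl (by calc a⁻¹ * j * a = a⁻¹ * (a * j * a⁻¹) * a := by rw [ha]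
            _ = j := by group)
        · exact Or.inr (by calc a⁻¹ * j * a = (a⁻¹ * (a * j * a⁻¹) * a)⁻¹ := by rw [ha]; group
            _ = j⁻¹ := by group) }
  have hiuT : i * u ∈ T :=
    mul_mem (Or.inl (by rw [hij.eq, mul_inv_cancel_right]) : i ∈ T) (Or.inr hinv : u ∈ T)
  rcases Nat.even_or_odd (orderOf (i * u)) with he | ho
  · obtain ⟨hz2, hzi, hzu⟩ := central_involution hi2 hu2 he
    rcases (pow_mem hiuT (orderOf (i * u) / 2) : _ ∈ T) with hh | hh
    · exact pair u _ hu2 hz2 hzu.symm hinv (mul_inv_eq_iff_eq_mul.1 hh)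
    · exact pair _ i hz2 hi2 hzi hh hij
  · obtain ⟨d, hd, hdu⟩ := exists_conj_zpowers_of_odd hi2 hu2 ho
    have hd' : d * j * d⁻¹ = j ∨ d * j * d⁻¹ = j⁻¹ := zpowers_le.2 hiuT hd
    have hc : Commute u (d * j * d⁻¹) := by
      rw [← hdu]; exact hij.map (MulAut.conj d).toMonoidHom
    have huj : Commute u j := by
      rcases hd' with e | e <;> rw [e] at hc
      · exact hc
      · simpa using hc.inv_right
    rw [huj.eq, mul_inv_cancel_right] at hinv
    exact eq_one_of_odd_sq hodd (by rw [pow_two]; exact mul_eq_one_iff_eq_inv.2 hinv)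

/-- An element of the base inverted by an involution is trivial if it has odd order. -/
theorem eq_one_of_inverted_base {u j : G} (hu2 : orderOf u = 2) (hj : j ∈ base H S)
    (hinv : u * j * u⁻¹ = j⁻¹) (hodd : Odd (orderOf j)) : j = 1 := by
  obtain ⟨t, ht, ht1⟩ := h.exists_mem_omega
  exact h.eq_one_of_inverted hu2 (orderOf_of_mem_omega ht ht1) hinv (h.commute_omega hj ht).symm hodd

theorem odd_kInv : Odd (kInv H) := h.modData.odd_kInv

/-- Every prime dividing the number of involutions of `H` is good. -/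
theorem goodPrime {p : ℕ} [Fact p.Prime] (hp : p ∣ kInv H) : GoodPrime H p := by
  intro x w P hw2 hwx hPp hPx _
  have hpodd : Odd p := h.odd_kInv.of_dvd_nat hp
  have hsub : invSet w P ⊆ {1} := by
    rintro j ⟨hj, hji⟩
    have hjo : Odd (orderOf j) := by
      obtain ⟨n, hn⟩ := IsPGroup.iff_card.1 hPp
      exact (hn ▸ hpodd.pow : Odd (Nat.card P)).of_dvd_nat (P.orderOf_dvd_natCard hj)
    exact h.inv_fix_trivial hw2 hwx (mem_stabilizer_iff.1 (hPx hj)) hji hjo
  calc (invSet w P).ncard ≤ ({1} : Set G).ncard := Set.ncard_le_ncard hsub (Set.toFinite _)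
    _ = 1 := Set.ncard_singleton _
    _ < kPart H p := Nat.one_lt_pow
      ((Fact.out : p.Prime).factorization_pos_of_dvd (StrongEmb.kInv_pos h.se).ne' hp).ne'
      (Fact.out : p.Prime).one_lt

theorem pretransitive {a b c d : G ⧸ H} (hab : a ≠ b) (hcd : c ≠ d) :
    ∃ g : G, g • a = c ∧ g • b = d := h.modData.pretransitive hab hcd

/-- The order of the centralizer of an involution of `H`. -/
theorem card_centralizer_mul {t : G} (ht : t ∈ H) (ht2 : orderOf t = 2) :
    kInv H * Nat.card (centralizer ({t} : Set G)) = Nat.card H := by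
  have hle : centralizer ({t} : Set G) ≤ H := fun g hg =>
    se_centralizer h.se ht ht2 (mem_centralizer_singleton_iff.1 hg)
  rw [h.modData.kInv_eq ht ht2, ← Nat.card_congr (subgroupOfEquivOfLe hle).toEquiv, index_mul_card]

end Setup

end Cfsg.Lib.AbTwo
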